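import Groth.Agent.TopDescent.LvlSheaf

/-!
# Cohomology classes on opens attached to cycles of families
-/

set_option linter.style.haveILetI false
set_option linter.unusedSectionVars false
set_option synthInstance.maxHeartbeats 400000
set_option backward.isDefEq.respectTransparency false

universe u

open CategoryTheory Limits Opposite TopologicalSpace Topology Filter Abelian

noncomputable section

namespace Groth.Agent.TopDescent

open CohBase

namespace Lvl

variable {Y : TopCat.{u}} (L : Lvl (Y : Type u))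

/-- The class of the iterated extension. -/
def eCls : ∀ q : ℕ, Ext.{u} (L.iter q).shf L.shf q
  | 0 => Ext.mk₀ (𝟙 _)
  | q + 1 => (L.iter q).step_shortExact.extClass.comp (eCls q) (Nat.add_comm 1 q)

theorem comp_eCls_zero (U : Opens Y) (n : ℕ) (x : HU U (L.iter 0).shf n) :
    x.comp (L.eCls 0) (add_zero n) = x :=
  Ext.comp_mk₀_id x

theorem comp_eCls_succ (U : Opens Y) (j m n : ℕ) (h : m + (j + 1) = n)
    (x : HU U (L.iter (j + 1)).shf m) :
    x.comp (L.eCls (j + 1)) h =
      (hδ (L.iter j).step_shortExact U m x).comp (L.eCls j) (show m + 1 + j = n by omega) :=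
  (Ext.comp_assoc x (L.iter j).step_shortExact.extClass (L.eCls j) rfl (Nat.add_comm 1 j)
    (show m + 1 + j = n by omega)).symm

instance subsingleton_HU_god_open (U : Opens Y) (n : ℕ) :
    Subsingleton (HU U L.step.X₂ (n + 1)) := by
  haveI := L.isFlasque_god
  exact LocZLib.subsingleton_HU_flasque U n L.god

theorem comp_eCls_bijective (U : Opens Y) : ∀ (j m n : ℕ) (h : m + 1 + j = n),
    Function.Bijective fun x : HU U (L.iter j).shf (m + 1) => x.comp (L.eCls j) h
  | 0, m, n, h => by
    obtain rfl : m + 1 = n := h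
    exact ⟨fun a b e => ((L.comp_eCls_zero U _ a).symm.trans e).trans (L.comp_eCls_zero U _ b),
      fun b => ⟨b, L.comp_eCls_zero U _ b⟩⟩
  | j + 1, m, n, h => by
    have e : (fun x : HU U (L.iter (j + 1)).shf (m + 1) => x.comp (L.eCls (j + 1)) h) =
        (fun x : HU U (L.iter j).shf (m + 1 + 1) => x.comp (L.eCls j) (by omega : m + 1 + 1 + j = n)) ∘
          hδ (L.iter j).step_shortExact U (m + 1) :=
      funext fun x => L.comp_eCls_succ U j (m + 1) n h x
    rw [e]
    exact (comp_eCls_bijective U j (m + 1) n (by omega)).comp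
      (hδ_bijective (L.iter j).step_shortExact U (m + 1))

/-- The class of a cycle on an open. -/
def ψ (U : Opens Y) (q : ℕ) : (L.iter q).secSub U →+ HU U L.shf q :=
  ((L.eCls q).postcomp (freeAb U) (zero_add q)).comp (H0Equiv U (L.iter q).shf).symm.toAddMonoidHom

theorem ψ_apply (U : Opens Y) (q : ℕ) (t : (L.iter q).secSub U) :
    L.ψ U q t = ((H0Equiv U (L.iter q).shf).symm t).comp (L.eCls q) (zero_add q) := rfl

theorem ψ_zero_injective (U : Opens Y) : Function.Injective (L.ψ U 0) := fun a b e =>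
  (H0Equiv U (L.iter 0).shf).symm.injective
    (((L.comp_eCls_zero U 0 _).symm.trans e).trans (L.comp_eCls_zero U 0 _))

theorem ψ_surjective (U : Opens Y) : ∀ q, Function.Surjective (L.ψ U q)
  | 0 => fun x => ⟨H0Equiv U (L.iter 0).shf x, by
      rw [ψ_apply, AddEquiv.symm_apply_apply]
      exact L.comp_eCls_zero U 0 x⟩
  | q + 1 => fun x => by
    obtain ⟨y, rfl⟩ := (L.comp_eCls_bijective U q 0 (q + 1) (by omega)).2 x
    obtain ⟨η, rfl⟩ := hδ_surjective (L.iter q).step_shortExact U 0 y
    refine ⟨H0Equiv U (L.iter (q + 1)).shf η, ?_⟩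
    rw [ψ_apply, AddEquiv.symm_apply_apply]
    exact L.comp_eCls_succ U q 0 (q + 1) (zero_add _) η

theorem ψ_eq_zero_iff (U : Opens Y) (q : ℕ) (t : (L.iter (q + 1)).secSub U) :
    L.ψ U (q + 1) t = 0 ↔ ∃ s : (L.iter q).Fam, ∀ z ∈ U, (L.iter q).cls z s = t.1 z := by
  let T := (L.iter q).step_shortExact
  let x := (H0Equiv U (L.iter (q + 1)).shf).symm t
  have h1 : L.ψ U (q + 1) t = 0 ↔ hδ T U 0 x = 0 := by
    have hb := L.comp_eCls_bijective U q 0 (q + 1) (by omega)
    rw [ψ_apply]
    constructor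
    · exact fun h => hb.1 (((L.comp_eCls_succ U q 0 (q + 1) (zero_add _) x).symm.trans h).trans
        (by simp))
    · intro h
      refine (L.comp_eCls_succ U q 0 (q + 1) (zero_add _) x).trans ?_
      exact (congrArg (fun y => Ext.comp y (L.eCls q) _) h).trans (by simp)
  rw [h1, hδ_eq_zero_iff]
  constructor
  · rintro ⟨y, hy⟩
    refine ⟨((H0Equiv U (L.iter q).god y : (L.iter q).godSub U)).1, fun z hz => ?_⟩
    have e : ((L.iter q).toNext.hom.app (op U) (H0Equiv U (L.iter q).god y) :
        (L.iter q).next.secSub U) = t := by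
      refine (H0Equiv_hmap U (L.iter q).toNext y).symm.trans ?_
      exact (congrArg (H0Equiv U (L.iter (q + 1)).shf) hy).trans (AddEquiv.apply_symm_apply _ _)
    exact ((L.iter q).next.cut_of_mem hz _).symm.trans
      (congrFun (congrArg (fun v : (L.iter q).next.secSub U => v.1) e) z)
  · rintro ⟨s, hs⟩
    refine ⟨(H0Equiv U (L.iter q).god).symm
      (⟨(L.iter q).cut U s, (L.iter q).cut_mem_godSub U s⟩ : (L.iter q).godSub U), ?_⟩
    refine (H0Equiv U (L.iter (q + 1)).shf).injective ?_
    refine (H0Equiv_hmap U (L.iter q).toNext _).trans (Eq.trans ?_ (AddEquiv.apply_symm_apply _ _).symm)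
    refine (congrArg ((L.iter q).toNext.hom.app (op U))
      (AddEquiv.apply_symm_apply (H0Equiv U (L.iter q).god) _)).trans (Subtype.ext (funext fun z => ?_))
    show (L.iter q).next.cut U ((L.iter q).d ((L.iter q).cut U s)) z = t.1 z
    by_cases hz : z ∈ U
    · rw [(L.iter q).next.cut_of_mem hz]
      exact ((L.iter q).cls_congr ((L.iter q).cut_eventually hz s)).trans (hs z hz)
    · rw [(L.iter q).next.cut_of_notMem hz]
      exact (t.2.1 z hz).symm

theorem secEquiv_freeSheafMap (F : CohTop.Ab Y) {U V : Opens Y} (h : V ≤ U)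
    (φ : freeAb U ⟶ F) :
    secEquiv V F (CohCx.freeSheafMap (Opens.grothendieckTopology Y) (homOfLE h) ≫ φ) =
      F.obj.map (homOfLE h).op (secEquiv U F φ) := by
  rw [secEquiv_apply, secEquiv_apply]
  exact CohFree.evalGen_freeSheafMap_comp (Opens.grothendieckTopology Y) (homOfLE h) F φ

/-- Compatibility with restriction. -/
theorem ψ_res {U V : Opens Y} (h : V ≤ U) (q : ℕ) (t : (L.iter q).secSub U) :
    CohTop.res L.shf q h (L.ψ U q t) =
      L.ψ V q ⟨(L.iter q).cut V t.1, (L.iter q).cut_mem_secSub h t.2⟩ := by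
  refine (CohTopEasy.res_eq_comp L.shf q h _).trans ?_
  rw [ψ_apply, ψ_apply]
  refine (Ext.comp_assoc _ _ _ (zero_add 0) (zero_add q) (by omega)).symm.trans ?_
  refine congrArg (fun y : HU V (L.iter q).shf 0 => y.comp (L.eCls q) (zero_add q)) ?_
  let F := (L.iter q).shf
  refine (H0Equiv V F).injective ?_
  rw [AddEquiv.apply_symm_apply]
  show secEquiv V F (Ext.addEquiv₀ _) = _
  have e : (H0Equiv U F).symm t = Ext.mk₀ ((secEquiv U F).symm t) := rfl
  rw [e, Ext.mk₀_comp_mk₀]
  refine (congrArg (secEquiv V F) (Ext.addEquiv₀.apply_symm_apply _)).trans ?_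
  refine (secEquiv_freeSheafMap F h _).trans ?_
  rw [AddEquiv.apply_symm_apply]
  rfl

end Lvl

end Groth.Agent.TopDescent
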