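import Groth.Agent.TopDescent.Tame
import Groth.Agent.TopDescent.LvlOpen

/-!
# The resolution by constructible sections on a spectral space

An abelian sheaf embeds in the sheaf of families which are locally sections for the constructible
topology; the latter has no cohomology on quasi-compact opens, and the quotient vanishes at every
point all of whose proper generizations carry no stalk. This bounds cohomology by Krull dimension.
-/

set_option linter.style.haveILetI false
set_option linter.unusedSectionVars false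
set_option synthInstance.maxHeartbeats 400000
set_option backward.isDefEq.respectTransparency false

universe u

open CategoryTheory Limits Opposite TopologicalSpace Topology Filter Abelian

noncomputable section

namespace Groth.Agent.TopDescent

open SpectralLib

namespace Lvl

variable {X : TopCat.{u}} [SpectralSpace X] (L : Lvl (X : Type u))

/-- Neighbourhoods for the constructible topology. -/
abbrev cnhds {X : TopCat.{u}} (x : X) : Filter X := @nhds X (constructibleTopology (X : Type u)) x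

omit [SpectralSpace X] in
theorem cnhds_of_open [PrespectralSpace X] {x : X} {U : Set X} (hU : IsOpen U) (hx : x ∈ U) :
    U ∈ cnhds x :=
  @IsOpen.mem_nhds X (constructibleTopology (X : Type u)) x U (isOpen_C_of_isOpen hU) hx

omit [SpectralSpace X] in
theorem cnhds_compl {x : X} {U : Set X} (hU : IsOpen U) (hUc : IsCompact U) (hx : x ∉ U) :
    Uᶜ ∈ cnhds x :=
  @IsOpen.mem_nhds X (constructibleTopology (X : Type u)) x Uᶜ
    (@IsClosed.isOpen_compl X (constructibleTopology (X : Type u)) U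
      (isClosed_C_of_compactOpen hU hUc)) hx

theorem cnhds_le (x : X) : cnhds x ≤ 𝓝 x := fun U hU => by
  obtain ⟨V, hVU, hV, hx⟩ := mem_nhds_iff.1 hU
  exact Filter.mem_of_superset (cnhds_of_open hV hx) hVU

/-- The families which are locally sections for the constructible topology. -/
def cFam : AddSubgroup L.Fam where
  carrier := {s | ∀ x, ∃ t ∈ L.N x, ∀ᶠ z in cnhds x, s z = t z}
  zero_mem' := fun x => ⟨0, zero_mem _, Eventually.of_forall fun _ => rfl⟩
  add_mem' := fun {a b} ha hb x => by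
    obtain ⟨t, ht, ht'⟩ := ha x
    obtain ⟨t', h, h'⟩ := hb x
    exact ⟨t + t', add_mem ht h, (ht'.and h').mono fun z hz => by
      show a z + b z = t z + t' z
      rw [hz.1, hz.2]⟩
  neg_mem' := fun {a} ha x => by
    obtain ⟨t, ht, ht'⟩ := ha x
    exact ⟨-t, neg_mem ht, ht'.mono fun z hz => by
      show -a z = -t z
      rw [hz]⟩

theorem cut_mem_cFam (O : Opens X) (hO : IsCompact (O : Set X)) {t : L.Fam}
    (ht : ∀ z ∈ O, t ∈ L.N z) : L.cut O t ∈ L.cFam := fun x => by
  by_cases hx : x ∈ O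
  · exact ⟨t, ht x hx,
      Filter.mem_of_superset (cnhds_of_open O.2 hx) fun z hz => L.cut_of_mem hz t⟩
  · exact ⟨0, zero_mem _,
      Filter.mem_of_superset (cnhds_compl O.2 hO hx) fun z hz => L.cut_of_notMem hz t⟩

omit [SpectralSpace X] in
theorem exists_compactOpen [PrespectralSpace X] {x : X} {P : X → Prop} (h : ∀ᶠ z in 𝓝 x, P z) :
    ∃ O : Opens X, x ∈ O ∧ IsCompact (O : Set X) ∧ ∀ z ∈ O, P z := by
  obtain ⟨V, hV, hVo, hx⟩ := mem_nhds_iff.1 h
  obtain ⟨O, ⟨h1, h2⟩, h3, h4⟩ :=
    PrespectralSpace.isTopologicalBasis.exists_subset_of_mem_open hx hVo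
  exact ⟨⟨O, h1⟩, h3, h2, fun z hz => hV (h4 hz)⟩

/-- Constructible families vanishing near a point. -/
def cK (x : X) : AddSubgroup L.cFam where
  carrier := {s | ∀ᶠ z in 𝓝 x, s.1 z = 0}
  zero_mem' := Eventually.of_forall fun _ => rfl
  add_mem' := fun {a b} ha hb => (ha.and hb).mono fun z hz => by
    show a.1 z + b.1 z = 0
    rw [hz.1, hz.2, add_zero]
  neg_mem' := fun {a} ha => ha.mono fun z hz => by
    show -a.1 z = 0
    rw [hz, neg_zero]

theorem cK_open (x : X) (s : L.cFam) (h : s ∈ L.cK x) : ∀ᶠ z in 𝓝 x, s ∈ L.cK z :=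
  h.eventually_nhds

/-- The etale space of constructible families. -/
abbrev cGod : Lvl (X : Type u) := quotLvl L.cK L.cK_open

/-- Constructible families which are sections near a point. -/
abbrev cN (x : X) : AddSubgroup L.cFam := (L.N x).comap L.cFam.subtype

theorem cN_open (x : X) (s : L.cFam) (h : s ∈ L.cN x) : ∀ᶠ z in 𝓝 x, s ∈ L.cN z := L.loc x s.1 h

/-- The quotient. -/
abbrev cNext : Lvl (X : Type u) := quotLvl L.cN L.cN_open

theorem exists_cRep (x : X) (a : L.A x) : ∃ s : L.cFam, s.1 ∈ L.N x ∧ s.1 x = a := by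
  obtain ⟨t, ht, rfl⟩ := L.surj x a
  obtain ⟨O, hx, hOc, hO⟩ := exists_compactOpen (L.loc x t ht)
  exact ⟨⟨L.cut O t, L.cut_mem_cFam O hOc hO⟩,
    L.congr x t _ ((L.cut_eventually hx t).mono fun _ hz => hz.symm) ht, L.cut_of_mem hx t⟩

/-- A germ as a constructible family. -/
def cσ (x : X) (a : L.A x) : L.cGod.A x := qcls L.cK L.cK_open x (L.exists_cRep x a).choose

theorem cσ_eq {x : X} {a : L.A x} (s : L.cFam) (hs : s.1 ∈ L.N x) (hx : s.1 x = a) :
    L.cσ x a = qcls L.cK L.cK_open x s := by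
  obtain ⟨h1, h2⟩ := (L.exists_cRep x a).choose_spec
  refine (qcls_eq_iff _ _).2 (L.eventually_zero x _ (sub_mem h1 hs) ?_)
  show (L.exists_cRep x a).choose.1 x - s.1 x = 0
  rw [h2, hx, sub_self]

/-- The inclusion. -/
def cι : Map L L.cGod where
  σ x := AddMonoidHom.mk' (L.cσ x) fun a b => by
    obtain ⟨s, hs, hsx⟩ := L.exists_cRep x a
    obtain ⟨t, ht, htx⟩ := L.exists_cRep x b
    rw [L.cσ_eq s hs hsx, L.cσ_eq t ht htx, L.cσ_eq (s + t) (add_mem hs ht) (by
      show s.1 x + t.1 x = a + b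
      rw [hsx, htx])]
    rfl
  nat x s hs := by
    obtain ⟨O, hx, hOc, hO⟩ := exists_compactOpen (L.loc x s hs)
    refine ⟨⟨L.cut O s, L.cut_mem_cFam O hOc hO⟩, Filter.eventually_of_mem (O.2.mem_nhds hx)
      fun z hz => ?_⟩
    exact L.cσ_eq _ (L.congr z s _ ((L.cut_eventually hz s).mono fun _ hw => hw.symm) (hO z hz))
      (L.cut_of_mem hz s)

theorem cι_injective (x : X) : Function.Injective (L.cι.σ x) := by
  refine (injective_iff_map_eq_zero _).2 fun a ha => ?_
  obtain ⟨s, hs, hsx⟩ := L.exists_cRep x a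
  have h := (qcls_eq_zero _ _).1 ((L.cσ_eq s hs hsx).symm.trans ha)
  exact hsx.symm.trans h.self_of_nhds

/-- The projection. -/
def cπ : Map L.cGod L.cNext :=
  quotMap L.cK L.cK_open (AddMonoidHom.id L.cFam) fun x s hs =>
    L.congr x 0 _ (hs.mono fun _ hz => hz.symm) (zero_mem _)

theorem cπ_surjective (x : X) : Function.Surjective (L.cπ.σ x) := fun a => by
  obtain ⟨s, rfl⟩ := QuotientAddGroup.mk_surjective a
  exact ⟨qcls L.cK L.cK_open x s, rfl⟩

theorem cπ_cι (x : X) (a : L.A x) : L.cπ.σ x (L.cι.σ x a) = 0 := by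
  obtain ⟨s, hs, hsx⟩ := L.exists_cRep x a
  refine (congrArg (L.cπ.σ x) (L.cσ_eq s hs hsx)).trans ?_
  exact (qcls_eq_zero L.cN L.cN_open).2 hs

theorem exists_cι_of_cπ (x : X) (b : L.cGod.A x) (h : L.cπ.σ x b = 0) : ∃ a, L.cι.σ x a = b := by
  obtain ⟨s, rfl⟩ := QuotientAddGroup.mk_surjective b
  exact ⟨s.1 x, L.cσ_eq s ((qcls_eq_zero L.cN L.cN_open).1 h) rfl⟩

theorem cSeq_shortExact :
    (ShortComplex.mk L.cι.shf L.cπ.shf (L.cι.shf_comp_eq_zero L.cπ L.cπ_cι)).ShortExact :=
  shortExact_of_stalk _ _ L.cι_injective L.cπ_cι L.exists_cι_of_cπ L.cπ_surjective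

omit [SpectralSpace X] in
theorem tame_id [SpectralSpace X] : Tame (fun z : X => z) :=
  tame_of_iInter (ι := PUnit.{u + 1}) IsInducing.id (fun _ => Set.univ) (fun _ => isOpen_univ)
    (fun _ => isCompact_univ) (fun a _ => ⟨a, subset_rfl, subset_rfl⟩)
    (Set.range_id.trans (Set.iInter_const _).symm)

theorem cGod_qExt : QExt (fun z : X => z) L.cGod := fun O hO hOc t ht => by
  classical
  obtain ⟨O', -, -, e, p, hp⟩ := tame_id.induction hO hOc
    (P := fun O' => ∃ p : L.cFam, ∀ z ∈ O', t z = qcls L.cK L.cK_open z p)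
    ⟨0, fun z hz => absurd hz (Set.notMem_empty _)⟩
    (fun O₁ O₂ h₁ h₁c h₂ h₂c _ _ ⟨p₁, hp₁⟩ ⟨p₂, hp₂⟩ => by
      let p : L.Fam := fun z => if z ∈ O₁ then p₁.1 z else p₂.1 z
      have hmem : p ∈ L.cFam := fun x => by
        by_cases hx : x ∈ O₁
        · obtain ⟨r, hr, hr'⟩ := p₁.2 x
          refine ⟨r, hr, ?_⟩
          filter_upwards [hr', cnhds_of_open h₁ hx] with z hz hz₁
          exact (if_pos hz₁).trans hz
        · obtain ⟨r, hr, hr'⟩ := p₂.2 x
          refine ⟨r, hr, ?_⟩
          filter_upwards [hr', cnhds_compl h₁ h₁c hx] with z hz hz₁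
          exact (if_neg hz₁).trans hz
      refine ⟨⟨p, hmem⟩, fun z hz => ?_⟩
      by_cases h : z ∈ O₁
      · refine (hp₁ z h).trans ((qcls_eq_iff _ _).2 ?_)
        filter_upwards [h₁.mem_nhds h] with w hw
        show p₁.1 w - p w = 0
        rw [show p w = p₁.1 w from if_pos hw, sub_self]
      · have h' : z ∈ O₂ := hz.resolve_left h
        refine (hp₂ z h').trans ((qcls_eq_iff _ _).2 ?_)
        filter_upwards [h₂.mem_nhds h'] with w hw
        show p₂.1 w - p w = 0
        by_cases hw₁ : w ∈ O₁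
        · have hag : p₁ - p₂ ∈ L.cK w :=
            (qcls_eq_iff _ _).1 ((hp₁ w hw₁).symm.trans (hp₂ w hw))
          have h0 : p₁.1 w - p₂.1 w = 0 := hag.self_of_nhds
          rw [show p w = p₁.1 w from if_pos hw₁, sub_eq_zero.1 h0, sub_self]
        · rw [show p w = p₂.1 w from if_neg hw₁, sub_self])
    (fun z hz => by
      obtain ⟨p, hp⟩ := ht z hz
      obtain ⟨O', h1, h2, h3, h4, h5⟩ := tame_id.exists_small hO hz hp
      exact ⟨O', h1, h2, h3, h4, p, fun w hw => h5 hw⟩)
  exact ⟨fun z => qcls L.cK L.cK_open z p,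
    ⟨fun z hz => absurd trivial hz, fun z _ => qcls_mem _ _ p z⟩,
    fun z hz => (hp z (show z ∈ O' from (show O' = O from e).symm ▸ hz)).symm⟩

theorem subsingleton_HU_of_qExt {M : Lvl (X : Type u)} (hM : QExt (fun z : X => z) M)
    (U : Opens X) (hU : IsCompact (U : Set X)) (n : ℕ) :
    Subsingleton (CohBase.HU U M.shf (n + 1)) := by
  refine subsingleton_of_forall_eq 0 fun ξ => ?_
  obtain ⟨t, rfl⟩ := M.ψ_surjective U (n + 1) ξ
  obtain ⟨s, hs⟩ := QExt.exists_lift tame_id (hM.iter tame_id n) U.2 hU t.1 fun z hz => t.2.2 z hz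
  exact (M.ψ_eq_zero_iff U n t).2 ⟨s, hs⟩

theorem subsingleton_HU_cGod (U : Opens X) (hU : IsCompact (U : Set X)) (n : ℕ) :
    Subsingleton (CohBase.HU U L.cGod.shf (n + 1)) :=
  subsingleton_HU_of_qExt L.cGod_qExt U hU n

/-- The quotient has no stalk where the proper generizations have none. -/
theorem cNext_subsingleton {x : X}
    (h : ∀ y, y ⤳ x → y ≠ x → Subsingleton (L.A y)) : Subsingleton (L.cNext.A x) := by
  refine subsingleton_of_forall_eq 0 fun a => ?_
  obtain ⟨s, rfl⟩ := QuotientAddGroup.mk_surjective a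
  refine (qcls_eq_zero L.cN L.cN_open).2 ?_
  obtain ⟨t, ht, htx⟩ := L.surj x (s.1 x)
  obtain ⟨O, hxO, hOc, hO⟩ := exists_compactOpen (L.loc x t ht)
  let B : Set X := {z | z ∈ O ∧ s.1 z ≠ t z}
  have hB : IsClosed[constructibleTopology (X : Type u)] B := by
    refine (@isOpen_compl_iff X B (constructibleTopology (X : Type u))).1
      ((@isOpen_iff_mem_nhds X (constructibleTopology (X : Type u)) _).2 fun z hz => ?_)
    by_cases hzO : z ∈ O
    · have hst : s.1 z = t z := by
        by_contra hne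
        exact hz ⟨hzO, hne⟩
      obtain ⟨r, hr, hr'⟩ := s.2 z
      have hrt : ∀ᶠ w in 𝓝 z, (r - t) w = 0 := L.eventually_zero z _ (sub_mem hr (hO z hzO)) (by
        show r z - t z = 0
        rw [← @Filter.Eventually.self_of_nhds X (constructibleTopology (X : Type u)) _ _ hr', hst,
          sub_self])
      filter_upwards [hr', cnhds_le z hrt] with w h1 h2 hw
      exact hw.2 (h1.trans (sub_eq_zero.1 h2))
    · exact Filter.mem_of_superset (cnhds_compl O.2 hOc hzO) fun w hw hw' => hw hw'.1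
  by_contra hne
  let ι := {V : Set X // IsOpen V ∧ IsCompact V ∧ x ∈ V}
  haveI : Nonempty ι := ⟨⟨O, O.2, hOc, hxO⟩⟩
  obtain ⟨z, hz⟩ := nonempty_iInter_of_directed (fun V : ι => V.1 ∩ B)
    (fun V => @IsClosed.inter X _ _ (constructibleTopology (X : Type u))
      (isClosed_C_of_compactOpen V.2.1 V.2.2.1) hB)
    (fun V W => ⟨⟨V.1 ∩ W.1, V.2.1.inter W.2.1,
      QuasiSeparatedSpace.inter_isCompact _ _ V.2.1 V.2.2.1 W.2.1 W.2.2.1, V.2.2.2, W.2.2.2⟩,
      Set.inter_subset_inter_left _ Set.inter_subset_left,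
      Set.inter_subset_inter_left _ Set.inter_subset_right⟩)
    (fun V => by
      by_contra hV
      rw [Set.not_nonempty_iff_eq_empty] at hV
      refine hne (L.congr x t s.1 ?_ ht)
      filter_upwards [V.2.1.mem_nhds V.2.2.2, O.2.mem_nhds hxO] with w hwV hwO
      by_contra hw
      exact Set.eq_empty_iff_forall_notMem.1 hV w ⟨hwV, hwO, fun e => hw e.symm⟩)
  rw [Set.mem_iInter] at hz
  have hzB : z ∈ B := (hz ⟨O, O.2, hOc, hxO⟩).2
  have hzx : z ⤳ x :=
    specializes_of_forall_compactOpen fun V h1 h2 h3 => (hz ⟨V, h1, h2, h3⟩).1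
  by_cases e : z = x
  · subst e
    exact hzB.2 htx.symm
  · haveI := h z hzx e
    exact hzB.2 (Subsingleton.elim _ _)

/-- The iterated quotients. -/
def cIter : ℕ → Lvl (X : Type u) → Lvl (X : Type u)
  | 0, L => L
  | k + 1, L => cIter k L.cNext

omit L in
theorem cIter_succ : ∀ (k : ℕ) (L : Lvl (X : Type u)), cIter (k + 1) L = (cIter k L).cNext
  | 0, _ => rfl
  | k + 1, L => cIter_succ k L.cNext

theorem exists_chain : ∀ (k : ℕ) (x : X), ¬ Subsingleton ((cIter k L).A x) →
    ∃ p : LTSeries (IrreducibleCloseds X), p.length = k ∧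
      p.head = ⟨closure {x}, isIrreducible_singleton.closure, isClosed_closure⟩
  | 0, x, _ => ⟨RelSeries.singleton _ _, rfl, rfl⟩
  | k + 1, x, h => by
    rw [cIter_succ] at h
    obtain ⟨y, hyx, hne, hy⟩ : ∃ y, y ⤳ x ∧ y ≠ x ∧ ¬ Subsingleton ((cIter k L).A y) := by
      by_contra hno
      push Not at hno
      exact h ((cIter k L).cNext_subsingleton hno)
    obtain ⟨p, hp, hhead⟩ := exists_chain k y hy
    have hsub : closure ({x} : Set X) ⊂ closure {y} := by
      refine ⟨closure_minimal (Set.singleton_subset_iff.2 (specializes_iff_mem_closure.1 hyx))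
        isClosed_closure, fun hc => hne ?_⟩
      exact (hyx.antisymm (specializes_iff_mem_closure.2 (hc (subset_closure rfl)))).eq
    exact ⟨p.cons ⟨closure {x}, isIrreducible_singleton.closure, isClosed_closure⟩
      (by show _ < p.head; rw [hhead]; exact hsub), by simp [hp], RelSeries.head_cons _ _ _⟩

theorem cIter_subsingleton {d : ℕ} (hd : topologicalKrullDim X ≤ d) (x : X) :
    Subsingleton ((cIter (d + 1) L).A x) := by
  by_contra h
  obtain ⟨p, hp, -⟩ := L.exists_chain (d + 1) x h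
  have h1 : (p.length : WithBot ℕ∞) ≤ (d : WithBot ℕ∞) :=
    (Order.LTSeries.length_le_krullDim p).trans hd
  rw [hp] at h1
  norm_cast at h1
  omega

omit [SpectralSpace X] in
theorem isZero_shf {M : Lvl (X : Type u)} (h : ∀ z, Subsingleton (M.A z)) : IsZero M.shf := by
  refine (IsZero.iff_id_eq_zero _).2 ?_
  ext W s
  exact Subtype.ext (funext fun z => @Subsingleton.elim _ (h z) _ _)

omit L in
/-- Vanishing above the length of the resolution. -/
theorem subsingleton_HU_of_cIter (U : Opens X) (hU : IsCompact (U : Set X)) :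
    ∀ (k : ℕ) (L : Lvl (X : Type u)), (∀ z, Subsingleton ((cIter k L).A z)) →
      ∀ n, k ≤ n → Subsingleton (CohBase.HU U L.shf n)
  | 0, L, h, n, _ => subsingleton_of_forall_eq 0 fun x => by
      rw [← Ext.comp_mk₀_id x, (isZero_shf (M := L) h).eq_of_src (𝟙 _) 0, Ext.mk₀_zero,
        Ext.comp_zero]
  | k + 1, L, h, n, hn => by
      obtain ⟨m, rfl⟩ : ∃ m, n = m + 1 := ⟨n - 1, by omega⟩
      haveI := L.subsingleton_HU_cGod U hU m
      haveI := subsingleton_HU_of_cIter U hU k L.cNext h m (by omega)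
      exact CohBase.subsingleton_shift L.cSeq_shortExact U m

omit L in
theorem res_hδ {S : ShortComplex (CohTop.Ab X)} (hS : S.ShortExact) {U V : Opens X} (h : V ≤ U)
    (n : ℕ) (x : CohBase.HU U S.X₃ n) :
    CohTop.res S.X₁ (n + 1) h (CohBase.hδ hS U n x) =
      CohBase.hδ hS V n (CohTop.res S.X₃ n h x) := by
  refine (CohTopEasy.res_eq_comp S.X₁ (n + 1) h _).trans ?_
  refine Eq.trans ?_ (congrArg (CohBase.hδ hS V n) (CohTopEasy.res_eq_comp S.X₃ n h x)).symm
  exact (Ext.comp_assoc _ x hS.extClass (zero_add n) rfl (by omega)).symm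

omit L in
theorem res_zero_surjective {F : CohTop.Ab X} {U V : Opens X} (h : V ≤ U)
    (hs : Function.Surjective (F.obj.map (homOfLE h).op)) :
    Function.Surjective (CohTop.res F 0 h) := fun y => by
  obtain ⟨a, ha⟩ := hs (CohBase.H0Equiv V F y)
  refine ⟨Ext.mk₀ ((CohBase.secEquiv U F).symm a), (CohTopEasy.res_eq_comp F 0 h _).trans ?_⟩
  refine (CohBase.H0Equiv V F).injective (Eq.trans ?_ ha)
  show CohBase.secEquiv V F (Ext.addEquiv₀ _) = _
  rw [Ext.mk₀_comp_mk₀]
  refine (congrArg (CohBase.secEquiv V F) (Ext.addEquiv₀.apply_symm_apply _)).trans ?_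
  refine (secEquiv_freeSheafMap F h _).trans ?_
  rw [AddEquiv.apply_symm_apply]

theorem sections_extend (h : ∀ z, Subsingleton (L.cNext.A z)) (U : Opens X)
    (hU : IsCompact (U : Set X)) :
    Function.Surjective (L.shf.obj.map (homOfLE (le_top : U ≤ ⊤)).op) := fun t => by
  obtain ⟨g, hg, hgt⟩ := L.cGod_qExt U U.2 hU (L.cι.pull (t : L.secSub U).1)
    fun z hz => (L.cι.pull_mem_secSub (t : L.secSub U).2).2 z hz
  obtain ⟨r, hr⟩ := exists_lift_section L.cι L.cι_injective (⟨g, hg⟩ : L.cGod.secSub ⊤)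
    fun z _ => L.exists_cι_of_cπ z _ (@Subsingleton.elim _ (h z) _ _)
  refine ⟨r, Subtype.ext (funext fun z => ?_)⟩
  show L.cut U r.1 z = (t : L.secSub U).1 z
  by_cases hz : z ∈ U
  · rw [L.cut_of_mem hz]
    exact L.cι_injective z ((congrFun hr z).trans (hgt z hz))
  · rw [L.cut_of_notMem hz]
    exact ((t : L.secSub U).2.1 z hz).symm

omit L in
/-- In the top degree restrictions to quasi-compact opens are surjective. -/
theorem res_surjective_of_cIter (U : Opens X) (hU : IsCompact (U : Set X)) :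
    ∀ (k : ℕ) (L : Lvl (X : Type u)), (∀ z, Subsingleton ((cIter (k + 1) L).A z)) →
      Function.Surjective (CohTop.res L.shf k (le_top : U ≤ ⊤))
  | 0, L, h => res_zero_surjective le_top (L.sections_extend h U hU)
  | k + 1, L, h => fun y => by
      haveI : Subsingleton (CohBase.HU U (ShortComplex.mk L.cι.shf L.cπ.shf
          (L.cι.shf_comp_eq_zero L.cπ L.cπ_cι)).X₂ (k + 1)) := L.subsingleton_HU_cGod U hU k
      obtain ⟨x, hx⟩ := CohBase.hδ_surjective L.cSeq_shortExact U k y
      obtain ⟨x', rfl⟩ := res_surjective_of_cIter U hU k L.cNext h x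
      exact ⟨CohBase.hδ L.cSeq_shortExact ⊤ k x', (res_hδ L.cSeq_shortExact le_top k x').trans hx⟩

end Lvl

end Groth.Agent.TopDescent
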