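import Groth.Agent.TopDescent.LvlSheaf

/-!
# The etale space of an inverse image
-/

set_option linter.style.haveILetI false
set_option linter.unusedSectionVars false
set_option synthInstance.maxHeartbeats 400000

universe u

open CategoryTheory Limits Opposite TopologicalSpace Topology Filter

noncomputable section

namespace Groth.Agent.TopDescent

open CohBase

variable {S : TopCat.{u}} (F : CohTop.Ab S)

/-- The germ of a section at a point. -/
abbrev germAt {V : Opens S} (x : S) (hx : x ∈ V) (a : F.obj.obj (op V)) : CohTop.stalk F x :=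
  TopCat.Presheaf.germ (C := AddCommGrpCat.{u}) (X := S) F.obj V x hx a

theorem germAt_res {V V' : Opens S} (h : V' ≤ V) (x : S) (hx : x ∈ V') (a : F.obj.obj (op V)) :
    germAt F x hx (res F.obj h a) = germAt F x (h hx) a :=
  TopCat.Presheaf.germ_res_apply (C := AddCommGrpCat.{u}) (X := S) F.obj (homOfLE h) x hx a

theorem exists_res_eq_of_germAt_eq {V V' : Opens S} {x : S} (hx : x ∈ V) (hx' : x ∈ V')
    (a : F.obj.obj (op V)) (a' : F.obj.obj (op V')) (h : germAt F x hx a = germAt F x hx' a') :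
    ∃ (U : Opens S) (hU : U ≤ V) (hU' : U ≤ V'), x ∈ U ∧ res F.obj hU a = res F.obj hU' a' := by
  obtain ⟨U, hxU, iU, iV, e⟩ := TopCat.Presheaf.germ_eq (C := AddCommGrpCat.{u}) (X := S) F.obj x
    hx hx' a a' h
  exact ⟨U, leOfHom iU, leOfHom iV, hxU, e⟩

/-- Transport of stalks along an equality of points. -/
def castHom {x x' : S} (e : x = x') : CohTop.stalk F x →+ CohTop.stalk F x' :=
  e ▸ AddMonoidHom.id _

theorem castHom_germAt {x x' : S} (e : x = x') {V : Opens S} (hx : x ∈ V) (a : F.obj.obj (op V)) :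
    castHom F e (germAt F x hx a) = germAt F x' (e ▸ hx) a := by
  subst e
  rfl

theorem castHom_castHom {x x' x'' : S} (e : x = x') (e' : x' = x'') (v : CohTop.stalk F x) :
    castHom F e' (castHom F e v) = castHom F (e.trans e') v := by
  subst e e'
  rfl

variable {Y : TopCat.{u}} (h : Y ⟶ S)

/-- The families which are sections of the inverse image near a point. -/
def baseN (y : Y) : AddSubgroup (∀ z : Y, CohTop.stalk F (h z)) where
  carrier := {s | ∃ (V : Opens S) (a : F.obj.obj (op V)),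
    ∀ᶠ z in 𝓝 y, ∃ hz : h z ∈ V, s z = germAt F (h z) hz a}
  zero_mem' := ⟨⊤, 0, Eventually.of_forall fun z => ⟨trivial, (map_zero _).symm⟩⟩
  add_mem' := fun {s t} ⟨V, a, ha⟩ ⟨V', b, hb⟩ =>
    ⟨V ⊓ V', res F.obj inf_le_left a + res F.obj inf_le_right b, (ha.and hb).mono
      fun z ⟨⟨hz, e⟩, ⟨hz', e'⟩⟩ => ⟨⟨hz, hz'⟩, by
        show s z + t z = _
        rw [e, e']
        exact (congrArg₂ (· + ·)
          (germAt_res F (inf_le_left : V ⊓ V' ≤ V) _ (show h z ∈ V ⊓ V' from ⟨hz, hz'⟩) a).symm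
          (germAt_res F (inf_le_right : V ⊓ V' ≤ V') _ (show h z ∈ V ⊓ V' from ⟨hz, hz'⟩) b).symm).trans
            (map_add _ _ _).symm⟩⟩
  neg_mem' := fun {s} ⟨V, a, ha⟩ => ⟨V, -a, ha.mono fun z ⟨hz, e⟩ => ⟨hz, by
    show -s z = _
    rw [e]
    exact (map_neg _ _).symm⟩⟩

theorem eventually_mem {y : Y} {V : Opens S} (hy : h y ∈ V) : ∀ᶠ z in 𝓝 y, h z ∈ V :=
  h.hom.continuous.continuousAt.preimage_mem_nhds (V.2.mem_nhds hy)

open Classical in
/-- The family of germs of a section. -/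
def germFam {V : Opens S} (a : F.obj.obj (op V)) : ∀ z : Y, CohTop.stalk F (h z) :=
  fun z => if hz : h z ∈ V then germAt F (h z) hz a else 0

theorem germFam_of_mem {V : Opens S} (a : F.obj.obj (op V)) {z : Y} (hz : h z ∈ V) :
    germFam F h a z = germAt F (h z) hz a := by
  simp [germFam, hz]

theorem germFam_mem {V : Opens S} (a : F.obj.obj (op V)) {y : Y} (hy : h y ∈ V) :
    germFam F h a ∈ baseN F h y :=
  ⟨V, a, (eventually_mem h hy).mono fun _ hz => ⟨hz, germFam_of_mem F h a hz⟩⟩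

/-- The etale space of the inverse image. -/
def baseLvl : Lvl (Y : Type u) where
  A y := CohTop.stalk F (h y)
  N := baseN F h
  congr _ _ _ e := fun ⟨V, a, ha⟩ => ⟨V, a, (e.and ha).mono fun _ ⟨e, hz, he⟩ => ⟨hz, e.symm.trans he⟩⟩
  loc _ _ := fun ⟨V, a, ha⟩ => ha.eventually_nhds.mono fun _ hz => ⟨V, a, hz⟩
  eventually_zero y s := fun ⟨V, a, ha⟩ h0 => by
    obtain ⟨hy, e⟩ := ha.self_of_nhds
    obtain ⟨U, hU, hU', hyU, eU⟩ := exists_res_eq_of_germAt_eq F hy hy a 0
      ((e.symm.trans h0).trans (map_zero _).symm)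
    filter_upwards [ha, eventually_mem h hyU] with z ⟨hz, e'⟩ hzU
    refine e'.trans ((germAt_res F hU _ hzU a).symm.trans ?_)
    exact ((congrArg (germAt F (h z) hzU ·) eU).trans (congrArg _ (map_zero _))).trans (map_zero _)
  surj y v := by
    obtain ⟨V, hV, a, rfl⟩ := TopCat.Presheaf.exists_germ_eq (C := AddCommGrpCat.{u}) (X := S) F.obj v
    exact ⟨germFam F h a, germFam_mem F h a hV, germFam_of_mem F h a hV⟩

variable {Y' : TopCat.{u}} {h}

open Classical in
/-- The transition maps. -/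
def baseσ (h' : Y' ⟶ S) (f : Y' → Y) (z : Y') :
    CohTop.stalk F (h (f z)) →+ CohTop.stalk F (h' z) :=
  if e : h (f z) = h' z then castHom F e else 0

theorem baseσ_eq {h' : Y' ⟶ S} {f : Y' → Y} {z : Y'} (e : h (f z) = h' z)
    (v : CohTop.stalk F (h (f z))) : baseσ F h' f z v = castHom F e v := by
  simp [baseσ, e]

/-- The map of etale spaces of a partially defined map ov the base. -/
def baseHom (h' : Y' ⟶ S) (f : Y' → Y) (D : Set Y') (hD : IsOpen D)
    (hf : ∀ z ∈ D, ContinuousAt f z) (ov : ∀ z ∈ D, h (f z) = h' z) :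
    Lvl.Hom (baseLvl F h) (baseLvl F h') where
  f := f
  dom := D
  isOpen_dom := hD
  cont := hf
  σ := baseσ F h' f
  nat z hz s := fun ⟨V, a, ha⟩ => ⟨V, a, by
    filter_upwards [(hf z hz).tendsto.eventually ha, hD.mem_nhds hz] with w ⟨hw, e⟩ hwD
    refine ⟨ov w hwD ▸ hw, ?_⟩
    exact (baseσ_eq F (ov w hwD) _).trans
      ((congrArg _ e).trans (castHom_germAt F (ov w hwD) hw a))⟩

theorem baseHom_pull {h' : Y' ⟶ S} {f : Y' → Y} {D : Set Y'} (hD : IsOpen D)
    (hf : ∀ z ∈ D, ContinuousAt f z) (ov : ∀ z ∈ D, h (f z) = h' z) (s : (baseLvl F h).Fam)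
    {z : Y'} (hz : z ∈ D) :
    (baseHom F h' f D hD hf ov).pull s z = castHom F (ov z hz) (s (f z)) :=
  baseσ_eq F (ov z hz) _

theorem castHom_congr {x x' : Y} (e : x = x') {w : S} (p : h x = w) (p' : h x' = w)
    (s : ∀ z : Y, CohTop.stalk F (h z)) : castHom F p (s x) = castHom F p' (s x') := by
  subst e
  rfl

theorem agree_baseHom {h' : Y' ⟶ S} {f g : Y' → Y} {D D' : Set Y'} (hD : IsOpen D)
    (hD' : IsOpen D') (hf : ∀ z ∈ D, ContinuousAt f z) (hg : ∀ z ∈ D', ContinuousAt g z)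
    (of : ∀ z ∈ D, h (f z) = h' z) (og : ∀ z ∈ D', h (g z) = h' z) {W : Set Y'} (hW : IsOpen W)
    (hWD : W ⊆ D) (hWD' : W ⊆ D') (e : ∀ z ∈ W, f z = g z) :
    Lvl.Agree (baseHom F h' f D hD hf of) (baseHom F h' g D' hD' hg og) W :=
  ⟨hW, hWD, hWD', e, fun s z hz => (baseHom_pull F hD hf of s (hWD hz)).trans
    ((castHom_congr F (e z hz) _ _ s).trans (baseHom_pull F hD' hg og s (hWD' hz)).symm)⟩

theorem agree_baseHom_comp {Y'' : TopCat.{u}} {h' : Y' ⟶ S} {h'' : Y'' ⟶ S} {f : Y' → Y}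
    {g : Y'' → Y'} {k : Y'' → Y} {D : Set Y'} {D' E : Set Y''} (hD : IsOpen D) (hD' : IsOpen D')
    (hE : IsOpen E) (hf : ∀ z ∈ D, ContinuousAt f z) (hg : ∀ z ∈ D', ContinuousAt g z)
    (hk : ∀ z ∈ E, ContinuousAt k z) (of : ∀ z ∈ D, h (f z) = h' z)
    (og : ∀ z ∈ D', h' (g z) = h'' z) (ok : ∀ z ∈ E, h (k z) = h'' z) {W : Set Y''} (hW : IsOpen W)
    (hWE : W ⊆ E) (hWD' : W ⊆ D') (hWD : W ⊆ g ⁻¹' D) (e : ∀ z ∈ W, k z = f (g z)) :
    Lvl.Agree (baseHom F h'' k E hE hk ok)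
      ((baseHom F h' f D hD hf of).comp (baseHom F h'' g D' hD' hg og)) W :=
  ⟨hW, hWE, fun z hz => ⟨hWD' hz, hWD hz⟩, e, fun s z hz => by
    refine (baseHom_pull F hE hk ok s (hWE hz)).trans (Eq.trans ?_
      ((baseHom_pull F hD' hg og _ (hWD' hz)).trans
        ((congrArg (castHom F (og z (hWD' hz))) (baseHom_pull F hD hf of s (hWD hz))).trans
          (castHom_castHom F _ _ _))).symm)
    exact castHom_congr F (e z hz) _ _ s⟩

theorem agree_baseHom_id {f : Y → Y} {D : Set Y} (hD : IsOpen D)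
    (hf : ∀ z ∈ D, ContinuousAt f z) (of : ∀ z ∈ D, h (f z) = h z) {W : Set Y} (hW : IsOpen W)
    (hWD : W ⊆ D) (e : ∀ z ∈ W, f z = z) :
    Lvl.Agree (baseHom F h f D hD hf of) (Lvl.Hom.id (baseLvl F h)) W :=
  ⟨hW, hWD, fun _ _ => trivial, e, fun s z hz => (baseHom_pull F hD hf of s (hWD hz)).trans
    (castHom_congr F (e z hz) _ rfl s)⟩

variable (h)

theorem cut_germFam_of_mem {W : Opens Y} {V : Opens S} (a : F.obj.obj (op V)) {z : Y} (hz : z ∈ W)
    (hz' : h z ∈ V) : (baseLvl F h).cut W (germFam F h a) z = germAt F (h z) hz' a :=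
  ((baseLvl F h).cut_of_mem hz _).trans (germFam_of_mem F h a hz')

theorem cut_germFam_of_notMem {W : Opens Y} {V : Opens S} (a : F.obj.obj (op V)) {z : Y}
    (hz : z ∉ W) : (baseLvl F h).cut W (germFam F h a) z = 0 :=
  (baseLvl F h).cut_of_notMem hz _

/-- The germs of the sections. -/
def θ : F ⟶ (CohTop.push h).obj (baseLvl F h).shf :=
  ⟨{ app := fun V => AddCommGrpCat.ofHom (AddMonoidHom.mk'
        (fun a => show (baseLvl F h).secSub (pre h V.unop) from
          ⟨(baseLvl F h).cut (pre h V.unop) (germFam F h a), (baseLvl F h).cut_mem_godSub _ _,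
            fun z hz => (baseLvl F h).congr z (germFam F h a) _
              (((baseLvl F h).cut_eventually hz _).mono fun _ hw => hw.symm) (germFam_mem F h a hz)⟩)
        fun a b => Subtype.ext (funext fun z => by
          show (baseLvl F h).cut _ _ z = (baseLvl F h).cut _ _ z + (baseLvl F h).cut _ _ z
          by_cases hz : z ∈ pre h V.unop
          · exact (cut_germFam_of_mem F h _ hz hz).trans ((map_add _ _ _).trans
              (congrArg₂ (· + ·) (cut_germFam_of_mem F h _ hz hz).symm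
                (cut_germFam_of_mem F h _ hz hz).symm))
          · exact (cut_germFam_of_notMem F h _ hz).trans ((add_zero 0).symm.trans
              (congrArg₂ (· + ·) (cut_germFam_of_notMem F h _ hz).symm
                (cut_germFam_of_notMem F h _ hz).symm))))
     naturality := fun V V' f => AddCommGrpCat.hom_ext (AddMonoidHom.ext fun a => Subtype.ext
      (funext fun z => by
        show (baseLvl F h).cut (pre h V'.unop) (germFam F h (F.obj.map f a)) z =
          (baseLvl F h).cut (pre h V'.unop) ((baseLvl F h).cut (pre h V.unop) (germFam F h a)) z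
        by_cases hz : z ∈ pre h V'.unop
        · have hz' : z ∈ pre h V.unop := pre_mono h (leOfHom f.unop) hz
          refine (cut_germFam_of_mem F h _ hz hz).trans (Eq.trans ?_
            (((baseLvl F h).cut_of_mem hz _).trans (cut_germFam_of_mem F h a hz' hz')).symm)
          exact germAt_res F (leOfHom f.unop) _ hz a
        · exact (cut_germFam_of_notMem F h _ hz).trans
            ((baseLvl F h).cut_of_notMem hz _).symm)) }⟩

theorem θ_apply {V : Opens S} (a : F.obj.obj (op V)) {z : Y} (hz : z ∈ pre h V) :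
    ((θ F h).hom.app (op V) a : (baseLvl F h).secSub (pre h V)).1 z = germAt F (h z) hz a := by
  exact cut_germFam_of_mem F h a hz hz

variable {h} {N : CohTop.Ab Y} (ψ : F ⟶ (CohTop.push h).obj N)

/-- The values of the map, as sections on preimages. -/
def psi (V : Opens S) : F.obj.obj (op V) →+ N.obj.obj (op (pre h V)) :=
  (psec h N V).toAddMonoidHom.comp (ψ.hom.app (op V)).hom

theorem psi_res {V V' : Opens S} (hV : V' ≤ V) (a : F.obj.obj (op V)) :
    res N.obj (pre_mono h hV) (psi F ψ V a) = psi F ψ V' (res F.obj hV a) :=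
  (psec_res h N hV (ψ.hom.app (op V) a)).symm.trans (congrArg _ (res_map ψ.hom hV a))

/-- A section of the target corresponding to a family. -/
def Corr (W : Opens Y) (s : (baseLvl F h).Fam) (n : N.obj.obj (op W)) : Prop :=
  ∀ y ∈ W, ∃ (V : Opens S) (a : F.obj.obj (op V)) (W' : Opens Y) (hW' : W' ≤ W)
    (hV : W' ≤ pre h V), y ∈ W' ∧ (∀ z (hz : z ∈ W'), s z = germAt F (h z) (hV hz) a) ∧
      res N.obj hW' n = res N.obj hV (psi F ψ V a)

theorem psi_eq_of_germ {y : Y} {V V' : Opens S} (hy : h y ∈ V) (hy' : h y ∈ V')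
    (a : F.obj.obj (op V)) (a' : F.obj.obj (op V')) (e : germAt F (h y) hy a = germAt F (h y) hy' a') :
    ∃ (T : Opens Y) (hT : T ≤ pre h V) (hT' : T ≤ pre h V'), y ∈ T ∧
      res N.obj hT (psi F ψ V a) = res N.obj hT' (psi F ψ V' a') := by
  obtain ⟨U, hU, hU', hyU, eU⟩ := exists_res_eq_of_germAt_eq F hy hy' a a' e
  refine ⟨pre h U, pre_mono h hU, pre_mono h hU', hyU, ?_⟩
  exact (psi_res F ψ hU a).trans ((congrArg _ eU).trans (psi_res F ψ hU' a').symm)

theorem corr_unique {W : Opens Y} {s : (baseLvl F h).Fam} {n n' : N.obj.obj (op W)}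
    (hn : Corr F ψ W s n) (hn' : Corr F ψ W s n') : n = n' := by
  have key : ∀ y ∈ W, ∃ (T : Opens Y) (hT : T ≤ W), y ∈ T ∧ res N.obj hT n = res N.obj hT n' := by
    intro y hy
    obtain ⟨V, a, W₁, hW₁, hV, hy₁, hs, hr⟩ := hn y hy
    obtain ⟨V', a', W₂, hW₂, hV', hy₂, hs', hr'⟩ := hn' y hy
    obtain ⟨T, hT, hT', hyT, eT⟩ := psi_eq_of_germ F ψ (hV hy₁) (hV' hy₂) a a'
      ((hs y hy₁).symm.trans (hs' y hy₂))
    refine ⟨T ⊓ W₁ ⊓ W₂, inf_le_right.trans hW₂, ⟨⟨hyT, hy₁⟩, hy₂⟩, ?_⟩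
    have h₁ := congrArg (res N.obj (inf_le_left.trans inf_le_right : T ⊓ W₁ ⊓ W₂ ≤ W₁)) hr
    have h₂ := congrArg (res N.obj (inf_le_right : T ⊓ W₁ ⊓ W₂ ≤ W₂)) hr'
    have h₃ := congrArg (res N.obj (inf_le_left.trans inf_le_left : T ⊓ W₁ ⊓ W₂ ≤ T)) eT
    simp only [res_res] at h₁ h₂ h₃
    exact h₁.trans (h₃.trans h₂.symm)
  choose T hT hyT eT using key
  exact CohBase.sheaf_ext N (κ := W) (V := fun y => T y.1 y.2) (fun y => hT y.1 y.2)
    (fun y hy => Opens.mem_iSup.2 ⟨⟨y, hy⟩, hyT y hy⟩) fun y => eT y.1 y.2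

theorem corr_exists {W : Opens Y} {s : (baseLvl F h).Fam} (hs : s ∈ (baseLvl F h).secSub W) :
    ∃ n, Corr F ψ W s n := by
  have key : ∀ y ∈ W, ∃ (V : Opens S) (a : F.obj.obj (op V)) (W' : Opens Y) (_ : W' ≤ W)
      (hV : W' ≤ pre h V), y ∈ W' ∧ ∀ z (hz : z ∈ W'), s z = germAt F (h z) (hV hz) a := by
    intro y hy
    obtain ⟨V, a, ha⟩ := hs.2 y hy
    obtain ⟨U, hU, hUo, hyU⟩ := mem_nhds_iff.1 ha
    refine ⟨V, a, W ⊓ ⟨U, hUo⟩, inf_le_left, fun z hz => (hU hz.2).1, ⟨hy, hyU⟩, fun z hz => ?_⟩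
    exact (hU hz.2).2
  choose V a W' hW' hV hy' hsa using key
  let n' : ∀ y : W, N.obj.obj (op (W' y.1 y.2)) := fun y =>
    res N.obj (hV y.1 y.2) (psi F ψ (V y.1 y.2) (a y.1 y.2))
  obtain ⟨n, hn⟩ := CohBase.sheaf_glue N (κ := W) (V := fun y => W' y.1 y.2) (W := W)
    (fun y => hW' y.1 y.2) (fun y hy => Opens.mem_iSup.2 ⟨⟨y, hy⟩, hy' y hy⟩) n' fun p q => by
      let T : Opens Y := W' p.1 p.2 ⊓ W' q.1 q.2
      have key' : ∀ z ∈ T, ∃ (U : Opens Y) (hU : U ≤ T), z ∈ U ∧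
          res N.obj hU (res N.obj inf_le_left (n' p)) = res N.obj hU (res N.obj inf_le_right (n' q)) := by
        intro z hz
        obtain ⟨U, hU, hU', hzU, eU⟩ := psi_eq_of_germ F ψ (hV _ _ hz.1) (hV _ _ hz.2)
          (a p.1 p.2) (a q.1 q.2) ((hsa _ _ z hz.1).symm.trans (hsa _ _ z hz.2))
        refine ⟨U ⊓ T, inf_le_right, ⟨hzU, hz⟩, ?_⟩
        have h₁ := congrArg (res N.obj (inf_le_left : U ⊓ T ≤ U)) eU
        simp only [n', res_res] at h₁ ⊢
        exact h₁
      choose U hU hzU eU using key'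
      exact CohBase.sheaf_ext N (κ := T) (V := fun z => U z.1 z.2) (fun z => hU z.1 z.2)
        (fun z hz => Opens.mem_iSup.2 ⟨⟨z, hz⟩, hzU z hz⟩) fun z => eU z.1 z.2
  exact ⟨n, fun y hy => ⟨V y hy, a y hy, W' y hy, hW' y hy, hV y hy, hy' y hy, hsa y hy, hn ⟨y, hy⟩⟩⟩

theorem corr_add {W : Opens Y} {s t : (baseLvl F h).Fam} {n m : N.obj.obj (op W)}
    (hn : Corr F ψ W s n) (hm : Corr F ψ W t m) : Corr F ψ W (s + t) (n + m) := fun y hy => by
  obtain ⟨V, a, W₁, hW₁, hV, hy₁, hs, hr⟩ := hn y hy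
  obtain ⟨V', a', W₂, hW₂, hV', hy₂, hs', hr'⟩ := hm y hy
  refine ⟨V ⊓ V', res F.obj inf_le_left a + res F.obj inf_le_right a', W₁ ⊓ W₂,
    inf_le_left.trans hW₁, fun z hz => ⟨hV hz.1, hV' hz.2⟩, ⟨hy₁, hy₂⟩, fun z hz => ?_, ?_⟩
  · show s z + t z = _
    rw [hs z hz.1, hs' z hz.2]
    exact (congrArg₂ (· + ·)
      (germAt_res F (inf_le_left : V ⊓ V' ≤ V) _ (show h z ∈ V ⊓ V' from ⟨hV hz.1, hV' hz.2⟩) a).symm
      (germAt_res F (inf_le_right : V ⊓ V' ≤ V') _ (show h z ∈ V ⊓ V' from ⟨hV hz.1, hV' hz.2⟩) a').symm).trans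
        (map_add _ _ _).symm
  · have h₁ := congrArg (res N.obj (inf_le_left : W₁ ⊓ W₂ ≤ W₁)) hr
    have h₂ := congrArg (res N.obj (inf_le_right : W₁ ⊓ W₂ ≤ W₂)) hr'
    simp only [res_res] at h₁ h₂
    rw [map_add, map_add, map_add, h₁, h₂, ← psi_res, ← psi_res]
    exact congrArg₂ (· + ·) (res_res N.obj _ _ _).symm (res_res N.obj _ _ _).symm

theorem corr_res {W W' : Opens Y} (hW : W' ≤ W) {s : (baseLvl F h).Fam} {n : N.obj.obj (op W)}
    (hn : Corr F ψ W s n) : Corr F ψ W' ((baseLvl F h).cut W' s) (res N.obj hW n) := fun y hy => by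
  obtain ⟨V, a, W₁, hW₁, hV, hy₁, hs, hr⟩ := hn y (hW hy)
  refine ⟨V, a, W₁ ⊓ W', inf_le_right, inf_le_left.trans hV, ⟨hy₁, hy⟩, fun z hz => ?_, ?_⟩
  · rw [Lvl.cut_of_mem _ hz.2, hs z hz.1]
  · have h₁ := congrArg (res N.obj (inf_le_left : W₁ ⊓ W' ≤ W₁)) hr
    simp only [res_res] at h₁ ⊢
    exact h₁

/-- The map out of the etale space attached to a map into a pushforward. -/
def fromBase : (baseLvl F h).shf ⟶ N :=
  ⟨{ app := fun W => AddCommGrpCat.ofHom (AddMonoidHom.mk'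
        (fun s : (baseLvl F h).secSub W.unop => (corr_exists F ψ s.2).choose)
        fun s t => corr_unique F ψ (corr_exists F ψ (s + t).2).choose_spec
          (corr_add F ψ (corr_exists F ψ s.2).choose_spec (corr_exists F ψ t.2).choose_spec))
     naturality := fun W W' f => AddCommGrpCat.hom_ext (AddMonoidHom.ext
      fun (s : (baseLvl F h).secSub W.unop) =>
        corr_unique F ψ (corr_exists F ψ ((baseLvl F h).cut_mem_secSub (leOfHom f.unop) s.2)).choose_spec
          (corr_res F ψ (leOfHom f.unop) (corr_exists F ψ s.2).choose_spec)) }⟩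

theorem θ_fromBase : θ F h ≫ (CohTop.push h).map (fromBase F ψ) = ψ := by
  ext V a
  refine corr_unique F ψ (corr_exists F ψ ((θ F h).hom.app V a :
    (baseLvl F h).secSub (pre h V.unop)).2).choose_spec fun y hy =>
      ⟨V.unop, a, pre h V.unop, le_rfl, le_rfl, hy, fun z hz => θ_apply F h a hz, rfl⟩

theorem fromBase_unique (Φ : (baseLvl F h).shf ⟶ N) (hΦ : θ F h ≫ (CohTop.push h).map Φ = ψ) :
    Φ = fromBase F ψ := by
  ext W s
  refine corr_unique F ψ (fun y hy => ?_)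
    (corr_exists F ψ (s : (baseLvl F h).secSub W.unop).2).choose_spec
  obtain ⟨V, a, ha⟩ := (s : (baseLvl F h).secSub W.unop).2.2 y hy
  obtain ⟨U, hU, hUo, hyU⟩ := mem_nhds_iff.1 ha
  let W₁ : Opens Y := W.unop ⊓ ⟨U, hUo⟩
  have hV : W₁ ≤ pre h V := fun z hz => (hU hz.2).1
  refine ⟨V, a, W₁, inf_le_left, hV, ⟨hy, hyU⟩, fun z hz => (hU hz.2).2, ?_⟩
  subst hΦ
  let L := baseLvl F h
  refine (res_map Φ.hom (inf_le_left : W₁ ≤ W.unop) s).trans (Eq.trans ?_
    (res_map Φ.hom hV ((θ F h).hom.app (op V) a : (baseLvl F h).secSub (pre h V))).symm)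
  refine congrArg (Φ.hom.app (op W₁)) (Subtype.ext (funext fun z => ?_))
  show L.cut W₁ (s : L.secSub W.unop).1 z = L.cut W₁ (L.cut (pre h V) (germFam F h a)) z
  by_cases hz : z ∈ W₁
  · refine (L.cut_of_mem hz _).trans (Eq.trans ?_
      ((L.cut_of_mem hz _).trans (cut_germFam_of_mem F h a (hV hz) (hV hz))).symm)
    exact (hU hz.2).2
  · exact (L.cut_of_notMem hz _).trans (L.cut_of_notMem hz _).symm

variable (h)

/-- The etale space is that of the inverse image. -/
def pullIsoShf : (CohTop.pull h).obj F ≅ (baseLvl F h).shf :=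
  let adj := TopCat.Sheaf.pullbackPushforwardAdjunction AddCommGrpCat.{u} h
  { hom := (adj.homEquiv _ _).symm (θ F h)
    inv := fromBase F (adj.unit.app F)
    hom_inv_id := by
      refine (adj.homEquiv _ _).injective ?_
      refine (adj.homEquiv_naturality_right _ _).trans
        ((congrArg (· ≫ _) (Equiv.apply_symm_apply _ _)).trans ?_)
      exact (θ_fromBase F (adj.unit.app F)).trans (adj.homEquiv_id _).symm
    inv_hom_id := by
      refine (fromBase_unique F (θ F h) _ ?_).trans (fromBase_unique F (θ F h) (𝟙 _) ?_).symm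
      · refine (congrArg (θ F h ≫ ·) ((CohTop.push h).map_comp _ _)).trans ?_
        refine (Category.assoc _ _ _).symm.trans ((congrArg (· ≫ _) (θ_fromBase F (adj.unit.app F))).trans ?_)
        exact (adj.homEquiv_unit _ _ _).symm.trans (Equiv.apply_symm_apply _ _)
      · exact (congrArg (θ F h ≫ ·) ((CohTop.push h).map_id _)).trans (Category.comp_id _) }

/-- The cohomology of an inverse image, computed by families of germs. -/
theorem nonempty_H_pull_iso (n : ℕ) :
    Nonempty ((baseLvl F h).godCx.homology n ≅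
      AddCommGrpCat.of (CohTop.H ((CohTop.pull h).obj F) n)) := by
  obtain ⟨e⟩ := (baseLvl F h).nonempty_godCx_iso n
  exact ⟨e ≪≫ (((HEquiv ((CohTop.pull h).obj F) n).trans
    (extIsoRight' (pullIsoShf F h) n)).symm).toAddCommGrpIso⟩
where
  /-- Functoriality of cohomology in isomorphisms. -/
  extIsoRight' {A B : CohTop.Ab Y} (i : A ≅ B) (n : ℕ) :
      HU (⊤ : Opens Y) A n ≃+ HU (⊤ : Opens Y) B n :=
    { hmap (⊤ : Opens Y) i.hom n with
      invFun := hmap (⊤ : Opens Y) i.inv n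
      left_inv := fun x => by
        show hmap _ i.inv n (hmap _ i.hom n x) = x
        simp [hmap_apply]
      right_inv := fun x => by
        show hmap _ i.hom n (hmap _ i.inv n x) = x
        simp [hmap_apply] }

end Groth.Agent.TopDescent
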