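import Groth.Agent.TopDescent.Restr
import Groth.Agent.TopDescent.LvlOpen
import Groth.Agent.TopDescent.LvlBase

/-!
# Cohomology of a restriction by cycles of families near the subspace
-/

set_option linter.style.haveILetI false
set_option linter.unusedSectionVars false
set_option synthInstance.maxHeartbeats 400000

universe u

open CategoryTheory Limits Opposite TopologicalSpace Topology Filter

noncomputable section

namespace Groth.Agent.TopDescent

namespace Lvl

variable {Y : TopCat.{u}} (L : Lvl (Y : Type u))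

/-- The cycles. -/
abbrev cyc (q : ℕ) : AddSubgroup (L.iter q).Fam := (L.dI q).ker

/-- The boundaries. -/
def bdSub : ∀ q, AddSubgroup (L.cyc q)
  | 0 => ⊥
  | q + 1 => (L.dI q).range.comap (L.cyc (q + 1)).subtype

/-- The cohomology groups of the complex of families. -/
abbrev Hgrp (q : ℕ) : Type u := L.cyc q ⧸ L.bdSub q

/-- Cycles are global sections. -/
def cycSec (q : ℕ) : L.cyc q ≃+ (L.iter q).secSub ⊤ where
  toFun s := ⟨s.1, ((L.iter q).ker_d_eq _).1 s.2⟩
  invFun t := ⟨t.1, ((L.iter q).ker_d_eq _).2 t.2⟩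
  left_inv _ := rfl
  right_inv _ := rfl
  map_add' _ _ := rfl

theorem bdSub_eq_ker : ∀ q,
    L.bdSub q = ((L.ψ ⊤ q).comp (L.cycSec q).toAddMonoidHom).ker
  | 0 => by
    ext s
    constructor
    · intro h
      rw [show s = 0 from h]
      exact map_zero _
    · intro h
      exact (L.cycSec 0).injective ((L.ψ_zero_injective ⊤ (h.trans (map_zero _).symm)).trans
        (map_zero _).symm)
  | q + 1 => by
    ext s
    refine Iff.trans ?_ (L.ψ_eq_zero_iff ⊤ q (L.cycSec (q + 1) s)).symm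
    constructor
    · rintro ⟨w, hw⟩
      exact ⟨w, fun z _ => congrFun hw z⟩
    · rintro ⟨w, hw⟩
      exact ⟨w, funext fun z => hw z trivial⟩

/-- The complex of families computes cohomology, explicit form. -/
def hgrpEquiv (q : ℕ) : L.Hgrp q ≃+ CohBase.HU (⊤ : Opens Y) L.shf q :=
  (QuotientAddGroup.quotientAddEquivOfEq (L.bdSub_eq_ker q)).trans
    (QuotientAddGroup.quotientKerEquivOfSurjective _
      ((L.ψ_surjective ⊤ q).comp (L.cycSec q).surjective))

end Lvl

section Near

variable {X Z : TopCat.{u}} {L : Lvl (X : Type u)} {M : Lvl (Z : Type u)} (φ : Lvl.Hom L M)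

/-- The families vanishing near the subspace. -/
def nearZero (q : ℕ) : AddSubgroup (L.iter q).Fam where
  carrier := {a | ∀ z, ∀ᶠ y in 𝓝 (φ.f z), a y = 0}
  zero_mem' := fun _ => Eventually.of_forall fun _ => rfl
  add_mem' := fun {a b} ha hb z => ((ha z).and (hb z)).mono fun y hy => by
    show a y + b y = 0
    rw [hy.1, hy.2, add_zero]
  neg_mem' := fun {a} ha z => (ha z).mono fun y hy => by
    show -a y = 0
    rw [hy, neg_zero]

/-- The families which are cycles near the subspace. -/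
abbrev nearCyc (q : ℕ) : AddSubgroup (L.iter q).Fam := (nearZero φ (q + 1)).comap (L.dI q)

theorem mem_nearZero_iff {q : ℕ} {a : (L.iter q).Fam} :
    a ∈ nearZero φ q ↔ ∀ z, ∀ᶠ y in 𝓝 (φ.f z), a y = 0 := Iff.rfl

variable (hdom : φ.dom = Set.univ)

include hdom in
theorem pull_nearZero {q : ℕ} {a : (L.iter q).Fam} (h : a ∈ nearZero φ q) :
    (φ.iter q).pull a = 0 :=
  funext fun z => (pull_eventually_zero φ hdom q (h z)).self_of_nhds

include hdom in
theorem pull_mem_cyc {q : ℕ} {a : (L.iter q).Fam} (h : a ∈ nearCyc φ q) :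
    (φ.iter q).pull a ∈ M.cyc q :=
  (pull_d φ hdom q a).symm.trans (pull_nearZero φ hdom h)

/-- The class of a family which is a cycle near the subspace. -/
def resCls (q : ℕ) : nearCyc φ q →+ M.Hgrp q :=
  (QuotientAddGroup.mk' _).comp (((φ.iter q).pull.comp (nearCyc φ q).subtype).codRestrict _
    fun a => pull_mem_cyc φ hdom a.2)

theorem resCls_apply (q : ℕ) (a : nearCyc φ q) :
    resCls φ hdom q a = QuotientAddGroup.mk ⟨(φ.iter q).pull a.1, pull_mem_cyc φ hdom a.2⟩ := rfl

theorem resCls_of_nearZero {q : ℕ} (a : nearCyc φ q) (h : a.1 ∈ nearZero φ q) :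
    resCls φ hdom q a = 0 := by
  rw [resCls_apply, QuotientAddGroup.eq_zero_iff,
    show (⟨(φ.iter q).pull a.1, pull_mem_cyc φ hdom a.2⟩ : M.cyc q) = 0 from
      Subtype.ext (pull_nearZero φ hdom h)]
  exact zero_mem _

theorem resCls_congr {q : ℕ} (a b : nearCyc φ q) (h : a.1 - b.1 ∈ nearZero φ q) :
    resCls φ hdom q a = resCls φ hdom q b :=
  sub_eq_zero.1 ((map_sub (resCls φ hdom q) a b).symm.trans (resCls_of_nearZero φ hdom (a - b) h))

theorem resCls_of_boundary {q : ℕ} (a : nearCyc φ (q + 1)) (u : (L.iter q).Fam)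
    (h : a.1 - L.dI q u ∈ nearZero φ (q + 1)) : resCls φ hdom (q + 1) a = 0 := by
  rw [resCls_apply, QuotientAddGroup.eq_zero_iff]
  refine ⟨(φ.iter q).pull u, (pull_d φ hdom q u).symm.trans ?_⟩
  have h0 := pull_nearZero φ hdom h
  rw [map_sub, sub_eq_zero] at h0
  exact h0.symm

variable (hinj : ∀ z, Function.Injective (φ.σ z))
  (hlift : ∀ z s, s ∈ M.N z → ∃ t ∈ L.N (φ.f z), ∀ᶠ w in 𝓝 z, φ.pull t w = s w)
  (hs : RestrGood φ hdom)

include hinj in
theorem resCls_zero_eq_zero (a : nearCyc φ 0) (h : resCls φ hdom 0 a = 0) :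
    a.1 ∈ nearZero φ 0 := by
  rw [resCls_apply, QuotientAddGroup.eq_zero_iff] at h
  exact fun z => restr_zero φ hdom hinj a.1 a.2 (congrArg Subtype.val h) z

include hinj hlift hs in
theorem resCls_succ_eq_zero : ∀ {q : ℕ} (a : nearCyc φ (q + 1)),
    resCls φ hdom (q + 1) a = 0 → ∃ u : (L.iter q).Fam, a.1 - L.dI q u ∈ nearZero φ (q + 1) := by
  intro q a h
  rw [resCls_apply, QuotientAddGroup.eq_zero_iff] at h
  obtain ⟨b, hb⟩ := h
  cases q with
  | zero =>
    obtain ⟨u, hu, -⟩ := restr_one φ hdom hinj hlift hs a.1 b a.2 hb.symm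
    exact ⟨u, fun z => (hu z).mono fun y hy => sub_eq_zero.2 hy.symm⟩
  | succ q =>
    obtain ⟨u, v, hu, -⟩ := restr_succ φ hdom hinj hlift hs q a.1 b a.2 hb.symm
    exact ⟨u, fun z => (hu z).mono fun y hy => sub_eq_zero.2 hy.symm⟩

include hinj hlift hs in
theorem resCls_surjective : ∀ q, Function.Surjective (resCls φ hdom q) := by
  intro q c
  obtain ⟨⟨b, hb⟩, rfl⟩ := QuotientAddGroup.mk_surjective c
  have h0 : ∀ q (z : Z), ∀ᶠ y in 𝓝 (φ.f z), L.dI q 0 y = 0 := fun q z =>
    Eventually.of_forall fun y => congrFun (map_zero (L.dI q)) y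
  cases q with
  | zero =>
    obtain ⟨u, hu, he⟩ := restr_one φ hdom hinj hlift hs 0 b (h0 1)
      ((map_zero _).trans (Eq.symm hb))
    refine ⟨⟨u, hu⟩, ?_⟩
    rw [resCls_apply]
    exact congrArg _ (Subtype.ext he)
  | succ q =>
    obtain ⟨u, v, hu, he⟩ := restr_succ φ hdom hinj hlift hs q 0 b (h0 _)
      ((map_zero _).trans (Eq.symm hb))
    refine ⟨⟨u, hu⟩, QuotientAddGroup.eq.2 ⟨-v, ?_⟩⟩
    show M.dI q (-v) = -(φ.iter (q + 1)).pull u + b
    rw [map_neg, ← he]
    abel

end Near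

section Base

variable {S : TopCat.{u}} (F : CohTop.Ab S) {X Z : TopCat.{u}} (h : X ⟶ S) (h' : Z ⟶ S)
  (i : Z ⟶ X) (e : ∀ z, h (i z) = h' z)

/-- The restriction of germs along a map over the base. -/
abbrev restrHom : Lvl.Hom (baseLvl F h) (baseLvl F h') :=
  baseHom F h' (fun z => i z) Set.univ isOpen_univ (fun _ _ => i.hom.continuous.continuousAt)
    fun z _ => e z

theorem castHom_bijective {x x' : S} (e : x = x') : Function.Bijective (castHom F e) := by
  subst e
  exact Function.bijective_id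

theorem restrHom_injective (z : Z) : Function.Injective ((restrHom F h h' i e).σ z) := by
  intro a b hab
  exact (castHom_bijective F (e z)).1
    ((baseσ_eq F (e z) a).symm.trans (hab.trans (baseσ_eq F (e z) b)))

theorem restrHom_lift (z : Z) (s : (baseLvl F h').Fam) (hs : s ∈ (baseLvl F h').N z) :
    ∃ t ∈ (baseLvl F h).N ((restrHom F h h' i e).f z),
      ∀ᶠ w in 𝓝 z, (restrHom F h h' i e).pull t w = s w := by
  obtain ⟨V, a, ha⟩ := hs
  obtain ⟨hz, -⟩ := ha.self_of_nhds
  have hiz : h (i z) ∈ V := by rw [e z]; exact hz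
  refine ⟨germFam F h a, germFam_mem F h a hiz, ha.mono fun w ⟨hw, ew⟩ => ?_⟩
  have hiw : h (i w) ∈ V := by rw [e w]; exact hw
  refine ((baseσ_eq F (e w) _).trans ?_).trans ew.symm
  exact (congrArg (castHom F (e w)) (germFam_of_mem F h a hiw)).trans
    (castHom_germAt F (e w) hiw a)

/-- The cohomology of an inverse image, explicit form. -/
def hgrpPullEquiv (q : ℕ) :
    (baseLvl F h).Hgrp q ≃+ CohTop.H ((CohTop.pull h).obj F) q :=
  ((baseLvl F h).hgrpEquiv q).trans
    ((nonempty_H_pull_iso.extIsoRight' (pullIsoShf F h).symm q).trans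
      (CohBase.HEquiv ((CohTop.pull h).obj F) q).symm)

/-- A sheaf is the sheaf of its etale space. -/
def selfIsoShf : F ≅ (baseLvl F (𝟙 S)).shf :=
  (((TopCat.Sheaf.pullbackPushforwardAdjunction AddCommGrpCat.{u} (𝟙 S)).leftAdjointUniq
      Adjunction.id).app F).symm ≪≫ pullIsoShf F (𝟙 S)

end Base

section Colim

theorem nonempty_colimit_equiv {J : Type u} [SmallCategory J] [IsFiltered J]
    (D : J ⥤ AddCommGrpCat.{u}) (c : Cocone D)
    (surj : ∀ x : c.pt, ∃ (j : J) (a : D.obj j), c.ι.app j a = x)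
    (inj : ∀ (j : J) (a : D.obj j), c.ι.app j a = 0 → ∃ (k : J) (f : j ⟶ k), D.map f a = 0) :
    Nonempty ((colimit D : AddCommGrpCat.{u}) ≃+ c.pt) := by
  refine ⟨AddEquiv.ofBijective (colimit.desc D c).hom ⟨(injective_iff_map_eq_zero _).2 ?_, ?_⟩⟩
  · intro x hx
    obtain ⟨j, a, rfl⟩ := Concrete.colimit_exists_rep D x
    obtain ⟨k, f, hk⟩ := inj j a
      ((ConcreteCategory.congr_hom (colimit.ι_desc c j) a).symm.trans hx)
    refine (ConcreteCategory.congr_hom (colimit.w D f) a).symm.trans ?_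
    show colimit.ι D k (D.map f a) = 0
    rw [hk, map_zero]
  · intro x
    obtain ⟨j, a, ha⟩ := surj x
    exact ⟨colimit.ι D j a, (ConcreteCategory.congr_hom (colimit.ι_desc c j) a).trans ha⟩

end Colim

end Groth.Agent.TopDescent
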