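import Groth.Agent.TopDescent.Near

/-!
# Cohomology of a compact separated subset as a colimit over its open neighbourhoods
-/

set_option linter.style.haveILetI false
set_option linter.unusedSectionVars false
set_option synthInstance.maxHeartbeats 400000
set_option backward.isDefEq.respectTransparency false

universe u

open CategoryTheory Limits Opposite TopologicalSpace Topology Filter

noncomputable section

namespace Groth.Agent.TopDescent

variable {X Z : TopCat.{u}} (F : CohTop.Ab X) (i : Z ⟶ X)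

/-- The restriction of germs to the subspace. -/
abbrev subHom : Lvl.Hom (baseLvl F (𝟙 X)) (baseLvl F i) :=
  restrHom F (𝟙 X) i i fun _ => rfl

/-- The open sets containing the image. -/
abbrev nhdProp : ObjectProperty (Opens X)ᵒᵖ := fun U => Set.range i ⊆ (U.unop : Set X)

instance isFiltered_nhdProp : IsFiltered (nhdProp i).FullSubcategory where
  cocone_objs U V :=
    ⟨⟨op (U.obj.unop ⊓ V.obj.unop), fun _ h => ⟨U.property h, V.property h⟩⟩,
      ObjectProperty.homMk (homOfLE inf_le_left).op, ObjectProperty.homMk (homOfLE inf_le_right).op,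
      trivial⟩
  cocone_maps U V f g := ⟨V, 𝟙 V, by
    apply ObjectProperty.hom_ext
    exact Subsingleton.elim _ _⟩
  nonempty := ⟨⟨op ⊤, fun _ _ => trivial⟩⟩

theorem mem_nearCyc_of_secSub {q : ℕ} {U : Opens X} (hU : Set.range i ⊆ (U : Set X))
    {a : ((baseLvl F (𝟙 X)).iter q).Fam} (ha : a ∈ ((baseLvl F (𝟙 X)).iter q).secSub U) :
    a ∈ nearCyc (subHom F i) q := fun z =>
  Filter.eventually_of_mem (U.2.mem_nhds (hU ⟨z, rfl⟩)) fun _ hy =>
    ((baseLvl F (𝟙 X)).iter q).cls_eq_zero.2 (ha.2 _ hy)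

/-- Cycles on a neighbourhood, as cycles near the subspace. -/
def secToNear (q : ℕ) (U : Opens X) (hU : Set.range i ⊆ (U : Set X)) :
    ((baseLvl F (𝟙 X)).iter q).secSub U →+ nearCyc (subHom F i) q :=
  (((baseLvl F (𝟙 X)).iter q).secSub U).subtype.codRestrict _
    fun a => mem_nearCyc_of_secSub F i hU a.2

theorem exists_open_nhd {q : ℕ} {a : ((baseLvl F (𝟙 X)).iter q).Fam}
    (h : a ∈ nearZero (subHom F i) q) :
    ∃ U : Opens X, Set.range i ⊆ (U : Set X) ∧ ∀ y ∈ U, a y = 0 :=
  ⟨⟨interior {y | a y = 0}, isOpen_interior⟩,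
    fun _ ⟨z, hz⟩ => hz ▸ mem_interior_iff_mem_nhds.2 (h z),
    fun _ hy => interior_subset (s := {y | a y = 0}) hy⟩

/-- The comparison map from the cohomology of a neighbourhood. -/
theorem exists_nhdMap (q : ℕ) (U : Opens X) (hU : Set.range i ⊆ (U : Set X)) :
    ∃ g : CohBase.HU U (baseLvl F (𝟙 X)).shf q →+ (baseLvl F i).Hgrp q,
      ∀ a, g ((baseLvl F (𝟙 X)).ψ U q a) =
        resCls (subHom F i) rfl q (secToNear F i q U hU a) := by
  let L := baseLvl F (𝟙 X)
  let r := (resCls (subHom F i) rfl q).comp (secToNear F i q U hU)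
  have hk : (L.ψ U q).ker ≤ r.ker := by
    intro a ha
    cases q with
    | zero =>
      rw [show a = 0 from L.ψ_zero_injective U (ha.trans (map_zero _).symm)]
      exact zero_mem _
    | succ q =>
      obtain ⟨s, hs⟩ := (L.ψ_eq_zero_iff U q a).1 ha
      refine resCls_of_boundary (subHom F i) rfl (q := q) (secToNear F i (q + 1) U hU a) s
        fun z => Filter.eventually_of_mem (U.2.mem_nhds (hU ⟨z, rfl⟩)) fun y hy => ?_
      exact (sub_eq_zero (a := a.1 y) (b := L.dI q s y)).2 (hs y hy).symm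
  exact ⟨(L.ψ U q).liftOfSurjective (L.ψ_surjective U q) ⟨r, hk⟩,
    fun a => AddMonoidHom.liftOfRightInverse_comp_apply _ _ _ ⟨r, hk⟩ a⟩

variable (hs : RestrGood (subHom F i) rfl)

include hs in
/-- The cohomology of the subspace from any cofinal system of its neighbourhoods. -/
theorem colimit_equiv_of_cofinal {J : Type u} [SmallCategory J] [IsFiltered J]
    (Un : J ⥤ (Opens X)ᵒᵖ) (hUn : ∀ j, Set.range i ⊆ ((Un.obj j).unop : Set X))
    (hcof : ∀ U : Opens X, Set.range i ⊆ (U : Set X) → ∃ j, (Un.obj j).unop ≤ U) (q : ℕ) :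
    Nonempty ((colimit (Un ⋙
        (Sheaf.cohomologyPresheafFunctor (Opens.grothendieckTopology X) q).obj F) :
          AddCommGrpCat.{u}) ≃+
      CohTop.H ((CohTop.pull i).obj F) q) := by
  let L := baseLvl F (𝟙 X)
  let D := Un ⋙
    (Sheaf.cohomologyPresheafFunctor (Opens.grothendieckTopology X) q).obj L.shf
  let e₁ : Un ⋙ (Sheaf.cohomologyPresheafFunctor (Opens.grothendieckTopology X) q).obj F ≅
      D := Functor.isoWhiskerLeft _
    ((Sheaf.cohomologyPresheafFunctor (Opens.grothendieckTopology X) q).mapIso (selfIsoShf F))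
  choose g hg using fun j : J => exists_nhdMap F i q (Un.obj j).unop (hUn j)
  let c : Cocone D :=
    { pt := AddCommGrpCat.of ((baseLvl F i).Hgrp q)
      ι :=
        { app := fun j => AddCommGrpCat.ofHom (g j)
          naturality := fun j j' f => AddCommGrpCat.hom_ext (AddMonoidHom.ext fun x => by
            obtain ⟨a, rfl⟩ := L.ψ_surjective (Un.obj j).unop q x
            show g j' (CohTop.res L.shf q (leOfHom (Un.map f).unop) (L.ψ (Un.obj j).unop q a)) =
              g j (L.ψ (Un.obj j).unop q a)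
            rw [L.ψ_res, hg, hg, ← sub_eq_zero, ← map_sub]
            refine resCls_of_nearZero _ _ _ fun z => ?_
            refine ((L.iter q).cut_eventually (hUn j' ⟨z, rfl⟩) a.1).mono fun y hy => ?_
            exact (sub_eq_zero (a := (L.iter q).cut (Un.obj j').unop a.1 y) (b := a.1 y)).2 hy) } }
  have hinj := restrHom_injective F (𝟙 X) i i fun _ => rfl
  have hlift := restrHom_lift F (𝟙 X) i i fun _ => rfl
  obtain ⟨e⟩ := nonempty_colimit_equiv D c
    (fun x => by
      obtain ⟨a, rfl⟩ := resCls_surjective (subHom F i) rfl hinj hlift hs q x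
      obtain ⟨U, hU, hU0⟩ := exists_open_nhd F i (q := q + 1) a.2
      obtain ⟨j, hj⟩ := hcof U hU
      let V := (Un.obj j).unop
      let t : (L.iter q).secSub V := ⟨(L.iter q).cut V a.1, (L.iter q).cut_mem_godSub V a.1,
        fun z hz => (L.iter q).congr z a.1 _
          (((L.iter q).cut_eventually hz a.1).mono fun _ hw => hw.symm)
          ((L.iter q).cls_eq_zero.1 (hU0 z (hj hz)))⟩
      refine ⟨j, L.ψ V q t, (hg j t).trans ?_⟩
      rw [← sub_eq_zero, ← map_sub]
      refine resCls_of_nearZero _ _ _ fun z => ?_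
      exact ((L.iter q).cut_eventually (hUn j ⟨z, rfl⟩) a.1).mono fun y hy =>
        (sub_eq_zero (a := (L.iter q).cut V a.1 y) (b := a.1 y)).2 hy)
    (fun j x hx => by
      obtain ⟨a, rfl⟩ := L.ψ_surjective (Un.obj j).unop q x
      replace hx : g j (L.ψ (Un.obj j).unop q a) = 0 := hx
      rw [hg] at hx
      suffices ∃ (V : Opens X) (_ : Set.range i ⊆ (V : Set X)),
          ∀ (W : Opens X) (hW : W ≤ (Un.obj j).unop), W ≤ V →
            L.ψ W q ⟨(L.iter q).cut W a.1, (L.iter q).cut_mem_secSub hW a.2⟩ = 0 by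
        obtain ⟨V, hV, h0⟩ := this
        obtain ⟨j', hj'⟩ := hcof V hV
        exact ⟨IsFiltered.max j j', IsFiltered.leftToMax j j',
          (L.ψ_res (leOfHom (Un.map (IsFiltered.leftToMax j j')).unop) q a).trans
            (h0 _ (leOfHom (Un.map (IsFiltered.leftToMax j j')).unop)
              (le_trans (leOfHom (Un.map (IsFiltered.rightToMax j j')).unop) hj'))⟩
      cases q with
      | zero =>
        obtain ⟨V, hV, hV0⟩ := exists_open_nhd F i (resCls_zero_eq_zero _ _ hinj _ hx)
        refine ⟨V, hV, fun W hW hWV => ?_⟩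
        refine (congrArg _ (Subtype.ext (funext fun z => ?_) : _ = (0 : (L.iter 0).secSub
          W))).trans (map_zero _)
        by_cases hz : z ∈ W
        · exact ((L.iter 0).cut_of_mem hz _).trans (hV0 z (hWV hz))
        · exact (L.iter 0).cut_of_notMem hz _
      | succ q =>
        obtain ⟨s, hs'⟩ := resCls_succ_eq_zero _ _ hinj hlift hs _ hx
        obtain ⟨V, hV, hV0⟩ := exists_open_nhd F i hs'
        refine ⟨V, hV, fun W hW hWV => (L.ψ_eq_zero_iff _ q _).2 ⟨s, fun z hz => ?_⟩⟩
        exact ((sub_eq_zero (a := a.1 z) (b := L.dI q s z)).1 (hV0 z (hWV hz))).symm.trans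
          ((L.iter (q + 1)).cut_of_mem hz _).symm)
  exact ⟨((HasColimit.isoOfNatIso e₁).addCommGroupIsoToAddEquiv.trans e).trans
    (hgrpPullEquiv F i q)⟩

theorem colimit_equiv (h : SepMap (fun z : Z => i z)) (q : ℕ) :
    Nonempty ((colimit ((nhdProp i).ι ⋙
        (Sheaf.cohomologyPresheafFunctor (Opens.grothendieckTopology X) q).obj F) :
          AddCommGrpCat.{u}) ≃+
      CohTop.H ((CohTop.pull i).obj F) q) :=
  colimit_equiv_of_cofinal F i (h.restrGood (subHom F i) rfl) (nhdProp i).ι (fun U => U.property)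
    (fun U hU => ⟨⟨op U, hU⟩, le_rfl⟩) q

end Groth.Agent.TopDescent
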