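import Groth.Agent.TopDescent.Restr
import Groth.Agent.SpectralLib.Basic

/-!
# Pro-open quasi-compact subspaces of spectral spaces

For such a subspace families near it glue over quasi-compact opens; hence the etale spaces of the
cone of restriction have all their sections over quasi-compact opens extending and no higher
cohomology.
-/

set_option linter.style.haveILetI false
set_option linter.unusedSectionVars false
set_option synthInstance.maxHeartbeats 400000

universe u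

open CategoryTheory Limits Opposite TopologicalSpace Topology Filter

noncomputable section

namespace Groth.Agent.TopDescent

/-- Subspaces which are well approximated by quasi-compact opens. -/
structure Tame {Z X : Type u} [TopologicalSpace Z] [TopologicalSpace X] (i : Z → X) : Prop where
  ind : IsInducing i
  cpt : ∀ O : Set X, IsOpen O → IsCompact O → IsCompact (i ⁻¹' O)
  whole : ∃ O : Set X, IsOpen O ∧ IsCompact O ∧ Set.range i ⊆ O
  basis : ∀ (V : Set X) (x : X), IsOpen V → x ∈ V → ∃ O, IsOpen O ∧ IsCompact O ∧ x ∈ O ∧ O ⊆ V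
  inter : ∀ O O' : Set X, IsOpen O → IsCompact O → IsOpen O' → IsCompact O' → IsCompact (O ∩ O')
  tube : ∀ (O O' : Set X), IsOpen O → IsCompact O → IsOpen O' → Set.range i ∩ O ⊆ O' →
    ∃ U, IsOpen U ∧ Set.range i ⊆ U ∧ U ∩ O ⊆ O'

theorem Tame.induction {Z X : Type u} [TopologicalSpace Z] [TopologicalSpace X] {i : Z → X}
    (hi : Tame i) {O : Set X} (hO : IsOpen O) (hOc : IsCompact O) {P : Set X → Prop} (h0 : P ∅)
    (hu : ∀ O₁ O₂, IsOpen O₁ → IsCompact O₁ → IsOpen O₂ → IsCompact O₂ → O₁ ⊆ O → O₂ ⊆ O →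
      P O₁ → P O₂ → P (O₁ ∪ O₂))
    (hloc : ∀ z, i z ∈ O → ∃ O', IsOpen O' ∧ IsCompact O' ∧ i z ∈ O' ∧ O' ⊆ O ∧ P O') :
    ∃ O', IsOpen O' ∧ IsCompact O' ∧ i ⁻¹' O' = i ⁻¹' O ∧ P O' := by
  choose V hV hVc hzV hVO hPV using fun z : i ⁻¹' O => hloc z z.2
  obtain ⟨t, ht⟩ := (hi.cpt O hO hOc).elim_finite_subcover (fun z => i ⁻¹' V z)
    (fun z => (hV z).preimage hi.ind.continuous) fun z hz => Set.mem_iUnion.2 ⟨⟨z, hz⟩, hzV _⟩
  classical
  have key : ∀ s : Finset (i ⁻¹' O), IsOpen (⋃ z ∈ s, V z) ∧ IsCompact (⋃ z ∈ s, V z) ∧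
      (⋃ z ∈ s, V z) ⊆ O ∧ P (⋃ z ∈ s, V z) := by
    intro s
    induction s using Finset.induction_on with
    | empty => simpa using h0
    | insert a s _ ih =>
      rw [Finset.set_biUnion_insert]
      exact ⟨(hV a).union ih.1, (hVc a).union ih.2.1, Set.union_subset (hVO a) ih.2.2.1,
        hu _ _ (hV a) (hVc a) ih.1 ih.2.1 (hVO a) ih.2.2.1 (hPV a) ih.2.2.2⟩
  refine ⟨_, (key t).1, (key t).2.1, Set.Subset.antisymm (fun z hz => (key t).2.2.1 hz) ?_,
    (key t).2.2.2⟩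
  intro z hz
  obtain ⟨w, hw, hzw⟩ := Set.mem_iUnion₂.1 (ht hz)
  exact Set.mem_iUnion₂.2 ⟨w, hw, hzw⟩

theorem Tame.exists_small {Z X : Type u} [TopologicalSpace Z] [TopologicalSpace X] {i : Z → X}
    (hi : Tame i) {O : Set X} (hO : IsOpen O) {z : Z} (hz : i z ∈ O) {W : Set Z} (hW : W ∈ 𝓝 z) :
    ∃ O', IsOpen O' ∧ IsCompact O' ∧ i z ∈ O' ∧ O' ⊆ O ∧ i ⁻¹' O' ⊆ W := by
  rw [hi.ind.nhds_eq_comap] at hW
  obtain ⟨U, hU, hUW⟩ := hW
  obtain ⟨V, hVU, hV, hzV⟩ := mem_nhds_iff.1 hU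
  obtain ⟨O', h1, h2, h3, h4⟩ := hi.basis (V ∩ O) (i z) (hV.inter hO) ⟨hzV, hz⟩
  exact ⟨O', h1, h2, h3, fun x hx => (h4 hx).2, fun w hw => hUW (hVU (h4 hw).1)⟩

/-- Sections over quasi-compact opens extend. -/
def QExt {Z : TopCat.{u}} {X : Type u} [TopologicalSpace X] (i : ↑Z → X) (M : Lvl (Z : Type u)) :
    Prop :=
  ∀ O : Set X, IsOpen O → IsCompact O → ∀ t : M.Fam, (∀ z, i z ∈ O → t ∈ M.N z) →
    ∃ g ∈ M.secSub ⊤, ∀ z, i z ∈ O → g z = t z

namespace QExt

variable {Z : TopCat.{u}} {X : Type u} [TopologicalSpace X] {i : ↑Z → X} {M : Lvl (Z : Type u)}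

theorem exists_lift (hi : Tame i) (hM : QExt i M) {O : Set X} (hO : IsOpen O) (hOc : IsCompact O)
    (t : M.next.Fam) (ht : ∀ z, i z ∈ O → t ∈ M.next.N z) :
    ∃ s : M.Fam, ∀ z, i z ∈ O → M.cls z s = t z := by
  classical
  obtain ⟨O', -, -, e, s, hs⟩ := hi.induction hO hOc
    (P := fun O' => ∃ s : M.Fam, ∀ z, i z ∈ O' → M.cls z s = t z)
    ⟨0, fun z hz => absurd hz (Set.notMem_empty _)⟩
    (fun O₁ O₂ h₁ h₁c h₂ h₂c _ _ ⟨s₁, hs₁⟩ ⟨s₂, hs₂⟩ => by
      obtain ⟨g, hg, hg'⟩ := hM (O₁ ∩ O₂) (h₁.inter h₂) (hi.inter _ _ h₁ h₁c h₂ h₂c) (s₁ - s₂)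
        fun z hz => M.cls_eq_iff.1 ((hs₁ z hz.1).trans (hs₂ z hz.2).symm)
      refine ⟨fun z => if i z ∈ O₁ then s₁ z - g z else s₂ z, fun z hz => ?_⟩
      by_cases h : i z ∈ O₁
      · refine (M.cls_congr (t := s₁ - g) (Filter.eventually_of_mem
          (hi.ind.continuous.continuousAt.preimage_mem_nhds (h₁.mem_nhds h))
            fun w hw => if_pos hw)).trans ?_
        refine (M.cls_eq_iff.2 ?_).trans (hs₁ z h)
        rw [sub_sub_cancel_left]
        exact neg_mem (hg.2 z trivial)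
      · have h' : i z ∈ O₂ := hz.resolve_left h
        refine (M.cls_congr (t := s₂) (Filter.eventually_of_mem
          (hi.ind.continuous.continuousAt.preimage_mem_nhds (h₂.mem_nhds h'))
            fun w hw => ?_)).trans (hs₂ z h')
        by_cases hw₁ : i w ∈ O₁
        · rw [if_pos hw₁, hg' w ⟨hw₁, hw⟩]
          exact sub_sub_cancel _ _
        · exact if_neg hw₁)
    (fun z hz => by
      obtain ⟨r, hr⟩ := ht z hz
      obtain ⟨O', h1, h2, h3, h4, h5⟩ := hi.exists_small hO hz hr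
      exact ⟨O', h1, h2, h3, h4, r, fun w hw => (h5 hw).symm⟩)
  exact ⟨s, fun z hz => hs z (show z ∈ i ⁻¹' O' from e.symm ▸ hz)⟩

theorem next (hi : Tame i) (hM : QExt i M) : QExt i M.next := fun O hO hOc t ht => by
  obtain ⟨s, hs⟩ := exists_lift hi hM hO hOc t ht
  exact ⟨M.d s, ⟨fun z hz => absurd trivial hz, fun z _ => M.d_mem s z⟩, hs⟩

theorem iter (hi : Tame i) (hM : QExt i M) : ∀ q, QExt i (M.iter q)
  | 0 => hM
  | q + 1 => (QExt.iter hi hM q).next hi

theorem acyclic (hi : Tame i) (hM : QExt i M) : M.Acyclic := by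
  intro n
  suffices h : Subsingleton (CohBase.HU (⊤ : Opens Z) (M.iter n).shf 1) by
    obtain ⟨e⟩ := M.nonempty_HU_iter_iso n 0 (n + 1) (by omega)
    exact e.symm.toEquiv.subsingleton
  refine subsingleton_of_forall_eq 0 fun ξ => ?_
  obtain ⟨η, rfl⟩ := (M.iter n).bdry_surjective 0 ξ
  obtain ⟨t, rfl⟩ := (M.iter n).next.glob.symm.surjective η
  refine ((M.iter n).bdry_glob_eq_zero_iff t).2 ?_
  obtain ⟨O, hO, hOc, hZO⟩ := hi.whole
  obtain ⟨s, hs⟩ := exists_lift hi (hM.iter hi n) hO hOc t.1 fun z _ => t.2.2 z trivial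
  exact ⟨s, funext fun z => hs z (hZO ⟨z, rfl⟩)⟩

end QExt

section Cone

variable {X Z : TopCat.{u}} {L : Lvl (X : Type u)} {M : Lvl (Z : Type u)} (φ : Lvl.Hom L M)
  (hdom : φ.dom = Set.univ) (hi : Tame (fun z : Z => φ.f z))

include hi in
/-- Sections of the cone over quasi-compact opens come from families. -/
theorem exists_cone_rep (n : ℕ) {O : Set X} (hO : IsOpen O) (hOc : IsCompact O)
    (t : (coneLvl φ hdom n).Fam) (ht : ∀ z, φ.f z ∈ O → t ∈ (coneLvl φ hdom n).N z) :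
    ∃ p, ∀ z, φ.f z ∈ O → t z = qcls (coneSub φ n) (coneSub_open φ hdom n) z p := by
  classical
  obtain ⟨O', -, -, e, p, hp⟩ := hi.induction hO hOc
    (P := fun O' => ∃ p, ∀ z, φ.f z ∈ O' → t z = qcls (coneSub φ n) (coneSub_open φ hdom n) z p)
    ⟨0, fun z hz => absurd hz (Set.notMem_empty _)⟩
    (fun O₁ O₂ h₁ h₁c h₂ h₂c _ _ ⟨p₁, hp₁⟩ ⟨p₂, hp₂⟩ => by
      have hag : ∀ z, φ.f z ∈ O₁ → φ.f z ∈ O₂ → p₁ - p₂ ∈ coneSub φ n z := fun z a b =>
        (qcls_eq_iff _ (coneSub_open φ hdom n)).1 ((hp₁ z a).symm.trans (hp₂ z b))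
      obtain ⟨U, hU, hZU, hUO⟩ := hi.tube (O₁ ∩ O₂) (interior {x | p₁.1 x = p₂.1 x})
        (h₁.inter h₂) (hi.inter _ _ h₁ h₁c h₂ h₂c) isOpen_interior (by
          rintro _ ⟨⟨z, rfl⟩, a, b⟩
          exact mem_interior_iff_mem_nhds.2 ((hag z a b).1.mono fun x hx => sub_eq_zero.1 hx))
      let p : ConeFam (L := L) (M := M) n := (fun x => if x ∈ O₁ then p₁.1 x else p₂.1 x,
        fun w => if φ.f w ∈ O₁ then p₁.2 w else p₂.2 w)
      refine ⟨p, fun z hz => ?_⟩
      have hc := φ.cont z (hdom ▸ Set.mem_univ z)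
      by_cases h : φ.f z ∈ O₁
      · refine (hp₁ z h).trans ((qcls_eq_iff _ _).2 ⟨?_, ?_⟩)
        · filter_upwards [h₁.mem_nhds h] with x hx
          show p₁.1 x - (if x ∈ O₁ then p₁.1 x else p₂.1 x) = 0
          rw [if_pos hx, sub_self]
        · filter_upwards [hc.preimage_mem_nhds (h₁.mem_nhds h)] with w hw
          show p₁.2 w - (if φ.f w ∈ O₁ then p₁.2 w else p₂.2 w) = 0
          rw [if_pos (show φ.f w ∈ O₁ from hw), sub_self]
      · have h' : φ.f z ∈ O₂ := hz.resolve_left h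
        refine (hp₂ z h').trans ((qcls_eq_iff _ _).2 ⟨?_, ?_⟩)
        · filter_upwards [h₂.mem_nhds h', hU.mem_nhds (hZU ⟨z, rfl⟩)] with x hx hxU
          show p₂.1 x - (if x ∈ O₁ then p₁.1 x else p₂.1 x) = 0
          by_cases hx₁ : x ∈ O₁
          · rw [if_pos hx₁, interior_subset (hUO ⟨hxU, hx₁, hx⟩), sub_self]
          · rw [if_neg hx₁, sub_self]
        · filter_upwards [hc.preimage_mem_nhds (h₂.mem_nhds h')] with w hw
          show p₂.2 w - (if φ.f w ∈ O₁ then p₁.2 w else p₂.2 w) = 0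
          by_cases hw₁ : φ.f w ∈ O₁
          · rw [if_pos hw₁, ← neg_sub, neg_eq_zero]
            exact (hag w hw₁ hw).2.self_of_nhds
          · rw [if_neg hw₁, sub_self])
    (fun z hz => by
      obtain ⟨p, hp⟩ := ht z hz
      obtain ⟨O', h1, h2, h3, h4, h5⟩ := hi.exists_small hO hz hp
      exact ⟨O', h1, h2, h3, h4, p, fun w hw => h5 hw⟩)
  exact ⟨p, fun z hz => hp z (show z ∈ φ.f ⁻¹' O' from e.symm ▸ hz)⟩

include hi in
theorem qExt_coneLvl (n : ℕ) : QExt (fun z : Z => φ.f z) (coneLvl φ hdom n) :=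
  fun O hO hOc t ht => by
    obtain ⟨p, hp⟩ := exists_cone_rep φ hdom hi n hO hOc t ht
    exact ⟨fun z => qcls _ _ z p, ⟨fun z hz => absurd trivial hz, fun z _ => qcls_mem _ _ p z⟩,
      fun z hz => (hp z hz).symm⟩

include hi in
theorem coneLvl_acyclic_of_tame (n : ℕ) : (coneLvl φ hdom n).Acyclic :=
  (qExt_coneLvl φ hdom hi n).acyclic hi

include hi in
theorem coneLvl_global_of_tame (n : ℕ) (t : (coneLvl φ hdom n).Fam)
    (ht : ∀ z, t ∈ (coneLvl φ hdom n).N z) : ∃ p, ∀ z, t z = qcls _ (coneSub_open φ hdom n) z p := by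
  obtain ⟨O, hO, hOc, hZO⟩ := hi.whole
  obtain ⟨p, hp⟩ := exists_cone_rep φ hdom hi n hO hOc t fun z _ => ht z
  exact ⟨p, fun z => hp z (hZO ⟨z, rfl⟩)⟩

include hi in
theorem Tame.restrGood : RestrGood φ hdom :=
  ⟨coneLvl_acyclic_of_tame φ hdom hi, coneLvl_global_of_tame φ hdom hi⟩

end Cone

section Spectral

open SpectralLib

variable {X Z : Type u} [TopologicalSpace X] [TopologicalSpace Z] [SpectralSpace X] {i : Z → X}

/-- An intersection of a directed family of quasi-compact opens is tame. -/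
theorem tame_of_iInter (hi : IsInducing i) {ι : Type u} [Nonempty ι] (U : ι → Set X)
    (hU : ∀ j, IsOpen (U j)) (hUc : ∀ j, IsCompact (U j)) (hd : Directed (· ⊇ ·) U)
    (hr : Set.range i = ⋂ j, U j) : Tame i where
  ind := hi
  basis V x hV hx := by
    obtain ⟨O, ⟨h1, h2⟩, h3, h4⟩ :=
      PrespectralSpace.isTopologicalBasis.exists_subset_of_mem_open hx hV
    exact ⟨O, h1, h2, h3, h4⟩
  inter O O' h1 h2 h3 h4 := QuasiSeparatedSpace.inter_isCompact _ _ h1 h2 h3 h4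
  whole := by
    inhabit ι
    exact ⟨U default, hU _, hUc _, hr ▸ Set.iInter_subset U default⟩
  cpt O hO hOc := by
    rw [hi.isCompact_iff, Set.image_preimage_eq_inter_range, hr]
    exact isCompact_of_isClosed_C (@IsClosed.inter X _ _ (constructibleTopology X)
      (isClosed_C_of_compactOpen hO hOc) (@isClosed_iInter X ι (constructibleTopology X) _
        fun j => isClosed_C_of_compactOpen (hU j) (hUc j)))
  tube O O' hO hOc hO' h := by
    by_contra hne
    push Not at hne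
    obtain ⟨x, hx⟩ := nonempty_iInter_of_directed (fun j => U j ∩ O ∩ O'ᶜ)
      (fun j => @IsClosed.inter X _ _ (constructibleTopology X) (@IsClosed.inter X _ _
        (constructibleTopology X) (isClosed_C_of_compactOpen (hU j) (hUc j))
          (isClosed_C_of_compactOpen hO hOc)) (isClosed_C_of_isClosed hO'.isClosed_compl))
      (fun a b => (hd a b).imp fun c hc =>
        ⟨Set.inter_subset_inter_left _ (Set.inter_subset_inter_left _ hc.1),
          Set.inter_subset_inter_left _ (Set.inter_subset_inter_left _ hc.2)⟩)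
      (fun j => by
        obtain ⟨x, hx, hx'⟩ := Set.not_subset.1 (hne (U j) (hU j) (hr ▸ Set.iInter_subset U j))
        exact ⟨x, hx, hx'⟩)
    rw [Set.mem_iInter] at hx
    inhabit ι
    exact (hx default).2 (h ⟨hr ▸ Set.mem_iInter.2 fun j => (hx j).1.1, (hx default).1.2⟩)

/-- The neighbourhoods are cofinal. -/
theorem Tame.exists_subset_of_iInter {ι : Type u} [Nonempty ι] (U : ι → Set X)
    (hUo : ∀ j, IsOpen (U j)) (hUc : ∀ j, IsCompact (U j)) (hd : Directed (· ⊇ ·) U)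
    {O' : Set X} (hO' : IsOpen O') (h : ⋂ j, U j ⊆ O') : ∃ j, U j ⊆ O' := by
  by_contra hne
  push Not at hne
  obtain ⟨x, hx⟩ := nonempty_iInter_of_directed (fun j => U j ∩ O'ᶜ)
    (fun j => @IsClosed.inter X _ _ (constructibleTopology X)
      (isClosed_C_of_compactOpen (hUo j) (hUc j)) (isClosed_C_of_isClosed hO'.isClosed_compl))
    (fun a b => (hd a b).imp fun c hc =>
      ⟨Set.inter_subset_inter_left _ hc.1, Set.inter_subset_inter_left _ hc.2⟩)
    (fun j => Set.not_subset.1 (hne j))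
  rw [Set.mem_iInter] at hx
  inhabit ι
  exact (hx default).2 (h (Set.mem_iInter.2 fun j => (hx j).1))

end Spectral

end Groth.Agent.TopDescent
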