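import Groth.Agent.TopDescent.LocalExact
import Mathlib.AlgebraicTopology.AlternatingFaceMapComplex
import Mathlib.Algebra.Homology.Augment

/-!
# The exact complex of a locally finite closed covering
-/

set_option linter.style.haveILetI false
set_option linter.unusedSectionVars false
set_option synthInstance.maxHeartbeats 400000

universe u

open CategoryTheory Limits Opposite TopologicalSpace Simplicial

noncomputable section

namespace Groth.Agent.TopDescent

open CohBase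

variable {X : TopCat.{u}} {I : Type u} {U : I → Set X} (hU : ∀ i, IsClosed (U i)) (F : CohTop.Ab X)

/-- The intersection of the members of a tuple. -/
abbrev meet (U : I → Set X) {n : ℕ} (σ : Fin n → I) : Set X := ⋂ k, U (σ k)

include hU in
theorem isClosed_meet {n : ℕ} (σ : Fin n → I) : IsClosed (meet U σ) :=
  isClosed_iInter fun k => hU (σ k)

theorem meet_subset {n m : ℕ} (σ : Fin n → I) (φ : Fin m → Fin n) :
    meet U σ ⊆ meet U (σ ∘ φ) :=
  fun _ hy => Set.mem_iInter.2 fun k => Set.mem_iInter.1 hy (φ k)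

/-- The term in degree `n`. -/
abbrev term (U : I → Set X) (n : ℕ) : CohTop.Ab X :=
  ∏ᶜ fun σ : Fin (n + 1) → I => P F (meet U σ)

/-- The restrictions along a map of tuples. -/
def termMap {n m : ℕ} (φ : Fin (n + 1) → Fin (m + 1)) : term F U n ⟶ term F U m :=
  Pi.lift fun τ => Pi.π (fun σ : Fin (n + 1) → I => P F (meet U σ)) (τ ∘ φ) ≫
    r F (isClosed_meet hU _) (isClosed_meet hU _) (meet_subset τ φ)

theorem termMap_π {n m : ℕ} (φ : Fin (n + 1) → Fin (m + 1)) (τ : Fin (m + 1) → I) :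
    termMap hU F φ ≫ Pi.π (fun σ : Fin (m + 1) → I => P F (meet U σ)) τ =
      Pi.π (fun σ : Fin (n + 1) → I => P F (meet U σ)) (τ ∘ φ) ≫
        r F (isClosed_meet hU _) (isClosed_meet hU _) (meet_subset τ φ) :=
  Pi.lift_π _ _

theorem termMap_id (n : ℕ) : termMap hU F (id : Fin (n + 1) → Fin (n + 1)) = 𝟙 _ := by
  refine Pi.hom_ext _ _ fun τ => ?_
  rw [termMap_π, Category.id_comp]
  exact (congrArg (_ ≫ ·) (r_self F (isClosed_meet hU τ))).trans (Category.comp_id _)

theorem termMap_comp {n m l : ℕ} (φ : Fin (n + 1) → Fin (m + 1)) (ψ : Fin (m + 1) → Fin (l + 1)) :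
    termMap hU F (ψ ∘ φ) = termMap hU F φ ≫ termMap hU F ψ := by
  refine Pi.hom_ext _ _ fun τ => ?_
  rw [termMap_π, Category.assoc, termMap_π, ← Category.assoc, termMap_π, Category.assoc]
  exact congrArg (Pi.π (fun σ : Fin (n + 1) → I => P F (meet U σ)) (τ ∘ ψ ∘ φ) ≫ ·)
    (r_r F (isClosed_meet hU _) (isClosed_meet hU _) (isClosed_meet hU _)
      (meet_subset (τ ∘ ψ) φ) (meet_subset τ ψ)).symm

/-- The cosimplicial sheaf of the covering. -/
def cosimp : CosimplicialObject (CohTop.Ab X) where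
  obj n := term F U n.len
  map φ := termMap hU F φ.toOrderHom
  map_id n := termMap_id hU F n.len
  map_comp φ ψ := termMap_comp hU F φ.toOrderHom ψ.toOrderHom

/-- Its complex. -/
def cx : CochainComplex (CohTop.Ab X) ℕ :=
  (AlgebraicTopology.alternatingCofaceMapComplex (CohTop.Ab X)).obj (cosimp hU F)

theorem cx_d (n : ℕ) : (cx hU F).d n (n + 1) =
    ∑ k : Fin (n + 2), (-1 : ℤ) ^ (k : ℕ) • termMap hU F k.succAbove := by
  refine (CochainComplex.of_d (fun n => (cosimp hU F).obj ⦋n⦌)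
    (AlgebraicTopology.AlternatingCofaceMapComplex.objD (cosimp hU F)) n).trans ?_
  rfl

/-- The augmentation. -/
def ε : F ⟶ term F U 0 := Pi.lift fun σ => η F (meet U σ)

theorem comp_termMap {n m : ℕ} (φ : Fin (n + 1) → Fin (m + 1)) (W : Opens X)
    (c : Sec (term F U n) W) (τ : Fin (m + 1) → I) :
    comp (fun σ : Fin (m + 1) → I => P F (meet U σ)) W (secHom _ _ W (termMap hU F φ) c) τ =
      secHom _ _ W (r F (isClosed_meet hU _) (isClosed_meet hU _) (meet_subset τ φ))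
        (comp (fun σ : Fin (n + 1) → I => P F (meet U σ)) W c (τ ∘ φ)) := by
  refine (secHom_comp _ _ W c).symm.trans ?_
  rw [termMap_π]
  exact secHom_comp _ _ W c

theorem comp_d (n : ℕ) (W : Opens X) (c : Sec (term F U n) W) (τ : Fin (n + 2) → I) :
    comp (fun σ : Fin (n + 2) → I => P F (meet U σ)) W (secHom _ _ W ((cx hU F).d n (n + 1)) c) τ =
      ∑ k : Fin (n + 2), (-1 : ℤ) ^ (k : ℕ) •
        secHom _ _ W (r F (isClosed_meet hU _) (isClosed_meet hU _) (meet_subset τ k.succAbove))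
          (comp (fun σ : Fin (n + 1) → I => P F (meet U σ)) W c (τ ∘ k.succAbove)) := by
  rw [cx_d]
  show secHom _ _ W (Pi.π (fun σ : Fin (n + 2) → I => P F (meet U σ)) τ)
    (secHom (term F U n) (term F U (n + 1)) W _ c) = _
  rw [map_sum, AddMonoidHom.finset_sum_apply, map_sum]
  refine Finset.sum_congr rfl fun k _ => ?_
  rw [map_zsmul, AddMonoidHom.smul_apply, map_zsmul]
  exact congrArg _ (comp_termMap hU F k.succAbove W c τ)

theorem sec_r_η {Z Z' : Set X} (hZ : IsClosed Z) (hZ' : IsClosed Z') (h : Z' ⊆ Z) (W : Opens X)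
    (a : Sec F W) :
    secHom _ _ W (r F hZ hZ' h) (secHom _ _ W (η F Z) a) = secHom _ _ W (η F Z') a := by
  refine (secHom_comp _ _ W a).symm.trans ?_
  rw [η_r]

theorem ε_d : ε F ≫ (cx hU F).d 0 1 = 0 := by
  refine hom_ext_sec fun W s => sec_ext _ W fun τ => ?_
  refine (congrArg (fun z => comp _ W z τ) (secHom_comp _ _ W s)).trans ?_
  refine (comp_d hU F 0 W _ τ).trans ?_
  have h : ∀ k : Fin 2, secHom _ _ W
      (r F (isClosed_meet hU _) (isClosed_meet hU _) (meet_subset τ k.succAbove))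
        (comp (fun σ : Fin 1 → I => P F (meet U σ)) W (secHom _ _ W (ε F) s) (τ ∘ k.succAbove)) =
      secHom _ _ W (η F (meet U τ)) s := fun k => by
    rw [ε, comp_lift]
    exact sec_r_η F _ _ _ W s
  rw [Finset.sum_congr rfl fun k _ => congrArg _ (h k), ← Finset.sum_smul, Fin.sum_univ_two]
  rw [Fin.val_zero, Fin.val_one, pow_zero, pow_one, add_neg_cancel, zero_smul]
  show (0 : Sec (P F (meet U τ)) W) =
    comp (fun σ : Fin 2 → I => P F (meet U σ)) W (secHom F (term F U 1) W 0 s) τ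
  refine ((congrArg (fun z => comp (fun σ : Fin 2 → I => P F (meet U σ)) W z τ)
    (show secHom F (term F U 1) W 0 s = 0 from by rw [map_zero]; rfl)).trans (map_zero _)).symm

variable (hlf : LocallyFinite U) (hcov : ⋃ i, U i = Set.univ)

include hU hlf in
/-- Near a point only the members through it are met. -/
theorem exists_nhd_meet (x : X) : ∃ W : Opens X, x ∈ W ∧ ∀ y ∈ W, ∀ i, y ∈ U i → x ∈ U i := by
  obtain ⟨V, hV, hVo, hxV⟩ := mem_nhds_iff.1 (hlf.iInter_compl_mem_nhds hU x)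
  refine ⟨⟨V, hVo⟩, hxV, fun y hy i hi => by_contra fun hx => ?_⟩
  exact (Set.mem_iInter₂.1 (hV hy) i hx) hi

include hlf in
theorem finite_tuples (x : X) (n : ℕ) :
    (setOf fun σ : Fin n → I => ∀ k, x ∈ U (σ k)).Finite := by
  haveI : Finite {i | x ∈ U i} := (hlf.point_finite x).to_subtype
  refine Set.Finite.subset (Set.finite_range fun g : Fin n → {i | x ∈ U i} => fun k => (g k).1)
    fun σ hσ => ⟨fun k => ⟨σ k, hσ k⟩, rfl⟩

include hlf in
/-- The intersections of tuples of a given length form a locally finite family. -/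
theorem locallyFinite_meet (n : ℕ) : LocallyFinite fun σ : Fin (n + 1) → I => meet U σ := fun x => by
  obtain ⟨N, hN, hfin⟩ := hlf x
  refine ⟨N, hN, ?_⟩
  haveI : Finite {i | (U i ∩ N).Nonempty} := hfin.to_subtype
  refine Set.Finite.subset (Set.finite_range fun g : Fin (n + 1) → {i | (U i ∩ N).Nonempty} =>
    fun k => (g k).1) fun σ hσ => ?_
  obtain ⟨y, hy, hyN⟩ := hσ
  exact ⟨fun k => ⟨σ k, y, Set.mem_iInter.1 hy k, hyN⟩, rfl⟩

include hU hlf hcov in
/-- The key computation: locally, a cocycle is the image of an explicit cochain. -/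
theorem exists_local_primitive {n : ℕ} {x : X} {W : Opens X} (hx : x ∈ W)
    (c : Sec (term F U n) W) (hc : secHom _ _ W ((cx hU F).d n (n + 1)) c = 0) :
    ∃ (i₀ : I) (V : Opens X) (hVW : V ≤ W) (a : (Fin (n + 1) → I) → Sec F V), x ∈ V ∧ x ∈ U i₀ ∧
      (∀ y ∈ V, ∀ i, y ∈ U i → x ∈ U i) ∧
      ∀ σ : Fin (n + 1) → I, (∀ k, x ∈ U (σ k)) →
        comp (fun σ : Fin (n + 1) → I => P F (meet U σ)) V (res (term F U n).obj hVW c) σ =
          ∑ k : Fin (n + 1), (-1 : ℤ) ^ (k : ℕ) •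
            secHom _ _ V (η F (meet U σ)) (a (Fin.cons i₀ (σ ∘ k.succAbove))) := by
  classical
  obtain ⟨i₀, hi₀⟩ : ∃ i₀, x ∈ U i₀ := Set.mem_iUnion.1 (hcov ▸ Set.mem_univ x)
  obtain ⟨W₀, hxW₀, hW₀⟩ := exists_nhd_meet hU hlf x
  let W₁ : Opens X := W ⊓ W₀
  -- lift every component near the point
  obtain ⟨V₁, hV₁, hxV₁, hlift⟩ := exists_nhd_finite (finite_tuples hlf x (n + 1))
    (W := W₁) ⟨hx, hxW₀⟩
    (fun σ V => ∃ (hV : V ≤ W) (a : Sec F V), secHom _ _ V (η F (meet U σ)) a =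
      res (P F (meet U σ)).obj hV (comp (fun σ : Fin (n + 1) → I => P F (meet U σ)) W c σ))
    (fun σ V V' hV ⟨hVW, a, ha⟩ => ⟨hV.trans hVW, res F.obj hV a,
      (secHom_res _ hV a).trans ((congrArg _ ha).trans (res_res _ _ _ _))⟩)
    (fun σ _ => by
      obtain ⟨V, hVW, hxV, a, ha⟩ := η_surjective F (isClosed_meet hU σ)
        (comp (fun σ : Fin (n + 1) → I => P F (meet U σ)) W c σ) hx
      exact ⟨V, hxV, hVW, a, ha⟩)
  have hV₁W : V₁ ≤ W := hV₁.trans inf_le_left
  let a₁ : (Fin (n + 1) → I) → Sec F V₁ := fun σ =>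
    if h : ∀ k, x ∈ U (σ k) then (hlift σ h).choose_spec.choose else 0
  have ha₁ : ∀ σ : Fin (n + 1) → I, (∀ k, x ∈ U (σ k)) → secHom _ _ V₁ (η F (meet U σ)) (a₁ σ) =
      res (P F (meet U σ)).obj hV₁W (comp (fun σ : Fin (n + 1) → I => P F (meet U σ)) W c σ) :=
    fun σ hσ => by
      simp only [a₁, dif_pos hσ]
      exact (hlift σ hσ).choose_spec.choose_spec
  -- the relations near the point
  let rel : (Fin (n + 1) → I) → Sec F V₁ := fun σ =>
    ∑ k : Fin (n + 2), (-1 : ℤ) ^ (k : ℕ) • a₁ ((Fin.cons i₀ σ : Fin (n + 2) → I) ∘ k.succAbove)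
  have hrel : ∀ σ : Fin (n + 1) → I, (∀ k, x ∈ U (σ k)) →
      ∃ V : Opens X, x ∈ V ∧ ∃ hV : V ≤ V₁, res F.obj hV (rel σ) = 0 := fun σ hσ => by
    have hτ : ∀ k, x ∈ U ((Fin.cons i₀ σ : Fin (n + 2) → I) k) := Fin.cases hi₀ hσ
    have h0 : secHom _ _ V₁ (η F (meet U (Fin.cons i₀ σ : Fin (n + 2) → I))) (rel σ) = 0 := by
      have h := congrArg (fun z => res (P F (meet U (Fin.cons i₀ σ : Fin (n + 2) → I))).obj hV₁W
        (comp (fun σ : Fin (n + 2) → I => P F (meet U σ)) W z (Fin.cons i₀ σ))) hc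
      simp only [comp_d, map_sum, map_zsmul, map_zero] at h
      rw [map_sum]
      refine Eq.trans (Finset.sum_congr rfl fun k _ => ?_) (h.trans ((congrArg _ (map_zero _)).trans (map_zero _)))
      rw [map_zsmul, ← secHom_res, ← ha₁ _ (show ∀ j, x ∈ U (((Fin.cons i₀ σ : Fin (n + 2) → I) ∘ k.succAbove) j) from fun j => hτ _), sec_r_η]
    obtain ⟨V, hV, hxV, hz⟩ := η_eq_zero F (isClosed_meet hU _) _ h0 hxV₁ (Set.mem_iInter.2 hτ)
    exact ⟨V, hxV, hV, hz⟩
  obtain ⟨V, hV, hxV, hV0⟩ := exists_nhd_finite (finite_tuples hlf x (n + 1)) (W := V₁) hxV₁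
    (fun σ V => ∃ hV : V ≤ V₁, res F.obj hV (rel σ) = 0)
    (fun σ V V' hV ⟨hV₁', h⟩ => ⟨hV.trans hV₁', by
      rw [← res_res F.obj hV₁' hV, h, map_zero]⟩)
    hrel
  refine ⟨i₀, V, hV.trans hV₁W, fun σ => res F.obj hV (a₁ σ), hxV, hi₀,
    fun y hy i hi => hW₀ y (hV₁ (hV hy)).2 i hi, fun σ hσ => ?_⟩
  obtain ⟨_, h⟩ := hV0 σ hσ
  simp only [rel, map_sum, map_zsmul] at h
  rw [Fin.sum_univ_succ] at h
  rw [comp_res, ← res_res _ hV₁W hV, ← ha₁ σ hσ]
  have e0 : (Fin.cons i₀ σ : Fin (n + 2) → I) ∘ (0 : Fin (n + 2)).succAbove = σ := by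
    funext j
    simp
  have es : ∀ k : Fin (n + 1), (Fin.cons i₀ σ : Fin (n + 2) → I) ∘ k.succ.succAbove =
      Fin.cons i₀ (σ ∘ k.succAbove) := fun k => by
    funext j
    cases j using Fin.cases with
    | zero => simp
    | succ j => simp
  simp only [e0, es, Fin.val_zero, pow_zero, one_smul, Fin.val_succ, pow_succ, mul_neg_one,
    neg_smul, Finset.sum_neg_distrib] at h
  rw [← secHom_res, add_neg_eq_zero.1 h, map_sum]
  exact Finset.sum_congr rfl fun k _ => map_zsmul _ _ _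

include hU hlf hcov in
theorem exact_cx_succ (n : ℕ) :
    (ShortComplex.mk ((cx hU F).d n (n + 1)) ((cx hU F).d (n + 1) (n + 2))
      ((cx hU F).d_comp_d _ _ _)).Exact := by
  classical
  refine exact_of_local _ fun W c hc x hx => ?_
  obtain ⟨i₀, V, hVW, a, hxV, hi₀, hnear, h⟩ := exists_local_primitive hU F hlf hcov hx c hc
  refine ⟨V, hVW, hxV, mkSec _ V fun σ : Fin (n + 1) → I =>
    if ∀ k, x ∈ U (σ k) then secHom _ _ V (η F (meet U σ)) (a (Fin.cons i₀ σ)) else 0, ?_⟩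
  refine sec_ext _ V fun τ => ?_
  refine (comp_d hU F n V _ τ).trans ?_
  by_cases hτ : ∀ k, x ∈ U (τ k)
  · refine Eq.trans (Finset.sum_congr rfl fun k _ => congrArg _ ?_) (h τ hτ).symm
    rw [comp_mkSec, if_pos (show ∀ j, x ∈ U ((τ ∘ k.succAbove) j) from fun j => hτ _)]
    exact sec_r_η F _ _ _ V _
  · have hd : Disjoint (V : Set X) (meet U τ) := Set.disjoint_left.2 fun y hy hyτ =>
      hτ fun k => hnear y hy (τ k) (Set.mem_iInter.1 hyτ k)
    exact (push_sec_eq_zero _ hd _).trans (push_sec_eq_zero _ hd _).symm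

include hU hlf hcov in
theorem exact_ε :
    (ShortComplex.mk (ε F (U := U)) ((cx hU F).d 0 1) (ε_d hU F)).Exact := by
  refine exact_of_local _ fun W c hc x hx => ?_
  obtain ⟨i₀, V, hVW, a, hxV, hi₀, hnear, h⟩ := exists_local_primitive hU F hlf hcov hx c hc
  refine ⟨V, hVW, hxV, a (fun _ => i₀), ?_⟩
  refine sec_ext _ V fun σ => ?_
  refine (comp_lift _ _ V _ σ).trans ?_
  by_cases hσ : ∀ k, x ∈ U (σ k)
  · refine Eq.trans ?_ (h σ hσ).symm
    rw [Fin.sum_univ_one, Fin.val_zero, pow_zero, one_smul]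
    congr 2
    funext j
    obtain rfl : j = 0 := Fin.ext (by omega)
    rfl
  · have hd : Disjoint (V : Set X) (meet U σ) := Set.disjoint_left.2 fun y hy hyτ =>
      hσ fun k => hnear y hy (σ k) (Set.mem_iInter.1 hyτ k)
    exact (push_sec_eq_zero _ hd _).trans (push_sec_eq_zero _ hd _).symm

include hU hcov in
theorem mono_ε : Mono (ε F (U := U)) := by
  refine Preadditive.mono_of_cancel_zero _ fun {G} g hg => hom_ext_sec fun W s => ?_
  refine (eq_zero_of_locally _ fun x hx => ?_).trans (by rw [map_zero]; rfl)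
  obtain ⟨i₀, hi₀⟩ : ∃ i₀, x ∈ U i₀ := Set.mem_iUnion.1 (hcov ▸ Set.mem_univ x)
  refine η_eq_zero F (isClosed_meet hU fun _ : Fin 1 => i₀) _ ?_ hx
    (Set.mem_iInter.2 fun _ => hi₀)
  refine (comp_lift (fun σ : Fin 1 → I => P F (meet U σ)) (fun σ => η F _) W _ _).symm.trans ?_
  have h : secHom _ _ W (ε F (U := U)) (secHom _ _ W g s) = 0 := by
    refine (secHom_comp _ _ W s).symm.trans ?_
    rw [hg, map_zero]
    rfl
  exact (congrArg (fun z => comp (fun σ : Fin 1 → I => P F (meet U σ)) W z (fun _ => i₀)) h).trans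
    (map_zero _)

/-- The augmented complex of the covering. -/
def acCx : SpSeqE1.AcCx (CohTop.Ab X) where
  cx := CochainComplex.augment (cx hU F) (ε F) (ε_d hU F)
  exact i := by
    match i with
    | 0 =>
      rw [HomologicalComplex.exactAt_iff' _ 0 0 1 (by simp) (by simp),
        ShortComplex.exact_iff_mono _ (((cx hU F).augment (ε F) (ε_d hU F)).shape 0 0 (show ¬(0 + 1 = 0) from Nat.succ_ne_zero 0))]
      exact mono_ε hU F hcov
    | 1 =>
      rw [HomologicalComplex.exactAt_iff' _ 0 1 2 (CochainComplex.prev_nat_succ 0)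
        (CochainComplex.next ℕ 1)]
      exact exact_ε hU F hlf hcov
    | n + 2 =>
      rw [HomologicalComplex.exactAt_iff' _ (n + 1) (n + 2) (n + 3) (CochainComplex.prev_nat_succ _)
        (CochainComplex.next ℕ _)]
      exact exact_cx_succ hU F hlf hcov n

end Groth.Agent.TopDescent
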