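import Groth.Agent.TopDescent.LocalExact
import Groth.Agent.S0904
import Mathlib.CategoryTheory.Abelian.Injective.Resolution

/-!
# Cohomology of a product of sheaves on a locally finite family of closed subspaces
-/

set_option linter.style.haveILetI false
set_option linter.unusedSectionVars false
set_option synthInstance.maxHeartbeats 400000

universe u

open CategoryTheory Limits Opposite TopologicalSpace Abelian

noncomputable section

namespace Groth.Agent.TopDescent

open CohBase

theorem nonempty_homology_iso_pi {ι : Type u} (S : ShortComplex AddCommGrpCat.{u})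
    (T : ι → ShortComplex AddCommGrpCat.{u}) (e₁ : S.X₁ ≃+ ∀ i, (T i).X₁)
    (e₂ : S.X₂ ≃+ ∀ i, (T i).X₂) (e₃ : S.X₃ ≃+ ∀ i, (T i).X₃)
    (hf : ∀ x i, e₂ (S.f x) i = (T i).f (e₁ x i))
    (hg : ∀ x i, e₃ (S.g x) i = (T i).g (e₂ x i)) :
    Nonempty (S.homology ≅ AddCommGrpCat.of (∀ i, (T i).homology)) := by
  have hk : ∀ x, S.g x = 0 → ∀ i, (T i).g (e₂ x i) = 0 := fun x hx i => by
    rw [← hg, hx, map_zero]
    rfl
  let ψ : AddMonoidHom.ker S.g.hom →+
      ∀ i, (AddMonoidHom.ker (T i).g.hom) ⧸ AddMonoidHom.range (T i).abToCycles :=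
    AddMonoidHom.mk' (fun x i => QuotientAddGroup.mk' (AddMonoidHom.range (T i).abToCycles)
        ⟨e₂ x.1 i, hk x.1 x.2 i⟩)
      fun a b => funext fun i => by
        refine Eq.trans ?_ (map_add (QuotientAddGroup.mk' (AddMonoidHom.range (T i).abToCycles)) _ _)
        exact congrArg _ (Subtype.ext (congrFun (map_add e₂ a.1 b.1) i))
  have hsurj : Function.Surjective ψ := fun z => by
    choose y hy using fun i => QuotientAddGroup.mk_surjective (z i)
    refine ⟨⟨e₂.symm fun i => (y i).1, e₃.injective (funext fun i => ?_)⟩, funext fun i => ?_⟩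
    · rw [hg, AddEquiv.apply_symm_apply, map_zero]
      exact (y i).2
    · refine Eq.trans ?_ (hy i)
      exact congrArg _ (Subtype.ext (congrFun (e₂.apply_symm_apply _) i))
  have hker : AddMonoidHom.range S.abToCycles = ψ.ker := by
    ext ⟨x, hx⟩
    constructor
    · rintro ⟨w, hw⟩
      refine funext fun i => (QuotientAddGroup.eq_zero_iff _).2 ⟨e₁ w i, Subtype.ext ?_⟩
      exact (hf w i).symm.trans (congrArg (fun z => e₂ z i) (congrArg Subtype.val hw))
    · intro h
      choose w hw using fun i => (QuotientAddGroup.eq_zero_iff _).1 (congrFun h i)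
      refine ⟨e₁.symm w, Subtype.ext (e₂.injective (funext fun i => ?_))⟩
      refine (hf _ i).trans ?_
      rw [AddEquiv.apply_symm_apply]
      exact congrArg Subtype.val (hw i)
  exact ⟨S.abHomologyIso ≪≫ ((QuotientAddGroup.quotientAddEquivOfEq hker).trans
    ((QuotientAddGroup.quotientKerEquivOfSurjective ψ hsurj).trans
      (AddEquiv.piCongrRight fun i => ((T i).abHomologyIso.addCommGroupIsoToAddEquiv).symm))).toAddCommGrpIso⟩

variable {X : TopCat.{u}} {ι : Type u} {Z : ι → Set X} (hZ : ∀ i, IsClosed (Z i))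
  (hlf : LocallyFinite Z) (G : ∀ i, CohTop.Ab (TopCat.of (Z i)))

instance additive_push_incl (Z : Set X) : (CohTop.push (incl Z)).Additive where

/-- The chosen resolution on each member. -/
abbrev res' (i : ι) : InjectiveResolution (G i) := injectiveResolution (G i)

/-- Its augmentation. -/
abbrev res'ι (i : ι) : G i ⟶ (res' G i).cocomplex.X 0 := (res' G i).ι.f 0

theorem res'ι_d (i : ι) : res'ι G i ≫ (res' G i).cocomplex.d 0 1 = 0 :=
  (res' G i).ι_f_zero_comp_complex_d

theorem mono_res'ι (i : ι) : Mono (res'ι G i) :=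
  (inferInstance : Mono ((res' G i).ι.f 0))

/-- The term of the product resolution. -/
abbrev prodTerm (q : ℕ) : CohTop.Ab X :=
  ∏ᶜ fun i => (CohTop.push (incl (Z i))).obj ((res' G i).cocomplex.X q)

theorem pi_map_comp_zero {A B C : ι → CohTop.Ab X} (f : ∀ i, A i ⟶ B i) (g : ∀ i, B i ⟶ C i)
    (w : ∀ i, f i ≫ g i = 0) : Limits.Pi.map f ≫ Limits.Pi.map g = 0 :=
  Pi.hom_ext _ _ fun i => by
    rw [Category.assoc, Limits.Pi.map_π, Limits.Pi.map_π_assoc, w, comp_zero, zero_comp]

theorem exact_congr {A B C : CohTop.Ab X} {f f' : A ⟶ B} {g g' : B ⟶ C} (hf : f = f') (hg : g = g')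
    (w : f ≫ g = 0) (w' : f' ≫ g' = 0) (h : (ShortComplex.mk f' g' w').Exact) :
    (ShortComplex.mk f g w).Exact := by
  subst hf hg
  exact h

/-- The product resolution. -/
def prodCx : CochainComplex (CohTop.Ab X) ℕ :=
  CochainComplex.of (prodTerm G)
    (fun q => Limits.Pi.map fun i => (CohTop.push (incl (Z i))).map ((res' G i).cocomplex.d q (q + 1)))
    fun q => pi_map_comp_zero _ _ fun i => by
      rw [← Functor.map_comp, HomologicalComplex.d_comp_d, Functor.map_zero]

theorem prodCx_d (q : ℕ) : (prodCx G).d q (q + 1) =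
    Limits.Pi.map fun i => (CohTop.push (incl (Z i))).map ((res' G i).cocomplex.d q (q + 1)) :=
  CochainComplex.of_d (prodTerm G)
    (fun q => Limits.Pi.map fun i => (CohTop.push (incl (Z i))).map ((res' G i).cocomplex.d q (q + 1))) q

/-- The augmentation of the product resolution. -/
def prodAug : (∏ᶜ fun i => (CohTop.push (incl (Z i))).obj (G i)) ⟶ prodTerm G 0 :=
  Limits.Pi.map fun i => (CohTop.push (incl (Z i))).map (res'ι G i)

theorem prodAug_d : prodAug G ≫ (prodCx G).d 0 1 = 0 :=
  (congrArg (fun z => prodAug G ≫ z) (prodCx_d G 0)).trans (pi_map_comp_zero _ _ fun i => by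
    rw [← Functor.map_comp, res'ι_d, Functor.map_zero])

include hZ hlf in
/-- Products of exact sequences of pushforwards are exact. -/
theorem exact_pi_map {A B C : ∀ i, CohTop.Ab (TopCat.of (Z i))} (f : ∀ i, A i ⟶ B i)
    (g : ∀ i, B i ⟶ C i) (w : ∀ i, f i ≫ g i = 0)
    (h : ∀ i, (ShortComplex.mk (f i) (g i) (w i)).Exact)
    (w' : (Limits.Pi.map fun i => (CohTop.push (incl (Z i))).map (f i)) ≫
      (Limits.Pi.map fun i => (CohTop.push (incl (Z i))).map (g i)) = 0) :
    (ShortComplex.mk _ _ w').Exact := by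
  classical
  refine exact_of_local _ fun W c hc x hx => ?_
  have hexact : ∀ i, ((ShortComplex.mk (f i) (g i) (w i)).map (CohTop.push (incl (Z i)))).Exact :=
    fun i => by
      haveI := ClosedEmb.preservesFiniteColimits_pushAb (incl_closedEmbedding (hZ i))
      haveI : PreservesFiniteLimits (CohTop.push (incl (Z i))) :=
        haveI : PreservesLimitsOfSize.{0, 0} (CohTop.push (incl (Z i))) :=
          (TopCat.Sheaf.pullbackPushforwardAdjunction AddCommGrpCat.{u} (incl (Z i))).rightAdjoint_preservesLimits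
        inferInstance
      exact (h i).map _
  obtain ⟨V₀, hV₀, hV₀o, hxV₀⟩ := mem_nhds_iff.1 (hlf.iInter_compl_mem_nhds hZ x)
  let W₁ : Opens X := W ⊓ ⟨V₀, hV₀o⟩
  let PA : ι → CohTop.Ab X := fun i => (CohTop.push (incl (Z i))).obj (A i)
  let PB : ι → CohTop.Ab X := fun i => (CohTop.push (incl (Z i))).obj (B i)
  have hlift : ∀ i ∈ {i | x ∈ Z i}, ∃ V : Opens X, x ∈ V ∧ ∃ (hV : V ≤ W) (a : Sec (PA i) V),
      secHom _ _ V ((CohTop.push (incl (Z i))).map (f i)) a =
        res (PB i).obj hV (comp PB W c i) := fun i _ => by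
    have hi : secHom _ _ W ((CohTop.push (incl (Z i))).map (g i)) (comp PB W c i) = 0 :=
      (comp_map PB (fun i => (CohTop.push (incl (Z i))).map (g i)) W c i).symm.trans
        ((congrArg (fun z => comp (fun i => (CohTop.push (incl (Z i))).obj (C i)) W z i) hc).trans
          (map_zero _))
    obtain ⟨V, hVW, hxV, a, ha⟩ := exists_local_of_exact (hexact i) _ hi hx
    exact ⟨V, hxV, hVW, a, ha⟩
  obtain ⟨V, hV, hxV, hVall⟩ := exists_nhd_finite (hlf.point_finite x) (W := W₁) ⟨hx, hxV₀⟩
    (fun i V => ∃ (hV : V ≤ W) (a : Sec (PA i) V),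
      secHom _ _ V ((CohTop.push (incl (Z i))).map (f i)) a = res (PB i).obj hV (comp PB W c i))
    (fun i V V' hV ⟨hVW, a, ha⟩ => ⟨hV.trans hVW, res (PA i).obj hV a,
      (secHom_res _ hV a).trans ((congrArg _ ha).trans (res_res _ _ _ _))⟩)
    hlift
  have hVW : V ≤ W := hV.trans inf_le_left
  refine ⟨V, hVW, hxV, mkSec PA V fun i =>
    if h : x ∈ Z i then (hVall i h).choose_spec.choose else 0, sec_ext PB V fun i => ?_⟩
  refine (comp_map PA (fun i => (CohTop.push (incl (Z i))).map (f i)) V _ i).trans ?_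
  rw [comp_mkSec]
  refine Eq.trans ?_ (comp_res PB hVW c i).symm
  by_cases hi : x ∈ Z i
  · rw [dif_pos hi]
    exact (hVall i hi).choose_spec.choose_spec
  · have hd : Disjoint (V : Set X) (Z i) := Set.disjoint_left.2 fun y hy hyi =>
      Set.mem_iInter₂.1 (hV₀ (hV hy).2) i hi hyi
    exact (push_sec_eq_zero _ hd _).trans (push_sec_eq_zero _ hd _).symm

include hZ hlf in
theorem exact_prodCx (q : ℕ) : (prodCx G).ExactAt (q + 1) := by
  rw [(prodCx G).exactAt_iff' q (q + 1) (q + 1 + 1) (CochainComplex.prev_nat_succ _) (CochainComplex.next ℕ _)]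
  have h := fun i => ((res' G i).cocomplex.exactAt_iff' q (q + 1) (q + 1 + 1)
    (CochainComplex.prev_nat_succ _) (CochainComplex.next ℕ _)).1 ((res' G i).cocomplex_exactAt_succ q)
  exact exact_congr (prodCx_d G q) (prodCx_d G (q + 1)) _ _
    (exact_pi_map hZ hlf (fun i => (res' G i).cocomplex.d q (q + 1))
      (fun i => (res' G i).cocomplex.d (q + 1) (q + 1 + 1)) (fun i => (res' G i).cocomplex.d_comp_d _ _ _)
      h (pi_map_comp_zero _ _ fun i => by
        rw [← Functor.map_comp, HomologicalComplex.d_comp_d, Functor.map_zero]))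

include hZ hlf in
theorem exact_prodAug : (ShortComplex.mk _ _ (prodAug_d G)).Exact :=
  exact_congr rfl (prodCx_d G 0) _ _
    (exact_pi_map hZ hlf (res'ι G) (fun i => (res' G i).cocomplex.d 0 1)
      (res'ι_d G) (fun i => (res' G i).exact₀)
      (pi_map_comp_zero _ _ fun i => by rw [← Functor.map_comp, res'ι_d, Functor.map_zero]))

theorem mono_prodAug : Mono (prodAug G) := by
  haveI : ∀ i, Mono ((CohTop.push (incl (Z i))).map (res'ι G i)) := fun i => by
    haveI := mono_res'ι G i
    haveI : (CohTop.push (incl (Z i))).PreservesMonomorphisms :=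
      Functor.preservesMonomorphisms_of_adjunction
        (TopCat.Sheaf.pullbackPushforwardAdjunction AddCommGrpCat.{u} (incl (Z i)))
    infer_instance
  exact Limits.Pi.map_mono _

include hZ hlf in
/-- The product resolution as an injective resolution. -/
def prodResolution : InjectiveResolution (∏ᶜ fun i => (CohTop.push (incl (Z i))).obj (G i)) where
  cocomplex := prodCx G
  injective q := by
    haveI : ∀ i, Injective ((CohTop.push (incl (Z i))).obj ((res' G i).cocomplex.X q)) :=
      fun i => S0904.result _ _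
    exact (inferInstance : Injective (prodTerm G q))
  ι := (CochainComplex.fromSingle₀Equiv _ _).symm ⟨prodAug G, prodAug_d G⟩
  quasiIso := ⟨fun n => by
    cases n
    · rw [CochainComplex.quasiIsoAt₀_iff, ShortComplex.quasiIso_iff_of_zeros]
      · refine (ShortComplex.exact_and_mono_f_iff_of_iso ?_).2
          ⟨exact_prodAug hZ hlf G, mono_prodAug G⟩
        exact ShortComplex.isoMk (Iso.refl _) (Iso.refl _) (Iso.refl _)
          (by
            refine (Category.id_comp _).trans (Eq.trans ?_ (Category.comp_id _).symm)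
            exact (CochainComplex.fromSingle₀Equiv_symm_apply_f_zero (V := CohTop.Ab X)
              (C := prodCx G) (prodAug G) (prodAug_d G)).symm)
          ((Category.id_comp _).trans (Category.comp_id _).symm)
      all_goals rfl
    · rw [quasiIsoAt_iff_exactAt]
      · apply exact_prodCx hZ hlf
      · apply CochainComplex.exactAt_succ_single_obj⟩

/-- Global morphisms into a product of pushforwards. -/
def homEquiv (q : ℕ) : (freeAb (⊤ : Opens X) ⟶ prodTerm G q) ≃+
    ∀ i, (freeAb (⊤ : Opens (TopCat.of (Z i))) ⟶ (res' G i).cocomplex.X q) :=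
  let P : ι → CohTop.Ab X := fun i => (CohTop.push (incl (Z i))).obj ((res' G i).cocomplex.X q)
  ((secEquiv (⊤ : Opens X) (prodTerm G q)).trans
    { toFun := fun c i => comp P ⊤ c i
      invFun := fun s => mkSec P ⊤ s
      left_inv := fun c => sec_ext P ⊤ fun i => comp_mkSec P ⊤ _ i
      right_inv := fun s => funext fun i => comp_mkSec P ⊤ s i
      map_add' := fun a b => funext fun i => map_add _ a b }).trans
    (AddEquiv.piCongrRight fun i =>
      (psec (incl (Z i)) ((res' G i).cocomplex.X q) ⊤).trans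
        (secEquiv (⊤ : Opens (TopCat.of (Z i))) _).symm)

theorem homEquiv_d (q : ℕ) (φ : freeAb (⊤ : Opens X) ⟶ prodTerm G q) (i : ι) :
    homEquiv G (q + 1) (φ ≫ (prodCx G).d q (q + 1)) i =
      homEquiv G q φ i ≫ (res' G i).cocomplex.d q (q + 1) := by
  let P : ℕ → ι → CohTop.Ab X := fun q i => (CohTop.push (incl (Z i))).obj ((res' G i).cocomplex.X q)
  show (secEquiv (⊤ : Opens (TopCat.of (Z i))) _).symm (psec (incl (Z i)) _ ⊤
    (comp (P (q + 1)) ⊤ (secEquiv (⊤ : Opens X) _ (φ ≫ (prodCx G).d q (q + 1))) i)) = _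
  rw [prodCx_d]
  refine Eq.trans ?_ (secEquiv_symm_comp _ _ _).symm
  congr 1
  refine (congrArg (fun z => psec (incl (Z i)) _ ⊤ (comp (P (q + 1)) ⊤ z i))
    (secEquiv_comp (⊤ : Opens X) φ _)).trans ?_
  exact congrArg (psec (incl (Z i)) _ ⊤) (comp_map (P q) _ ⊤ _ i)

include hZ hlf in
/-- The cohomology of such a product is the product of the cohomologies. -/
theorem nonempty_ext_pi_iso (q : ℕ) :
    Nonempty (AddCommGrpCat.of (Ext.{u} (freeAb (⊤ : Opens X))
        (∏ᶜ fun i => (CohTop.push (incl (Z i))).obj (G i)) q) ≅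
      AddCommGrpCat.of (∀ i, Ext.{u} (freeAb (⊤ : Opens (TopCat.of (Z i)))) (G i) q)) := by
  obtain ⟨a⟩ := SpSeqLib.nonempty_homology_homCx_iso (freeAb (⊤ : Opens X)) (prodResolution hZ hlf G) q
  have hb := fun i => SpSeqLib.nonempty_homology_homCx_iso (freeAb (⊤ : Opens (TopCat.of (Z i)))) (res' G i) q
  obtain ⟨c⟩ := nonempty_homology_iso_pi
    ((SpSeqLib.homCx (freeAb (⊤ : Opens X)) (prodResolution hZ hlf G)).sc q)
    (fun i => (SpSeqLib.homCx (freeAb (⊤ : Opens (TopCat.of (Z i)))) (res' G i)).sc q)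
    (homEquiv G _) (homEquiv G q) (homEquiv G _)
    (fun φ i => by
      cases q with
      | zero =>
        have h : ¬(ComplexShape.up ℕ).Rel ((ComplexShape.up ℕ).prev 0) 0 := by simp
        refine Eq.trans ?_ (ConcreteCategory.congr_hom
          ((SpSeqLib.homCx _ (res' G i)).shape _ _ h).symm _)
        refine (congrArg (fun z => homEquiv G 0 z i) (ConcreteCategory.congr_hom
          ((SpSeqLib.homCx _ (prodResolution hZ hlf G)).shape _ _ h) φ)).trans ?_
        exact congrFun (map_zero (homEquiv G 0)) i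
      | succ k =>
        revert φ
        show ∀ φ : freeAb (⊤ : Opens X) ⟶ prodTerm G ((ComplexShape.up ℕ).prev (k + 1)),
          homEquiv G (k + 1) (φ ≫ (prodCx G).d ((ComplexShape.up ℕ).prev (k + 1)) (k + 1)) i =
            homEquiv G ((ComplexShape.up ℕ).prev (k + 1)) φ i ≫
              (res' G i).cocomplex.d ((ComplexShape.up ℕ).prev (k + 1)) (k + 1)
        rw [CochainComplex.prev_nat_succ]
        exact fun φ => homEquiv_d G k φ i)
    (fun φ i => by
      show homEquiv G ((ComplexShape.up ℕ).next q) (φ ≫ (prodCx G).d q ((ComplexShape.up ℕ).next q)) i =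
        homEquiv G q φ i ≫ (res' G i).cocomplex.d q ((ComplexShape.up ℕ).next q)
      rw [CochainComplex.next]
      exact homEquiv_d G q φ i)
  exact ⟨a.symm ≪≫ c ≪≫ (AddEquiv.piCongrRight fun i =>
    (hb i).some.addCommGroupIsoToAddEquiv).toAddCommGrpIso⟩

end Groth.Agent.TopDescent
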