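import Groth.Agent.TopDescent.LvlSheaf

/-!
# Maps of etale spaces over a fixed space, quotient etale spaces, and exactness of global sections
-/

set_option linter.style.haveILetI false
set_option linter.unusedSectionVars false
set_option synthInstance.maxHeartbeats 400000

universe u

open CategoryTheory Limits Opposite TopologicalSpace Topology Filter Abelian

noncomputable section

namespace Groth.Agent.TopDescent

namespace Lvl

section Pointwise

variable {Y : Type u} [TopologicalSpace Y]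

/-- A map of etale spaces over the identity. -/
structure Map (L M : Lvl Y) where
  /-- The maps of stalks. -/
  σ : ∀ z, L.A z →+ M.A z
  nat : ∀ z, ∀ s : L.Fam, s ∈ L.N z → (fun w => σ w (s w)) ∈ M.N z

variable {L M P : Lvl Y}

/-- The image of families. -/
def Map.pull (φ : Map L M) : L.Fam →+ M.Fam :=
  AddMonoidHom.mk' (fun s w => φ.σ w (s w)) fun s t => funext fun w => map_add (φ.σ w) _ _

theorem Map.pull_apply (φ : Map L M) (s : L.Fam) (w : Y) : φ.pull s w = φ.σ w (s w) := rfl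

/-- The induced map on the next levels. -/
def Map.next (φ : Map L M) : Map L.next M.next where
  σ z := QuotientAddGroup.map (L.N z) (M.N z) φ.pull fun s hs => φ.nat z s hs
  nat z t := fun ⟨r, hr⟩ => ⟨φ.pull r, hr.mono fun w hw => by
    show QuotientAddGroup.map (L.N w) (M.N w) φ.pull _ (t w) = _
    rw [hw]
    rfl⟩

theorem Map.next_cls (φ : Map L M) (z : Y) (r : L.Fam) :
    φ.next.σ z (L.cls z r) = M.cls z (φ.pull r) := rfl

theorem Map.next_pull_d (φ : Map L M) (s : L.Fam) : φ.next.pull (L.d s) = M.d (φ.pull s) := rfl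

theorem Map.next_eventually_zero (φ : Map L M) {z : Y} (h : ∀ᶠ w in 𝓝 z, φ.σ w = 0) :
    φ.next.σ z = 0 := by
  refine AddMonoidHom.ext fun a => ?_
  obtain ⟨r, rfl⟩ := QuotientAddGroup.mk_surjective a
  refine (φ.next_cls z r).trans (M.cls_eq_zero.2 (M.congr z 0 _ ?_ (M.N z).zero_mem))
  exact h.mono fun w hw => (DFunLike.congr_fun hw (r w)).symm

theorem Map.next_eventually_id (φ : Map L L) {z : Y}
    (h : ∀ᶠ w in 𝓝 z, ∀ a, φ.σ w a = a) (a : L.next.A z) : φ.next.σ z a = a := by
  obtain ⟨r, rfl⟩ := QuotientAddGroup.mk_surjective a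
  exact (φ.next_cls z r).trans (L.cls_congr (h.mono fun w hw => hw (r w)))

theorem Map.next_comp (φ : Map L M) (ψ : Map M P) (χ : Map L P)
    (h : ∀ w a, χ.σ w a = ψ.σ w (φ.σ w a)) (w : Y) (a : L.next.A w) :
    χ.next.σ w a = ψ.next.σ w (φ.next.σ w a) := by
  obtain ⟨r, rfl⟩ := QuotientAddGroup.mk_surjective a
  exact (χ.next_cls w r).trans
    (congrArg (P.cls w) (funext fun v => h v (r v)))

theorem Map.next_add (φ ψ χ : Map L M) (h : ∀ w a, χ.σ w a = φ.σ w a + ψ.σ w a) (w : Y)
    (a : L.next.A w) : χ.next.σ w a = φ.next.σ w a + ψ.next.σ w a := by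
  obtain ⟨r, rfl⟩ := QuotientAddGroup.mk_surjective a
  exact (χ.next_cls w r).trans (congrArg (M.cls w) (funext fun v => h v (r v)))

/-- The induced map on all levels. -/
def Map.iter (φ : Map L M) : ∀ q, Map (L.iter q) (M.iter q)
  | 0 => φ
  | q + 1 => (Map.iter φ q).next

/-- The etale space of the kernel, when its stalks lift to kernel sections. -/
def ker (φ : Map L M) (h : ∀ z a, φ.σ z a = 0 → ∃ s ∈ L.N z, s z = a ∧ ∀ w, φ.σ w (s w) = 0) :
    Lvl Y where
  A z := AddCommGrpCat.of (φ.σ z).ker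
  N z :=
    { carrier := {t | (fun w => (t w).1) ∈ L.N z}
      zero_mem' := (L.N z).zero_mem
      add_mem' := fun {a b} ha hb => (L.N z).add_mem ha hb
      neg_mem' := fun {a} ha => (L.N z).neg_mem ha }
  congr z s t e hs := L.congr z _ _ (e.mono fun w hw => congrArg Subtype.val hw) hs
  loc z s hs := L.loc z _ hs
  eventually_zero z s hs h0 :=
    (L.eventually_zero z _ hs (congrArg Subtype.val h0)).mono fun w hw => Subtype.ext hw
  surj z a := by
    obtain ⟨s, hs, hsz, hsk⟩ := h z a.1 a.2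
    exact ⟨fun w => ⟨s w, hsk w⟩, hs, Subtype.ext hsz⟩

/-- The inclusion of the kernel. -/
def kerι (φ : Map L M) (h) : Map (ker φ h) L where
  σ z := (φ.σ z).ker.subtype
  nat _ _ hs := hs

end Pointwise

section Sheaf

variable {Y : TopCat.{u}} {L M P : Lvl (Y : Type u)}

theorem Map.cut_pull (φ : Map L M) (W : Opens Y) (s : L.Fam) :
    φ.pull (L.cut W s) = M.cut W (φ.pull s) :=
  funext fun z => by
    rw [φ.pull_apply]
    by_cases hz : z ∈ W
    · rw [L.cut_of_mem hz, M.cut_of_mem hz]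
      rfl
    · rw [L.cut_of_notMem hz, M.cut_of_notMem hz, map_zero]

theorem Map.pull_mem_secSub (φ : Map L M) {W : Opens Y} {s : L.Fam} (hs : s ∈ L.secSub W) :
    φ.pull s ∈ M.secSub W :=
  ⟨fun z hz => (congrArg (φ.σ z) (hs.1 z hz)).trans (map_zero _),
    fun z hz => φ.nat z s (hs.2 z hz)⟩

/-- The map of sheaves. -/
def Map.shf (φ : Map L M) : L.shf ⟶ M.shf :=
  ⟨{ app := fun W => AddCommGrpCat.ofHom ((φ.pull.comp (L.secSub W.unop).subtype).codRestrict _
        fun s => φ.pull_mem_secSub s.2)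
     naturality := fun _ W _ => AddCommGrpCat.hom_ext (AddMonoidHom.ext fun s =>
       Subtype.ext (φ.cut_pull W.unop _)) }⟩

theorem Map.shf_apply (φ : Map L M) (W : Opens Y) (s : L.secSub W) :
    (φ.shf.hom.app (op W) s : M.secSub W).1 = φ.pull s.1 := rfl

theorem exists_lift_section (α : Map L M) (hinj : ∀ z, Function.Injective (α.σ z)) {W : Opens Y}
    (s : M.secSub W) (h : ∀ z ∈ W, ∃ a, α.σ z a = s.1 z) :
    ∃ t : L.secSub W, α.pull t.1 = s.1 := by
  classical
  let t : L.Fam := fun z => if hz : z ∈ W then (h z hz).choose else 0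
  have ht : ∀ z ∈ W, α.σ z (t z) = s.1 z := fun z hz => by
    simp only [t, dif_pos hz]
    exact (h z hz).choose_spec
  have ht0 : ∀ z ∉ W, t z = 0 := fun z hz => dif_neg hz
  refine ⟨⟨t, ht0, fun z hz => ?_⟩, funext fun z => ?_⟩
  · obtain ⟨r, hr, hrz⟩ := L.surj z (t z)
    refine L.congr z r t ?_ hr
    have h0 : ∀ᶠ w in 𝓝 z, (α.pull r - s.1) w = 0 := M.eventually_zero z _
      (sub_mem (α.nat z r hr) (s.2.2 z hz)) (by
        show α.σ z (r z) - s.1 z = 0
        rw [hrz, ht z hz, sub_self])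
    filter_upwards [h0, W.2.mem_nhds hz] with w hw hwW
    refine hinj w ?_
    rw [ht w hwW]
    exact sub_eq_zero.1 hw
  · by_cases hz : z ∈ W
    · exact ht z hz
    · exact ((congrArg (α.σ z) (ht0 z hz)).trans (map_zero _)).trans (s.2.1 z hz).symm

theorem Map.shf_comp_eq_zero (α : Map L M) (β : Map M P) (h : ∀ z a, β.σ z (α.σ z a) = 0) :
    α.shf ≫ β.shf = 0 := by
  ext W s
  exact Subtype.ext (funext fun z => h z _)

/-- Exactness on stalks gives exactness of the sheaves. -/
theorem shortExact_of_stalk (α : Map L M) (β : Map M P) (hinj : ∀ z, Function.Injective (α.σ z))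
    (h : ∀ z a, β.σ z (α.σ z a) = 0) (hex : ∀ z b, β.σ z b = 0 → ∃ a, α.σ z a = b)
    (hsurj : ∀ z, Function.Surjective (β.σ z)) :
    (ShortComplex.mk α.shf β.shf (α.shf_comp_eq_zero β h)).ShortExact := by
  haveI : Mono α.shf := by
    refine ⟨fun {F} g g' e => ?_⟩
    ext W s
    have e' := congrArg (fun φ : F ⟶ M.shf => φ.hom.app W s) e
    exact Subtype.ext (funext fun z =>
      hinj z (congrFun (congrArg (fun v : M.secSub W.unop => v.1) e') z))
  haveI : Epi β.shf := CohBase.epi_of_local _ fun W t y hy => by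
    obtain ⟨b, hb⟩ := hsurj y ((t : P.secSub W).1 y)
    obtain ⟨r, hr, hry⟩ := M.surj y b
    have h0 : ∀ᶠ w in 𝓝 y, (β.pull r - (t : P.secSub W).1) w = 0 := P.eventually_zero y _
      (sub_mem (β.nat y r hr) ((t : P.secSub W).2.2 y hy)) (by
        show β.σ y (r y) - (t : P.secSub W).1 y = 0
        rw [hry, hb, sub_self])
    obtain ⟨U, hU, hUo, hyU⟩ := mem_nhds_iff.1 ((M.loc y r hr).and h0)
    let V : Opens Y := W ⊓ ⟨U, hUo⟩
    refine ⟨V, inf_le_left, ⟨hy, hyU⟩, (⟨M.cut V r, M.cut_mem_godSub V r, fun z hz =>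
      M.congr z r _ ((M.cut_eventually hz r).mono fun _ hw => hw.symm) (hU hz.2).1⟩ : M.secSub V),
      Subtype.ext (funext fun z => ?_)⟩
    show β.pull (M.cut V r) z = P.cut V (t : P.secSub W).1 z
    rw [β.cut_pull]
    by_cases hz : z ∈ V
    · rw [P.cut_of_mem hz, P.cut_of_mem hz]
      exact sub_eq_zero.1 (hU hz.2).2
    · rw [P.cut_of_notMem hz, P.cut_of_notMem hz]
  refine { exact := CohBase.exact_of_local _ fun W s hs x hx => ⟨W, le_rfl, hx, ?_⟩ }
  obtain ⟨t, ht⟩ := exists_lift_section α hinj (s : M.secSub W) fun z _ => hex z _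
    (congrFun (congrArg (fun v : P.secSub W => v.1) hs) z)
  exact ⟨t, Subtype.ext (ht.trans (M.cut_self (s : M.secSub W).2.1).symm)⟩

theorem Map.isIso_shf (α : Map L M) (h : ∀ z, Function.Bijective (α.σ z)) : IsIso α.shf := by
  haveI : Mono α.shf := by
    refine ⟨fun {F} g g' e => ?_⟩
    ext W s
    have e' := congrArg (fun φ : F ⟶ M.shf => φ.hom.app W s) e
    exact Subtype.ext (funext fun z =>
      (h z).1 (congrFun (congrArg (fun v : M.secSub W.unop => v.1) e') z))
  haveI : Epi α.shf := CohBase.epi_of_local _ fun W s y hy => ⟨W, le_rfl, hy, by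
    obtain ⟨t, ht⟩ := exists_lift_section α (fun z => (h z).1) (s : M.secSub W)
      fun z _ => (h z).2 _
    exact ⟨t, Subtype.ext (ht.trans (M.cut_self (s : M.secSub W).2.1).symm)⟩⟩
  exact isIso_of_mono_of_epi _

/-- Global sections of the next kernel lift when the first higher cohomology vanishes. -/
theorem exists_preimage {α : Map L M} {β : Map M P}
    {w : α.shf ≫ β.shf = 0} (hS : (ShortComplex.mk α.shf β.shf w).ShortExact)
    [Subsingleton (CohBase.HU (⊤ : Opens Y) L.shf 1)] (t : P.secSub ⊤) :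
    ∃ s : M.secSub ⊤, β.pull s.1 = t.1 := by
  haveI : Subsingleton (CohBase.HU (⊤ : Opens Y) (ShortComplex.mk α.shf β.shf w).X₁ 1) :=
    inferInstanceAs (Subsingleton (CohBase.HU (⊤ : Opens Y) L.shf 1))
  obtain ⟨s, hs⟩ := CohBase.sections_surjective hS ⊤ t
  exact ⟨s, congrArg (fun v : P.secSub ⊤ => v.1) hs⟩

/-- An etale space without higher cohomology. -/
def Acyclic (L : Lvl (Y : Type u)) : Prop :=
  ∀ n, Subsingleton (CohBase.HU (⊤ : Opens Y) L.shf (n + 1))

/-- In an exact complex of acyclic etale spaces, global cycles are global boundaries. -/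
theorem exact_sections (K : ℕ → Lvl (Y : Type u)) (d : ∀ n, Map (K n) (K (n + 1)))
    (hac : ∀ n, Acyclic (K n)) (dd : ∀ n z a, (d (n + 1)).σ z ((d n).σ z a) = 0)
    (h₀ : ∀ z, Function.Injective ((d 0).σ z))
    (hex : ∀ n z b, (d (n + 1)).σ z b = 0 → ∃ a, (d n).σ z a = b) :
    ∀ n, ∀ s ∈ (K (n + 1)).secSub ⊤, (d (n + 1)).pull s = 0 →
      ∃ t ∈ (K n).secSub ⊤, (d n).pull t = s := by
  have hk : ∀ n z a, (d n).σ z a = 0 → ∃ s ∈ (K n).N z, s z = a ∧ ∀ w, (d n).σ w (s w) = 0 := by
    intro n z a ha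
    cases n with
    | zero =>
      obtain rfl : a = 0 := h₀ z (ha.trans (map_zero _).symm)
      exact ⟨0, zero_mem _, rfl, fun w => map_zero _⟩
    | succ n =>
      obtain ⟨b, rfl⟩ := hex n z a ha
      obtain ⟨r, hr, rfl⟩ := (K n).surj z b
      exact ⟨(d n).pull r, (d n).nat z r hr, rfl, fun w => dd n w (r w)⟩
  let Z : ℕ → Lvl (Y : Type u) := fun n => ker (d n) (hk n)
  let β : ∀ n, Map (K n) (Z (n + 1)) := fun n =>
    { σ := fun z => ((d n).σ z).codRestrict _ fun a => dd n z a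
      nat := fun z s hs => (d n).nat z s hs }
  have hse : ∀ n, (ShortComplex.mk (kerι (d n) (hk n)).shf (β n).shf
      ((kerι (d n) (hk n)).shf_comp_eq_zero (β n) fun z (a : ((d n).σ z).ker) => by exact Subtype.ext a.2)).ShortExact := fun n =>
    shortExact_of_stalk _ _ (fun z => Subtype.val_injective) (fun z (a : ((d n).σ z).ker) => by exact Subtype.ext a.2)
      (fun z b hb => ⟨⟨b, congrArg Subtype.val hb⟩, rfl⟩)
      fun z c => (hex n z c.1 c.2).imp fun a ha => Subtype.ext ha
  have hZ : ∀ n, Acyclic (Z n) := by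
    intro n
    induction n with
    | zero =>
      have hz : IsZero (Z 0).shf := by
        refine (IsZero.iff_id_eq_zero _).2 ?_
        ext W s
        exact Subtype.ext (funext fun z => Subtype.ext
          (h₀ z (((s : (Z 0).secSub W.unop).1 z).2.trans (map_zero _).symm)))
      exact fun m => subsingleton_of_forall_eq 0 fun x => by
        rw [← Ext.comp_mk₀_id x, hz.eq_of_src (𝟙 _) 0, Ext.mk₀_zero, Ext.comp_zero]
    | succ n ih =>
      intro m
      haveI := hac n m
      haveI := ih (m + 1)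
      exact CohBase.subsingleton_quot (hse n) ⊤ (m + 1)
  intro n s hs hd
  haveI := hZ n 0
  obtain ⟨t, ht⟩ := exists_preimage (hse n)
    (⟨fun z => ⟨s z, congrFun hd z⟩, fun z hz => absurd trivial hz, fun z _ => hs.2 z trivial⟩ :
      (Z (n + 1)).secSub ⊤)
  exact ⟨t.1, t.2, funext fun z => congrArg Subtype.val (congrFun ht z)⟩

end Sheaf

end Lvl

section Quot

variable {Y : Type u} [TopologicalSpace Y] {M : Type u} [AddCommGroup M] (K : Y → AddSubgroup M)
  (hK : ∀ z, ∀ x ∈ K z, ∀ᶠ w in 𝓝 z, x ∈ K w)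

/-- The quotient etale space of a constant group by an open family of subgroups. -/
def quotLvl : Lvl Y where
  A z := AddCommGrpCat.of (M ⧸ K z)
  N y :=
    { carrier := {t | ∃ x : M, ∀ᶠ z in 𝓝 y, t z = QuotientAddGroup.mk x}
      zero_mem' := ⟨0, Eventually.of_forall fun _ => rfl⟩
      add_mem' := fun {a b} ⟨x, hx⟩ ⟨x', hx'⟩ => ⟨x + x', (hx.and hx').mono fun z hz => by
        show a z + b z = _
        rw [hz.1, hz.2]
        rfl⟩
      neg_mem' := fun {a} ⟨x, hx⟩ => ⟨-x, hx.mono fun z hz => by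
        show -a z = _
        rw [hz]
        rfl⟩ }
  congr _ _ _ h := fun ⟨x, hx⟩ => ⟨x, (h.and hx).mono fun _ hz => hz.1.symm.trans hz.2⟩
  loc _ _ := fun ⟨x, hx⟩ => hx.eventually_nhds.mono fun _ hz => ⟨x, hz⟩
  eventually_zero y t := fun ⟨x, hx⟩ h0 =>
    ((hK y x ((QuotientAddGroup.eq_zero_iff _).1 (hx.self_of_nhds.symm.trans h0))).and hx).mono
      fun _ hz => hz.2.trans ((QuotientAddGroup.eq_zero_iff _).2 hz.1)
  surj y a := by
    obtain ⟨x, rfl⟩ := QuotientAddGroup.mk_surjective a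
    exact ⟨fun _ => QuotientAddGroup.mk x, ⟨x, Eventually.of_forall fun _ => rfl⟩, rfl⟩

/-- The class of an element at a point. -/
abbrev qcls (z : Y) (x : M) : (quotLvl K hK).A z := QuotientAddGroup.mk x

theorem qcls_eq_iff {z : Y} {x y : M} : qcls K hK z x = qcls K hK z y ↔ x - y ∈ K z :=
  QuotientAddGroup.eq_iff_sub_mem

theorem qcls_eq_zero {z : Y} {x : M} : qcls K hK z x = 0 ↔ x ∈ K z :=
  QuotientAddGroup.eq_zero_iff _

theorem qcls_mem (x : M) (z : Y) : (fun w => qcls K hK w x) ∈ (quotLvl K hK).N z :=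
  ⟨x, Eventually.of_forall fun _ => rfl⟩

variable {M' : Type u} [AddCommGroup M'] {K' : Y → AddSubgroup M'}
  {hK' : ∀ z, ∀ x ∈ K' z, ∀ᶠ w in 𝓝 z, x ∈ K' w}

/-- The map of quotient etale spaces of a map of the groups. -/
def quotMap (g : M →+ M') (hg : ∀ z, ∀ x ∈ K z, g x ∈ K' z) :
    Lvl.Map (quotLvl K hK) (quotLvl K' hK') where
  σ z := QuotientAddGroup.map (K z) (K' z) g fun x hx => hg z x hx
  nat z t := fun ⟨x, hx⟩ => ⟨g x, hx.mono fun w hw => by
    show QuotientAddGroup.map (K w) (K' w) g _ (t w) = _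
    rw [hw]
    rfl⟩

theorem quotMap_qcls (g : M →+ M') (hg : ∀ z, ∀ x ∈ K z, g x ∈ K' z) (z : Y) (x : M) :
    (quotMap K hK g hg (hK' := hK')).σ z (qcls K hK z x) = qcls K' hK' z (g x) := rfl

end Quot

section Flab

variable {Y : TopCat.{u}} {M : Type u} [AddCommGroup M] {K : ↑Y → AddSubgroup M}
  (hK : ∀ z, ∀ x ∈ K z, ∀ᶠ w in 𝓝 z, x ∈ K w)

/-- Quotient etale spaces in which compatible elements glue are acyclic. -/
theorem quotLvl_acyclic_of_glue
    (h : ∀ (U : Opens Y) (x : Y → M), (∀ z ∈ U, ∀ᶠ w in 𝓝 z, x z - x w ∈ K w) →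
      ∃ g, ∀ z ∈ U, g - x z ∈ K z) :
    (quotLvl K hK).Acyclic := by
  haveI : TopCat.Sheaf.IsFlasque (quotLvl K hK).shf :=
    LocZLib.isFlasque_of_surjective _ fun {W V} hVW s => by
      classical
      let t : (quotLvl K hK).Fam := (s : (quotLvl K hK).secSub W).1
      have ht : ∀ z ∈ W, ∃ x, ∀ᶠ w in 𝓝 z, t w = qcls K hK w x :=
        fun z hz => (s : (quotLvl K hK).secSub W).2.2 z hz
      let x : Y → M := fun z => if hz : z ∈ W then (ht z hz).choose else 0
      have hx : ∀ z ∈ W, ∀ᶠ w in 𝓝 z, t w = qcls K hK w (x z) := fun z hz => by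
        simp only [x, dif_pos hz]
        exact (ht z hz).choose_spec
      obtain ⟨g, hg⟩ := h W x fun z hz => by
        filter_upwards [hx z hz, W.2.mem_nhds hz] with w hw hwW
        exact (qcls_eq_iff K hK).1 (hw.symm.trans (hx w hwW).self_of_nhds)
      refine ⟨(⟨(quotLvl K hK).cut V fun w => qcls K hK w g, (quotLvl K hK).cut_mem_godSub _ _,
        fun z hz => (quotLvl K hK).congr z (fun w => qcls K hK w g) _
          (((quotLvl K hK).cut_eventually hz _).mono fun _ hw => hw.symm) (qcls_mem K hK g z)⟩ :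
          (quotLvl K hK).secSub V), Subtype.ext (funext fun z => ?_)⟩
      show (quotLvl K hK).cut W ((quotLvl K hK).cut V fun w => qcls K hK w g) z = t z
      by_cases hz : z ∈ W
      · rw [(quotLvl K hK).cut_of_mem hz, (quotLvl K hK).cut_of_mem (hVW hz)]
        exact ((qcls_eq_iff K hK).2 (hg z hz)).trans (hx z hz).self_of_nhds.symm
      · rw [(quotLvl K hK).cut_of_notMem hz]
        exact ((s : (quotLvl K hK).secSub W).2.1 z hz).symm
  exact fun n => LocZLib.subsingleton_HU_flasque ⊤ n _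

end Flab

end Groth.Agent.TopDescent
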