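import Groth.Agent.TopDescent.StalkTot
import Groth.Agent.TopDescent.LvlMap

/-!
# Cohomological descent along proper surjective separated maps
-/

set_option linter.style.haveILetI false
set_option linter.unusedSectionVars false
set_option synthInstance.maxHeartbeats 400000
set_option backward.isDefEq.respectTransparency false

universe u

open CategoryTheory Limits Opposite TopologicalSpace Topology Filter

noncomputable section

namespace Groth.Agent.TopDescent

open scoped Classical

variable {X S : TopCat.{u}} (f : X ⟶ S) (F : CohTop.Ab S)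

/-- The total terms, shifted. -/
def prevTot : ℕ → AddCommGrpCat.{u}
  | 0 => AddCommGrpCat.of PUnit.{u + 1}
  | n + 1 => AddCommGrpCat.of ((powBicx f F).tot ⊤ (n : ℤ))

/-- The elements of shifted total degree, as elements of the bicomplex. -/
def prevVal : ∀ n, prevTot f F n →+ (powBicx f F).All
  | 0 => 0
  | n + 1 => ((powBicx f F).tot ⊤ (n : ℤ)).subtype

/-- The terms of the augmented total complex. -/
abbrev TotFam (n : ℕ) : Type u := gFam F (𝟙 S) n × prevTot f F n

/-- Vanishing near a point of the base. -/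
def totSub (n : ℕ) (s : S) : AddSubgroup (TotFam f F n) where
  carrier := {x | (∀ᶠ t in 𝓝 s, x.1 t = 0) ∧ prevVal f F n x.2 ∈ nzAll f F s}
  zero_mem' := ⟨Eventually.of_forall fun _ => rfl, by
    show prevVal f F n 0 ∈ nzAll f F s
    rw [map_zero]
    exact zero_mem _⟩
  add_mem' := fun {a b} ha hb => ⟨(ha.1.and hb.1).mono fun t ht => by
      show a.1 t + b.1 t = 0
      rw [ht.1, ht.2, add_zero], by
      show prevVal f F n (a.2 + b.2) ∈ nzAll f F s
      rw [map_add]
      exact add_mem ha.2 hb.2⟩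
  neg_mem' := fun {a} ha => ⟨ha.1.mono fun t ht => by
      show -a.1 t = 0
      rw [ht, neg_zero], by
      show prevVal f F n (-a.2) ∈ nzAll f F s
      rw [map_neg]
      exact neg_mem ha.2⟩

variable {f F}

theorem prevVal_support : ∀ {n : ℕ} (x : prevTot f F n) (p q : ℕ), n ≤ p ∨ n ≤ q →
    prevVal f F n x p q = 0
  | 0, _, _, _, _ => rfl
  | n + 1, x, p, q, h => (x : (powBicx f F).tot ⊤ (n : ℤ)).2 p q fun e => by
      have := e.1
      lia

theorem prevVal_injective : ∀ n, Function.Injective (prevVal f F n)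
  | 0 => fun a b _ => Subsingleton.elim (α := PUnit.{u + 1}) a b
  | _ + 1 => Subtype.val_injective

variable (hg : ∀ p, FibreGood (pwBase f p))

include hg in
theorem totSub_open (n : ℕ) (s : S) (x : TotFam f F n) (hx : x ∈ totSub f F n s) :
    ∀ᶠ t in 𝓝 s, x ∈ totSub f F n t := by
  have h : ∀ pq : Fin n × Fin n, ∀ᶠ t in 𝓝 s, NZ f F t pq.1 pq.2 (prevVal f F n x.2 pq.1 pq.2) :=
    fun pq => nearZero_eventually F (pwBase f pq.1) (hg pq.1) pq.2 (hx.2 pq.1 pq.2)
  filter_upwards [hx.1.eventually_nhds, Filter.eventually_all.2 h] with t h1 h2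
  refine ⟨h1, fun p q => ?_⟩
  by_cases hp : p < n ∧ q < n
  · exact h2 (⟨p, hp.1⟩, ⟨q, hp.2⟩)
  · rw [prevVal_support x.2 p q (by omega)]
    exact NZ.zero f F t p q

/-- The sheaves of the augmented total complex. -/
abbrev totLvl (n : ℕ) : Lvl (S : Type u) := quotLvl (totSub f F n) (totSub_open hg n)

open Classical in
/-- Gluing of elements of the bicomplex along the fibres. -/
def glueAll (U : Set S) (x : S → (powBicx f F).All) : (powBicx f F).All :=
  fun p q => id (α := gFam F (pwBase f p) q) fun z =>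
    if pwBase f p z ∈ U then (x (pwBase f p z) p q : gFam F (pwBase f p) q) z else 0

theorem glueAll_mem {U : Set S} {x : S → (powBicx f F).All} {m : ℤ}
    (hx : ∀ t, x t ∈ (powBicx f F).tot ⊤ m) : glueAll U x ∈ (powBicx f F).tot ⊤ m := fun p q h => by
  refine funext fun z => ?_
  show (if pwBase f p z ∈ U then (x (pwBase f p z) p q : gFam F (pwBase f p) q) z else 0) = 0
  rw [hx (pwBase f p z) p q h]
  split <;> rfl

include hg in
theorem glue_cond (n : ℕ) (U : Opens S) (x : S → TotFam f F n)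
    (hx : ∀ s ∈ U, ∀ᶠ t in 𝓝 s, x s - x t ∈ totSub f F n t) :
    ∃ g, ∀ s ∈ U, g - x s ∈ totSub f F n s := by
  classical
  let gl : gFam F (𝟙 S) n := fun t => if t ∈ U then (x t).1 t else 0
  obtain ⟨gx, hgx⟩ : ∃ g : prevTot f F n,
      prevVal f F n g = glueAll (U : Set S) fun t => prevVal f F n (x t).2 := by
    cases n with
    | zero =>
      refine ⟨0, (map_zero _).trans (funext fun p => funext fun q => funext fun z => ?_)⟩
      show (0 : gFam F (pwBase f p) q) z = if pwBase f p z ∈ (U : Set S) then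
        (0 : gFam F (pwBase f p) q) z else 0
      split <;> rfl
    | succ n => exact ⟨⟨_, glueAll_mem fun t => ((x t).2 : (powBicx f F).tot ⊤ (n : ℤ)).2⟩, rfl⟩
  refine ⟨(gl, gx), fun s hs => ⟨?_, ?_⟩⟩
  · filter_upwards [hx s hs, U.2.mem_nhds hs] with t ht htU
    show gl t - (x s).1 t = 0
    rw [show gl t = (x t).1 t from if_pos htU, ← neg_sub, neg_eq_zero]
    exact ht.1.self_of_nhds
  · show prevVal f F n (gx - (x s).2) ∈ nzAll f F s
    rw [map_sub, hgx]
    intro p q z
    have hz : pwBase f p z.1 = s := z.2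
    filter_upwards [(pwBase f p).hom.continuous.continuousAt.eventually
      (show ∀ᶠ t in 𝓝 (pwBase f p z.1), x s - x t ∈ totSub f F n t by rw [hz]; exact hx s hs),
      (pwBase f p).hom.continuous.continuousAt.preimage_mem_nhds
        (U.2.mem_nhds (show pwBase f p z.1 ∈ U by rw [hz]; exact hs))] with y hy hyU
    have h2 := (hy.2 p q ⟨y, rfl⟩).self_of_nhds
    show (if pwBase f p y ∈ (U : Set S) then
      (prevVal f F n (x (pwBase f p y)).2 p q : gFam F (pwBase f p) q) y else 0) -
        (prevVal f F n (x s).2 p q : gFam F (pwBase f p) q) y = 0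
    rw [if_pos (show pwBase f p y ∈ (U : Set S) from hyU), ← neg_sub, neg_eq_zero]
    rw [show (x s - x (pwBase f p y)).2 = (x s).2 - (x (pwBase f p y)).2 from rfl, map_sub] at h2
    exact h2

include hg in
theorem totLvl_acyclic (n : ℕ) : Lvl.Acyclic (totLvl (f := f) (F := F) hg n) :=
  quotLvl_acyclic_of_glue (totSub_open hg n) (glue_cond hg n)

variable (f F)

/-- The second component. -/
def totSnd (n : ℕ) : TotFam f F (n + 1) →+ (powBicx f F).tot ⊤ (n : ℤ) :=
  AddMonoidHom.snd (gFam F (𝟙 S) (n + 1)) (prevTot f F (n + 1))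

/-- The total differential between total terms. -/
def totD (n : ℕ) : (powBicx f F).tot ⊤ (n : ℤ) →+ (powBicx f F).tot ⊤ ((n + 1 : ℕ) : ℤ) :=
  ((powBicx f F).D.comp ((powBicx f F).tot ⊤ (n : ℤ)).subtype).codRestrict _ fun x => by
    push_cast
    exact (powBicx f F).D_mem x.2

theorem totD_val (n : ℕ) (x : (powBicx f F).tot ⊤ (n : ℤ)) :
    (totD f F n x).1 = (powBicx f F).D x.1 := rfl

/-- The differential of the augmented total complex. -/
def augD : ∀ n, TotFam f F n →+ TotFam f F (n + 1)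
  | 0 => AddMonoidHom.prod (((botLvl F).dI 0).comp (AddMonoidHom.fst _ _))
      ((epsTot f F 0).comp (AddMonoidHom.fst _ _))
  | n + 1 => AddMonoidHom.prod (((botLvl F).dI (n + 1)).comp (AddMonoidHom.fst _ _))
      ((epsTot f F (n + 1)).comp (AddMonoidHom.fst _ _) - (totD f F n).comp (totSnd f F n))

theorem augD_fst : ∀ n (x : TotFam f F n), (augD f F n x).1 = (botLvl F).dI n x.1
  | 0, _ => rfl
  | _ + 1, _ => rfl

theorem augD_zero_snd (x : TotFam f F 0) :
    (totSnd f F 0 (augD f F 0 x)).1 = (epsTot f F 0 x.1).1 := rfl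

theorem augD_succ_snd (n : ℕ) (x : TotFam f F (n + 1)) :
    (totSnd f F (n + 1) (augD f F (n + 1) x)).1 =
      (epsTot f F (n + 1) x.1).1 - (powBicx f F).D (totSnd f F n x).1 := rfl

theorem augD_mem : ∀ n s, ∀ x ∈ totSub f F n s, augD f F n x ∈ totSub f F (n + 1) s
  | 0, s, x, hx => ⟨dI_eventually_zero _ 0 hx.1, epsTot_nzAll f F s hx.1⟩
  | n + 1, s, x, hx => ⟨dI_eventually_zero _ (n + 1) hx.1, by
      show (totSnd f F (n + 1) (augD f F (n + 1) x)).1 ∈ nzAll f F s
      rw [augD_succ_snd]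
      exact sub_mem (epsTot_nzAll f F s hx.1) (D_nzAll f F s hx.2)⟩

theorem augD_augD : ∀ n x, augD f F (n + 1) (augD f F n x) = 0
  | 0, x => Prod.ext ((botLvl F).dI_dI 0 x.1) (prevVal_injective (f := f) (F := F) (0 + 1 + 1) (by
      show (totSnd f F 1 (augD f F 1 (augD f F 0 x))).1 = prevVal f F (0 + 1 + 1) 0
      rw [augD_succ_snd, augD_fst, augD_zero_snd, D_epsTot, sub_self, map_zero]))
  | n + 1, x => Prod.ext ((botLvl F).dI_dI (n + 1) x.1)
      (prevVal_injective (f := f) (F := F) (n + 1 + 1 + 1) (by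
      show (totSnd f F (n + 1 + 1) (augD f F (n + 1 + 1) (augD f F (n + 1) x))).1 =
        prevVal f F (n + 1 + 1 + 1) 0
      rw [augD_succ_snd, augD_fst, augD_succ_snd, map_sub, (powBicx f F).D_D, sub_zero, D_epsTot,
        sub_self, map_zero]))

variable {f F} (hsurj : Function.Surjective f)

include hsurj in
theorem augD_zero_injective (s : S) (x : TotFam f F 0) (h : augD f F 0 x ∈ totSub f F 1 s) :
    x ∈ totSub f F 0 s := by
  obtain ⟨x₀, hx₀⟩ := hsurj s
  exact ⟨stalk_injective f F s x₀ hx₀ (mem_of_d_eventually_zero _ h.1) h.2,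
    fun p q => NZ.zero f F s p q⟩

include hg hsurj in
theorem augD_exact : ∀ n s (x : TotFam f F (n + 1)),
    augD f F (n + 1) x ∈ totSub f F (n + 1 + 1) s →
      ∃ y, augD f F n y - x ∈ totSub f F (n + 1) s := by
  intro n s x hx
  obtain ⟨x₀, hx₀⟩ := hsurj s
  obtain ⟨u, hu⟩ := mem_of_d_eventually_zero ((botLvl F).iter (n + 1)) hx.1
  have hu' : ∀ᶠ t in 𝓝 s, ((botLvl F).dI n u - x.1) t = 0 :=
    hu.mono fun t ht => sub_eq_zero.2 ht.symm
  let y : (powBicx f F).All := (epsTot f F n u).1 - (totSnd f F n x).1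
  have hy : y ∈ (powBicx f F).tot ⊤ (n : ℤ) := sub_mem (epsTot f F n u).2 (totSnd f F n x).2
  have hDy : (powBicx f F).D y ∈ nzAll f F s := by
    have h2 : (epsTot f F (n + 1) x.1).1 - (powBicx f F).D (totSnd f F n x).1 ∈ nzAll f F s := hx.2
    have h3 := epsTot_nzAll f F s (n := n + 1) hu'
    rw [map_sub, AddSubgroup.coe_sub] at h3
    rw [map_sub, D_epsTot]
    have := add_mem h3 h2
    rwa [sub_add_sub_cancel] at this
  cases n with
  | zero =>
    obtain ⟨e, he, hye⟩ := stalk_zero f F s x₀ hx₀ hg y hy hDy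
    let p : TotFam f F 0 := (u - e, (0 : prevTot f F 0))
    refine ⟨p, ?_, ?_⟩
    · filter_upwards [hu', (botLvl F).loc s e he] with t h1 h2
      have h3 : (botLvl F).dI 0 e t = 0 := (botLvl F).cls_eq_zero.2 h2
      show ((botLvl F).dI 0 (u - e) - x.1) t = 0
      rw [map_sub, Pi.sub_apply, Pi.sub_apply, h3, sub_zero]
      exact h1
    · show (epsTot f F 0 (u - e)).1 - (totSnd f F 0 x).1 ∈ nzAll f F s
      rw [map_sub, AddSubgroup.coe_sub, sub_right_comm]
      exact hye
  | succ m =>
    obtain ⟨w, hw, hyw⟩ := stalk_succ f F s x₀ hx₀ hg m y hy hDy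
    let p : TotFam f F (m + 1) := (u, (⟨w, hw⟩ : (powBicx f F).tot ⊤ (m : ℤ)))
    refine ⟨p, hu', ?_⟩
    show (epsTot f F (m + 1) u).1 - (powBicx f F).D w - (totSnd f F (m + 1) x).1 ∈ nzAll f F s
    rw [sub_right_comm]
    exact hyw

include hg hsurj in
/-- Exactness of the augmented total complex on global elements. -/
theorem exists_augD (n : ℕ) (x : TotFam f F (n + 1)) (hx : augD f F (n + 1) x = 0) :
    ∃ y, augD f F n y = x := by
  obtain ⟨t, ht, ht'⟩ := Lvl.exact_sections (totLvl hg)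
    (fun m => quotMap _ _ (augD f F m) (augD_mem f F m))
    (totLvl_acyclic hg)
    (fun m s a => by
      obtain ⟨a, rfl⟩ := QuotientAddGroup.mk_surjective a
      exact (qcls_eq_zero _ _).2 ((augD_augD f F m a).symm ▸ zero_mem _))
    (fun s => (injective_iff_map_eq_zero _).2 fun a ha => by
      obtain ⟨a, rfl⟩ := QuotientAddGroup.mk_surjective a
      exact (qcls_eq_zero _ _).2 (augD_zero_injective hsurj s a ((qcls_eq_zero _ _).1 ha)))
    (fun m s b hb => by
      obtain ⟨b, rfl⟩ := QuotientAddGroup.mk_surjective b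
      obtain ⟨y, hy⟩ := augD_exact hg hsurj m s b ((qcls_eq_zero _ _).1 hb)
      exact ⟨qcls _ _ s y, (qcls_eq_iff _ _).2 hy⟩)
    n (fun s => qcls _ _ s x) ⟨fun s hs => absurd trivial hs, fun s _ => qcls_mem _ _ x s⟩
    (funext fun s => (qcls_eq_zero _ _).2 (by rw [hx]; exact zero_mem _))
  have hloc : ∀ s, ∃ y, ∀ᶠ w in 𝓝 s, t w = qcls _ (totSub_open hg n) w y := fun s => ht.2 s trivial
  choose y hy using hloc
  obtain ⟨g, hg'⟩ := glue_cond hg n ⊤ y fun s _ => by
    filter_upwards [hy s] with w hw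
    exact (qcls_eq_iff _ _).1 (hw.symm.trans (hy w).self_of_nhds)
  refine ⟨g, ?_⟩
  have hz : ∀ s, augD f F n g - x ∈ totSub f F (n + 1) s := fun s =>
    (qcls_eq_iff _ (totSub_open hg (n + 1))).1 ((((congrArg
      ((quotMap _ (totSub_open hg n) (augD f F n) (augD_mem f F n) (hK' := totSub_open hg (n + 1))).σ s)
        (((qcls_eq_iff _ (totSub_open hg n)).2 (hg' s trivial)).trans (hy s).self_of_nhds.symm))).trans
      (congrFun ht' s)))
  rw [← sub_eq_zero]
  refine Prod.ext (funext fun s => (hz s).1.self_of_nhds) (prevVal_injective (f := f) (F := F) _ ?_)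
  show _ = prevVal f F (n + 1) 0
  rw [map_zero]
  funext p q z
  exact ((hz (pwBase f p z)).2 p q ⟨z, rfl⟩).self_of_nhds

include hsurj in
theorem epsTot_zero_injective (l : gFam F (𝟙 S) 0) (hd : (botLvl F).dI 0 l = 0)
    (h : epsTot f F 0 l = 0) : l = 0 := funext fun s => by
  obtain ⟨x₀, hx₀⟩ := hsurj s
  exact (stalk_injective f F s x₀ hx₀ ((botLvl F).cls_eq_zero.1 (congrFun hd s))
    (by rw [h]; exact zero_mem _)).self_of_nhds

include hg hsurj in
/-- The total complex computes the cohomology of the base. -/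
theorem nonempty_tot_homology_iso (n : ℕ) :
    Nonempty ((botLvl F).godCx.homology n ≅ ((powBicx f F).totCx ⊤).homology (n : ℤ)) := by
  let B := powBicx f F
  obtain ⟨i⟩ := SpSeqE1.nonempty_homology_iso_of_hom ((botLvl F).godCx.sc n)
    ((B.totCx ⊤).sc' ((n : ℤ) - 1) (n : ℤ) ((n : ℤ) + 1)) (epsTot f F n)
    (fun l hl => Subtype.ext (by
      refine (B.totCx_d_val ⊤ _ _ rfl _).trans ((D_epsTot f F n l).trans ?_)
      rw [show (botLvl F).dI n l = 0 from
        (godCx_d_dI _ n l).symm.trans ((SpSeqE1.g_eq_zero_iff (botLvl F).godCx n l).1 hl), map_zero]))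
    (fun z hz => by
      have hDz : B.D (z : B.tot ⊤ _).1 = 0 :=
        (B.totCx_d_val ⊤ _ _ rfl z).symm.trans (congrArg Subtype.val hz)
      obtain ⟨y, hy⟩ := exists_augD hg hsurj n ((0, z) : TotFam f F (n + 1))
        (Prod.ext ((augD_fst f F (n + 1) _).trans (map_zero _)) (prevVal_injective (f := f) (F := F) (n + 1 + 1) (by
          show (totSnd f F (n + 1) (augD f F (n + 1) _)).1 = prevVal f F (n + 1 + 1) 0
          rw [augD_succ_snd, map_zero, map_zero]
          show (0 : B.All) - B.D (z : B.tot ⊤ _).1 = 0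
          rw [hDz, sub_zero])))
      have h1 : (botLvl F).dI n y.1 = 0 := (augD_fst f F n y).symm.trans (congrArg Prod.fst hy)
      refine ⟨y.1, (SpSeqE1.g_eq_zero_iff _ n _).2 ((godCx_d_dI _ n _).trans h1), ?_⟩
      have h2 : (totSnd f F n (augD f F n y)).1 = (z : B.tot ⊤ _).1 :=
        congrArg (fun e => (totSnd f F n e).1) hy
      cases n with
      | zero =>
        refine ⟨0, Subtype.ext ?_⟩
        rw [map_zero]
        show (0 : B.All) = (z : B.tot ⊤ _).1 - (epsTot f F 0 y.1).1
        rw [← h2, augD_zero_snd, sub_self]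
      | succ k =>
        refine ⟨-(⟨(totSnd f F k y).1, by simpa using (totSnd f F k y).2⟩ : B.tot ⊤ _), Subtype.ext ?_⟩
        rw [map_neg]
        show -((B.totCx ⊤).d _ _ _ : B.tot ⊤ _).1 = (z : B.tot ⊤ _).1 - (epsTot f F (k + 1) y.1).1
        rw [B.totCx_d_val ⊤ _ _ (by lia), ← h2, augD_succ_snd, sub_sub_cancel_left])
    (fun l hl => by
      have hdl : (botLvl F).dI n l = 0 :=
        (godCx_d_dI _ n l).symm.trans ((SpSeqE1.g_eq_zero_iff (botLvl F).godCx n l).1 hl)
      refine Iff.trans ?_ (SpSeqE1.exists_d_prev_iff (botLvl F).godCx n l).symm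
      cases n with
      | zero =>
        constructor
        · rintro ⟨y, hy⟩
          have hy0 : (y : B.tot ⊤ _).1 = 0 := funext fun p => funext fun q =>
            (y : B.tot ⊤ _).2 p q fun e => by
              have := e.1
              lia
          have h0 : epsTot f F 0 l = 0 := Subtype.ext (by
            refine (congrArg Subtype.val hy).symm.trans ((B.totCx_d_val ⊤ _ _ (by lia) y).trans ?_)
            rw [hy0, map_zero]
            rfl)
          exact ⟨0, (SpSeqE1.dFam_zero _ _).trans (epsTot_zero_injective hsurj l hdl h0).symm⟩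
        · rintro ⟨w, hw⟩
          rw [SpSeqE1.dFam_zero] at hw
          exact ⟨0, (map_zero _).trans ((congrArg (epsTot f F 0) hw.symm).trans (map_zero _)).symm⟩
      | succ k =>
        constructor
        · rintro ⟨w, hw⟩
          have hDw : B.D (w : B.tot ⊤ _).1 = (epsTot f F (k + 1) l).1 :=
            (B.totCx_d_val ⊤ _ _ (by lia) w).symm.trans (congrArg Subtype.val hw)
          let w' : B.tot ⊤ (k : ℤ) := ⟨(w : B.tot ⊤ _).1, by simpa using (w : B.tot ⊤ _).2⟩
          obtain ⟨y, hy⟩ := exists_augD hg hsurj k ((l, w') : TotFam f F (k + 1))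
            (Prod.ext hdl (prevVal_injective (f := f) (F := F) (k + 1 + 1) (by
              show (totSnd f F (k + 1) (augD f F (k + 1) _)).1 = prevVal f F (k + 1 + 1) 0
              rw [augD_succ_snd, map_zero]
              show (epsTot f F (k + 1) l).1 - B.D (w : B.tot ⊤ _).1 = 0
              rw [hDw, sub_self])))
          refine ⟨Pi.single k y.1, (SpSeqE1.dFam_succ _ _ k).trans ?_⟩
          rw [Pi.single_eq_same]
          exact (godCx_d_dI _ k _).trans ((augD_fst f F k y).symm.trans (congrArg Prod.fst hy))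
        · rintro ⟨v, hv⟩
          rw [SpSeqE1.dFam_succ] at hv
          refine ⟨⟨(epsTot f F k (v k)).1, by simpa using (epsTot f F k (v k)).2⟩, Subtype.ext ?_⟩
          refine (B.totCx_d_val ⊤ _ _ (by lia) _).trans ((D_epsTot f F k _).trans ?_)
          exact congrArg (fun e => (epsTot f F (k + 1) e).1) ((godCx_d_dI _ k _).symm.trans hv))
  exact ⟨i ≪≫ (SpSeqE1.homologyScIso _ _).symm⟩

include hg hsurj in
/-- The descent spectral sequence. -/
theorem exists_descent_proper :
    ∃ (E : CohomologicalSpectralSequence AddCommGrpCat.{u} 1)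
      (a : SpSeq.Abutment E (fun n : ℤ =>
        if 0 ≤ n then AddCommGrpCat.of (CohTop.H F n.toNat) else AddCommGrpCat.of PUnit.{u + 1})),
      (∀ n, a.IsFinite n) ∧ SpSeq.IsBounded E ∧
      ∀ p q : ℤ, Nonempty ((E.page 1 le_rfl).X (p, q) ≅
        (if 0 ≤ p ∧ 0 ≤ q then
          AddCommGrpCat.of (CohTop.H ((CohTop.pull (pwBase f p.toNat)).obj F) q.toNat)
         else AddCommGrpCat.of PUnit.{u + 1})) := by
  refine (powBicx f F).exists_spectralSequence_of_tot
    (fun p q => AddCommGrpCat.of (CohTop.H ((CohTop.pull (pwBase f p)).obj F) q))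
    (fun n => AddCommGrpCat.of (CohTop.H F n)) (fun p q => nonempty_H_pull_iso F (pwBase f p) q)
    fun n => ?_
  obtain ⟨i⟩ := nonempty_H_pull_iso F (𝟙 S) n
  obtain ⟨j⟩ := nonempty_tot_homology_iso hg hsurj (F := F) n
  let eid : (CohTop.pull (𝟙 S)).obj F ≅ F :=
    ((TopCat.Sheaf.pullbackPushforwardAdjunction AddCommGrpCat.{u} (𝟙 S)).leftAdjointUniq
      Adjunction.id).app F
  exact ⟨j.symm ≪≫ i ≪≫ (((CohBase.HEquiv _ n).trans (nonempty_H_pull_iso.extIsoRight' eid n)).trans
    (CohBase.HEquiv F n).symm).toAddCommGrpIso⟩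

end Groth.Agent.TopDescent
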