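import Groth.Agent.TopDescent.LvlMap

/-!
# Acyclicity on compact subspaces with separated points

Quotient etale spaces on a compact space `Z`, carrying operations "multiply by the indicator of a
subset of an ambient space `X`", have all their global sections constant and no higher cohomology.
-/

set_option linter.style.haveILetI false
set_option linter.unusedSectionVars false
set_option synthInstance.maxHeartbeats 400000

universe u

open CategoryTheory Limits Opposite TopologicalSpace Topology Filter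

noncomputable section

namespace Groth.Agent.TopDescent

/-- Two compact sets whose points can be separated have disjoint neighbourhoods. -/
theorem separated_compacts {X : Type u} [TopologicalSpace X] {S T : Set X} (hS : IsCompact S)
    (hT : IsCompact T)
    (h : ∀ x ∈ S, ∀ y ∈ T, ∃ U V : Set X, IsOpen U ∧ IsOpen V ∧ x ∈ U ∧ y ∈ V ∧ Disjoint U V) :
    ∃ U V : Set X, IsOpen U ∧ IsOpen V ∧ S ⊆ U ∧ T ⊆ V ∧ Disjoint U V := by
  have h1 : ∀ x ∈ S, ∃ U V : Set X, IsOpen U ∧ IsOpen V ∧ x ∈ U ∧ T ⊆ V ∧ Disjoint U V := by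
    intro x hx
    choose U V hU hV hxU hyV hd using fun y : ↥T => h x hx y y.2
    obtain ⟨t, ht⟩ := hT.elim_finite_subcover V hV (fun y hy => Set.mem_iUnion.2 ⟨⟨y, hy⟩, hyV _⟩)
    refine ⟨⋂ y ∈ t, U y, ⋃ y ∈ t, V y, t.finite_toSet.isOpen_biInter (fun y _ => hU y),
      isOpen_biUnion (fun y _ => hV y), Set.mem_iInter₂.2 (fun y _ => hxU y), ht, ?_⟩
    rw [Set.disjoint_iUnion₂_right]
    exact fun y hy => (hd y).mono_left (Set.biInter_subset_of_mem hy)
  choose U V hU hV hxU hTV hd using fun x : ↥S => h1 x x.2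
  obtain ⟨t, ht⟩ := hS.elim_finite_subcover U hU (fun y hy => Set.mem_iUnion.2 ⟨⟨y, hy⟩, hxU _⟩)
  refine ⟨⋃ y ∈ t, U y, ⋂ y ∈ t, V y, isOpen_biUnion (fun y _ => hU y),
    t.finite_toSet.isOpen_biInter (fun y _ => hV y), ht, Set.subset_iInter₂ (fun y _ => hTV y), ?_⟩
  rw [Set.disjoint_iUnion₂_left]
  exact fun y hy => (hd y).mono_right (Set.biInter_subset_of_mem hy)

/-- A map along which neighbourhoods of the source can be separated in the target. -/
structure SepMap {Z X : Type u} [TopologicalSpace Z] [TopologicalSpace X] (i : Z → X) : Prop where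
  cont : Continuous i
  compact : CompactSpace Z
  sep : ∀ (z : Z) (W : Set Z), W ∈ 𝓝 z → ∃ V : Set X, IsOpen V ∧ i z ∈ V ∧
    ∀ w ∉ W, ∀ᶠ y in 𝓝 (i w), y ∉ V

theorem sepMap_of_injective {Z X : Type u} [TopologicalSpace Z] [TopologicalSpace X]
    [CompactSpace Z] {i : Z → X} (hi : Continuous i) (hinj : Function.Injective i)
    (h : ∀ z w : Z, z ≠ w →
      ∃ U V : Set X, IsOpen U ∧ IsOpen V ∧ i z ∈ U ∧ i w ∈ V ∧ Disjoint U V) : SepMap i := by
  refine ⟨hi, inferInstance, fun z W hW => ?_⟩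
  obtain ⟨W₀, hW₀, hWo, hz⟩ := mem_nhds_iff.1 hW
  obtain ⟨U, V, hU, hV, hzU, hCV, hd⟩ := separated_compacts (S := {i z}) (T := i '' W₀ᶜ)
    isCompact_singleton (hWo.isClosed_compl.isCompact.image hi) (by
      rintro x rfl _ ⟨w, hw, rfl⟩
      exact h z w fun e => hw (e ▸ hz))
  exact ⟨U, hU, hzU rfl, fun w hw => Filter.eventually_of_mem
    (hV.mem_nhds (hCV ⟨w, fun hw' => hw (hW₀ hw'), rfl⟩))
    fun y hy hyU => Set.disjoint_left.1 hd hyU hy⟩

section Cut

variable {Z : TopCat.{u}} {X : Type u} [TopologicalSpace X] (i : ↑Z → X) {M : Type u}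
  [AddCommGroup M] (K : ↑Z → AddSubgroup M)

/-- Indicator operations on a quotient etale space. -/
structure CutOp where
  /-- The operation of a subset. -/
  c : Set X → M →+ M
  mem : ∀ B z, ∀ x ∈ K z, c B x ∈ K z
  inter : ∀ B C x, c B (c C x) = c (B ∩ C) x
  union : ∀ B C, Disjoint B C → ∀ x, c (B ∪ C) x = c B x + c C x
  inner : ∀ B z, B ∈ 𝓝 (i z) → ∀ x, x - c B x ∈ K z
  outer : ∀ B z, (∀ᶠ y in 𝓝 (i z), y ∉ B) → ∀ x, c B x ∈ K z

variable {i K} (C : CutOp i K) (hK : ∀ z, ∀ x ∈ K z, ∀ᶠ w in 𝓝 z, x ∈ K w)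

namespace CutOp

/-- The operation on stalks. -/
def map (B : Set X) : Lvl.Map (quotLvl K hK) (quotLvl K hK) :=
  quotMap K hK (C.c B) (C.mem B)

theorem inter_iter (B B' : Set X) : ∀ (q : ℕ) (z : Z) (a : ((quotLvl K hK).iter q).A z),
    ((C.map hK B).iter q).σ z (((C.map hK B').iter q).σ z a) = ((C.map hK (B ∩ B')).iter q).σ z a
  | 0, z, a => by
    obtain ⟨x, rfl⟩ := QuotientAddGroup.mk_surjective a
    exact congrArg (qcls K hK z) (C.inter B B' x)
  | q + 1, z, a =>
    (Lvl.Map.next_comp ((C.map hK B').iter q) ((C.map hK B).iter q) ((C.map hK (B ∩ B')).iter q)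
      (fun w b => (inter_iter B B' q w b).symm) z a).symm

theorem union_iter {B B' : Set X} (h : Disjoint B B') :
    ∀ (q : ℕ) (z : Z) (a : ((quotLvl K hK).iter q).A z),
      ((C.map hK (B ∪ B')).iter q).σ z a =
        ((C.map hK B).iter q).σ z a + ((C.map hK B').iter q).σ z a
  | 0, z, a => by
    obtain ⟨x, rfl⟩ := QuotientAddGroup.mk_surjective a
    exact congrArg (qcls K hK z) (C.union B B' h x)
  | q + 1, z, a => Lvl.Map.next_add ((C.map hK B).iter q) ((C.map hK B').iter q)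
      ((C.map hK (B ∪ B')).iter q) (fun w b => union_iter h q w b) z a

variable (hi : Continuous i)

include hi in
theorem inner_iter {B : Set X} : ∀ (q : ℕ) (z : Z), B ∈ 𝓝 (i z) →
    ∀ a : ((quotLvl K hK).iter q).A z, ((C.map hK B).iter q).σ z a = a
  | 0, z, h, a => by
    obtain ⟨x, rfl⟩ := QuotientAddGroup.mk_surjective a
    exact ((qcls_eq_iff K hK).2 (C.inner B z h x)).symm
  | q + 1, z, h, a => Lvl.Map.next_eventually_id ((C.map hK B).iter q)
      ((hi.continuousAt.eventually (eventually_nhds_iff.2 (by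
        obtain ⟨U, hU, hUo, hz⟩ := mem_nhds_iff.1 h
        exact ⟨U, fun y hy => mem_nhds_iff.2 ⟨U, hU, hUo, hy⟩, hUo, hz⟩) :
        ∀ᶠ y in 𝓝 (i z), B ∈ 𝓝 y)).mono fun w hw => inner_iter q w hw) a

include hi in
theorem outer_iter {B : Set X} : ∀ (q : ℕ) (z : Z), (∀ᶠ y in 𝓝 (i z), y ∉ B) →
    ((C.map hK B).iter q).σ z = 0
  | 0, z, h => by
    refine AddMonoidHom.ext fun a => ?_
    obtain ⟨x, rfl⟩ := QuotientAddGroup.mk_surjective a
    exact (qcls_eq_zero K hK).2 (C.outer B z h x)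
  | q + 1, z, h => Lvl.Map.next_eventually_zero ((C.map hK B).iter q)
      ((hi.continuousAt.eventually h.eventually_nhds).mono fun w hw => outer_iter q w hw)

/-- Gluing finitely many local solutions by indicator operations. -/
theorem glue {P : Set X → Prop} (hP : ∀ B C, B ⊆ C → P C → P B)
    (hu : ∀ B C, Disjoint B C → P B → P C → P (B ∪ C)) [CompactSpace Z] (h0 : P ∅)
    (hloc : ∀ z : Z, ∃ V : Set X, IsOpen V ∧ i z ∈ V ∧ P V) (hi : Continuous i) :
    ∃ V : Set X, IsOpen V ∧ Set.range i ⊆ V ∧ P V := by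
  have h : ∃ V : Set X, IsOpen V ∧ i '' (Set.univ : Set Z) ⊆ V ∧ P V := by
    refine IsCompact.induction_on (p := fun S => ∃ V : Set X, IsOpen V ∧ i '' S ⊆ V ∧ P V)
      isCompact_univ ⟨∅, isOpen_empty, by simp, h0⟩ ?_ ?_ ?_
    · rintro S T hST ⟨V, hV, hTV, hPV⟩
      exact ⟨V, hV, (Set.image_mono hST).trans hTV, hPV⟩
    · rintro S T ⟨V, hV, hSV, hPV⟩ ⟨V', hV', hTV', hPV'⟩
      refine ⟨V ∪ V', hV.union hV', Set.image_union i S T ▸ Set.union_subset_union hSV hTV', ?_⟩
      rw [← Set.union_sdiff_self]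
      exact hu _ _ Set.disjoint_sdiff_right hPV (hP _ _ Set.sdiff_subset hPV')
    · intro z _
      obtain ⟨V, hV, hz, hPV⟩ := hloc z
      exact ⟨i ⁻¹' V, mem_nhdsWithin_of_mem_nhds ((hV.preimage hi).mem_nhds hz), V, hV,
        Set.image_preimage_subset _ _, hPV⟩
  rwa [Set.image_univ] at h

include C in
/-- Global sections are constant. -/
theorem exists_global (hs : SepMap i) (t : (quotLvl K hK).Fam) (ht : ∀ z, t ∈ (quotLvl K hK).N z) :
    ∃ x : M, ∀ z, t z = qcls K hK z x := by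
  haveI := hs.compact
  let P : Set X → Prop := fun B => ∃ x : M, ∀ z, qcls K hK z x = (C.map hK B).σ z (t z)
  obtain ⟨V, hV, hZV, x, hx⟩ := glue (i := i) (P := P)
    (fun B B' hB ⟨x, hx⟩ => ⟨C.c B x, fun z => by
      refine (quotMap_qcls K hK (C.c B) (C.mem B) z x).symm.trans ?_
      refine (congrArg ((C.map hK B).σ z) (hx z)).trans ?_
      exact (C.inter_iter hK B B' 0 z (t z)).trans
        (by rw [Set.inter_eq_left.2 hB]; rfl)⟩)
    (fun B B' hd ⟨x, hx⟩ ⟨x', hx'⟩ => ⟨x + x', fun z => by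
      refine Eq.trans ?_ (C.union_iter hK hd 0 z (t z)).symm
      exact congrArg₂ (· + ·) (hx z) (hx' z)⟩)
    ⟨0, fun z => ((DFunLike.congr_fun (C.outer_iter hK hs.cont 0 z
      (Eventually.of_forall fun y => Set.notMem_empty y)) (t z))).symm⟩
    (fun z => by
      obtain ⟨x, hx⟩ := ht z
      obtain ⟨V, hV, hzV, hout⟩ := hs.sep z _ hx
      refine ⟨V, hV, hzV, C.c V x, fun w => ?_⟩
      refine (quotMap_qcls K hK (C.c V) (C.mem V) w x).symm.trans ?_
      by_cases hw : w ∈ {w | t w = QuotientAddGroup.mk x}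
      · exact congrArg ((C.map hK V).σ w) hw.symm
      · have h := C.outer_iter hK hs.cont (B := V) 0 w (hout w hw)
        exact (DFunLike.congr_fun h (qcls K hK w x)).trans (DFunLike.congr_fun h (t w)).symm)
    hs.cont
  exact ⟨x, fun z => ((hx z).trans
    (C.inner_iter hK hs.cont 0 z (hV.mem_nhds (hZV ⟨z, rfl⟩)) (t z))).symm⟩

include C in
/-- There is no higher cohomology. -/
theorem acyclic (hs : SepMap i) : (quotLvl K hK).Acyclic := by
  haveI := hs.compact
  intro n
  let L := quotLvl K hK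
  suffices h : Subsingleton (CohBase.HU (⊤ : Opens Z) (L.iter n).shf 1) by
    obtain ⟨e⟩ := L.nonempty_HU_iter_iso n 0 (n + 1) (by omega)
    exact e.symm.toEquiv.subsingleton
  refine subsingleton_of_forall_eq 0 fun ξ => ?_
  obtain ⟨η, rfl⟩ := (L.iter n).bdry_surjective 0 ξ
  obtain ⟨t, rfl⟩ := (L.iter n).next.glob.symm.surjective η
  refine ((L.iter n).bdry_glob_eq_zero_iff t).2 ?_
  let Φ : ∀ B : Set X, Lvl.Map (L.iter n) (L.iter n) := fun B => (C.map hK B).iter n
  let P : Set X → Prop := fun B => ∃ s : (L.iter n).Fam, (L.iter n).d s = (Φ B).next.pull t.1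
  obtain ⟨V, hV, hZV, s, hs'⟩ := glue (i := i) (P := P)
    (fun B B' hB ⟨s, hs⟩ => ⟨(Φ B).pull s, by
      refine ((Φ B).next_pull_d s).symm.trans ((congrArg (Φ B).next.pull hs).trans ?_)
      refine funext fun z => ?_
      exact (C.inter_iter hK B B' (n + 1) z (t.1 z)).trans
        (by rw [Set.inter_eq_left.2 hB]; rfl)⟩)
    (fun B B' hd ⟨s, hs⟩ ⟨s', hs'⟩ => ⟨s + s', by
      rw [map_add, hs, hs']
      exact funext fun z => (C.union_iter hK hd (n + 1) z (t.1 z)).symm⟩)
    ⟨0, by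
      rw [map_zero]
      exact funext fun z => (DFunLike.congr_fun (C.outer_iter hK hs.cont (n + 1) z
        (Eventually.of_forall fun y => Set.notMem_empty y)) (t.1 z)).symm⟩
    (fun z => by
      obtain ⟨r, hr⟩ := t.2.2 z trivial
      obtain ⟨V, hV, hzV, hout⟩ := hs.sep z _ hr
      refine ⟨V, hV, hzV, (Φ V).pull r, ((Φ V).next_pull_d r).symm.trans (funext fun w => ?_)⟩
      by_cases hw : w ∈ {w | t.1 w = (L.iter n).cls w r}
      · exact congrArg ((Φ V).next.σ w) hw.symm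
      · have h := C.outer_iter hK hs.cont (B := V) (n + 1) w (hout w hw)
        exact (DFunLike.congr_fun h ((L.iter n).d r w)).trans (DFunLike.congr_fun h (t.1 w)).symm)
    hs.cont
  exact ⟨s, hs'.trans (funext fun z =>
    C.inner_iter hK hs.cont (n + 1) z (hV.mem_nhds (hZV ⟨z, rfl⟩)) (t.1 z))⟩

end CutOp

end Cut

end Groth.Agent.TopDescent
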