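import Groth.Agent.TopDescent.Restr
import Groth.Agent.TopDescent.Cech

/-!
# Pullback of families of germs along maps over the base
-/

set_option linter.style.haveILetI false
set_option linter.unusedSectionVars false
set_option synthInstance.maxHeartbeats 400000

universe u

open CategoryTheory Limits Opposite TopologicalSpace Topology Filter

noncomputable section

namespace Groth.Agent.TopDescent

variable {S : TopCat.{u}} (F : CohTop.Ab S)

/-- The families of level `q`. -/
abbrev gFam {Y : TopCat.{u}} (h : Y ⟶ S) (q : ℕ) : Type u := ((baseLvl F h).iter q).Fam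

section Pull

variable {Y Y' Y'' : TopCat.{u}} {h : Y ⟶ S} {h' : Y' ⟶ S} {h'' : Y'' ⟶ S}

/-- The inverse image of families along a map over the base. -/
def famPull (k : Y' ⟶ Y) (e : ∀ z, h (k z) = h' z) (q : ℕ) : gFam F h q →+ gFam F h' q :=
  ((baseHom F h' (fun z => k z) Set.univ isOpen_univ (fun _ _ => k.hom.continuous.continuousAt)
    fun z _ => e z).iter q).pull

theorem famPull_comp (k : Y' ⟶ Y) (e : ∀ z, h (k z) = h' z) (k' : Y'' ⟶ Y')
    (e' : ∀ z, h' (k' z) = h'' z) (k'' : Y'' ⟶ Y) (e'' : ∀ z, h (k'' z) = h'' z)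
    (hk : ∀ z, k'' z = k (k' z)) (q : ℕ) (s : gFam F h q) :
    famPull F k'' e'' q s = famPull F k' e' q (famPull F k e q s) :=
  funext fun z => pull_iter_comp F (W := Set.univ)
    (agree_baseHom_comp F _ _ _ _ _ _ _ _ _ isOpen_univ subset_rfl subset_rfl subset_rfl
      fun w _ => hk w) q s (Set.mem_univ z)

theorem famPull_id (k : Y ⟶ Y) (e : ∀ z, h (k z) = h z) (hk : ∀ z, k z = z) (q : ℕ)
    (s : gFam F h q) : famPull F k e q s = s :=
  funext fun z => pull_iter_id F (W := Set.univ)
    (agree_baseHom_id F _ _ _ isOpen_univ subset_rfl fun w _ => hk w) q s (Set.mem_univ z)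

theorem famPull_dI (k : Y' ⟶ Y) (e : ∀ z, h (k z) = h' z) (q : ℕ) (s : gFam F h q) :
    famPull F k e (q + 1) ((baseLvl F h).dI q s) = (baseLvl F h').dI q (famPull F k e q s) :=
  pull_d (baseHom F h' (fun z => k z) Set.univ isOpen_univ
    (fun _ _ => k.hom.continuous.continuousAt) fun z _ => e z) rfl q s

theorem famPull_eventually_zero (k : Y' ⟶ Y) (e : ∀ z, h (k z) = h' z) (q : ℕ) {z : Y'}
    {s : gFam F h q} (hs : ∀ᶠ y in 𝓝 (k z), s y = 0) :
    ∀ᶠ w in 𝓝 z, famPull F k e q s w = 0 :=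
  pull_eventually_zero (baseHom F h' (fun z => k z) Set.univ isOpen_univ
    (fun _ _ => k.hom.continuous.continuousAt) fun z _ => e z) rfl q hs

theorem famPull_zero_apply (k : Y' ⟶ Y) (e : ∀ z, h (k z) = h' z) (s : (baseLvl F h).Fam) (z : Y') :
    (famPull F k e 0 s : (baseLvl F h').Fam) z = castHom F (e z) (s (k z)) :=
  baseHom_pull F _ _ _ s (Set.mem_univ z)

theorem iter_pull_surjective {X Z : Type u} [TopologicalSpace X] [TopologicalSpace Z] {L : Lvl X}
    {M : Lvl Z} (φ : Lvl.Hom L M) (hdom : φ.dom = Set.univ) (hf : Function.Injective φ.f)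
    (hσ : ∀ z, Function.Surjective (φ.σ z)) :
    ∀ q, Function.Surjective (φ.iter q).pull ∧ ∀ z, Function.Surjective ((φ.iter q).σ z) := by
  have key : ∀ {L : Lvl X} {M : Lvl Z} (ψ : Lvl.Hom L M), Function.Injective ψ.f →
      (∀ z, Function.Surjective (ψ.σ z)) → Function.Surjective ψ.pull := fun {L M} ψ hi hs t => by
    classical
    choose a ha using fun z => hs z (t z)
    refine ⟨fun x => if hx : ∃ z, ψ.f z = x then hx.choose_spec ▸ a hx.choose else 0,
      funext fun z => ?_⟩
    have hx : ∃ z', ψ.f z' = ψ.f z := ⟨z, rfl⟩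
    show ψ.σ z (if hx : ∃ z', ψ.f z' = ψ.f z then hx.choose_spec ▸ a hx.choose else 0) = t z
    rw [dif_pos hx]
    have aux : ∀ (z' : Z) (e : ψ.f z' = ψ.f z), ψ.σ z (e ▸ a z') = t z := fun z' e => by
      obtain rfl := hi e
      exact ha z'
    exact aux _ hx.choose_spec
  intro q
  induction q with
  | zero => exact ⟨key φ hf hσ, hσ⟩
  | succ q ih =>
    have hs : ∀ z, Function.Surjective ((φ.iter (q + 1)).σ z) := fun z c => by
      obtain ⟨r, rfl⟩ := QuotientAddGroup.mk_surjective c
      obtain ⟨s, rfl⟩ := ih.1 r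
      exact ⟨(L.iter q).cls _ s, (φ.iter q).nextσ_cls (by rw [Lvl.Hom.iter_dom, hdom]; trivial) s⟩
    exact ⟨key (φ.iter (q + 1)) (by rw [Lvl.Hom.iter_f]; exact hf) hs, hs⟩

theorem famPull_surjective (k : Y' ⟶ Y) (e : ∀ z, h (k z) = h' z)
    (hk : Function.Injective fun z => k z) (q : ℕ) : Function.Surjective (famPull F k e q) :=
  (iter_pull_surjective (baseHom F h' (fun z => k z) Set.univ isOpen_univ
    (fun _ _ => k.hom.continuous.continuousAt) fun z _ => e z) rfl hk
      (fun z b => ⟨castHom F (e z).symm b, (baseσ_eq F (e z) _).trans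
        ((castHom_castHom F _ _ _).trans rfl)⟩) q).1

end Pull

end Groth.Agent.TopDescent
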