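import Groth.Agent.CechOpenLib.ClosedPush
import Groth.Agent.ClosedEmb.Ab
import Groth.Agent.SpSeqE1.Resolution
import Groth.Agent.SpSeqLib.ExtDerived
import Mathlib.Topology.LocallyFinite

/-!
# Sections of products of sheaves and of restrictions to closed subspaces
-/

set_option linter.style.haveILetI false
set_option linter.unusedSectionVars false
set_option synthInstance.maxHeartbeats 400000

universe u

open CategoryTheory Limits Opposite TopologicalSpace

noncomputable section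

namespace Groth.Agent.TopDescent

open CohBase

variable {X : TopCat.{u}}

/-- The sections over an open of an abelian sheaf. -/
abbrev Sec (F : CohTop.Ab X) (W : Opens X) : Type u := F.obj.obj (op W)

/-- The action of morphisms on sections, additively. -/
def secHom (F F' : CohTop.Ab X) (W : Opens X) : (F ⟶ F') →+ (Sec F W →+ Sec F' W) :=
  AddMonoidHom.mk' (fun φ => (φ.hom.app (op W)).hom) fun _ _ => rfl

theorem secHom_comp {F F' F'' : CohTop.Ab X} (φ : F ⟶ F') (ψ : F' ⟶ F'') (W : Opens X)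
    (s : Sec F W) : secHom F F'' W (φ ≫ ψ) s = secHom F' F'' W ψ (secHom F F' W φ s) := rfl

theorem secHom_res {F F' : CohTop.Ab X} (φ : F ⟶ F') {W V : Opens X} (h : V ≤ W) (s : Sec F W) :
    secHom F F' V φ (res F.obj h s) = res F'.obj h (secHom F F' W φ s) :=
  (res_map φ.hom h s).symm

theorem secHom_id {F : CohTop.Ab X} (W : Opens X) (s : Sec F W) : secHom F F W (𝟙 F) s = s := rfl

/-- Morphisms agree if they agree on sections. -/
theorem hom_ext_sec {F F' : CohTop.Ab X} {φ ψ : F ⟶ F'}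
    (h : ∀ (W : Opens X) (s : Sec F W), secHom F F' W φ s = secHom F F' W ψ s) : φ = ψ := by
  ext W s
  exact h W.unop s

section Product

variable {ι : Type u} (P : ι → CohTop.Ab X)

/-- A section of a product with given components. -/
def mkSec (W : Opens X) (s : ∀ i, Sec (P i) W) : Sec (∏ᶜ P) W :=
  secEquiv W (∏ᶜ P) (Pi.lift fun i => (secEquiv W (P i)).symm (s i))

/-- The components of a section of a product. -/
abbrev comp (W : Opens X) (c : Sec (∏ᶜ P) W) (i : ι) : Sec (P i) W :=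
  secHom (∏ᶜ P) (P i) W (Pi.π P i) c

theorem comp_mkSec (W : Opens X) (s : ∀ i, Sec (P i) W) (i : ι) :
    comp P W (mkSec P W s) i = s i := by
  refine (secEquiv_comp W _ (Pi.π P i)).symm.trans ?_
  rw [Pi.lift_π, AddEquiv.apply_symm_apply]

theorem sec_ext (W : Opens X) {c c' : Sec (∏ᶜ P) W} (h : ∀ i, comp P W c i = comp P W c' i) :
    c = c' := by
  refine (secEquiv W (∏ᶜ P)).symm.injective (Pi.hom_ext _ _ fun i => ?_)
  exact (secEquiv_symm_comp W c (Pi.π P i)).trans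
    ((congrArg _ (h i)).trans (secEquiv_symm_comp W c' (Pi.π P i)).symm)

theorem comp_res {W V : Opens X} (h : V ≤ W) (c : Sec (∏ᶜ P) W) (i : ι) :
    comp P V (res (∏ᶜ P).obj h c) i = res (P i).obj h (comp P W c i) :=
  secHom_res _ h c

theorem comp_lift {F : CohTop.Ab X} (φ : ∀ i, F ⟶ P i) (W : Opens X) (s : Sec F W) (i : ι) :
    comp P W (secHom F _ W (Pi.lift φ) s) i = secHom F (P i) W (φ i) s := by
  refine (secHom_comp _ _ W s).symm.trans ?_
  rw [Pi.lift_π]

theorem comp_map {Q : ι → CohTop.Ab X} (φ : ∀ i, P i ⟶ Q i) (W : Opens X) (c : Sec (∏ᶜ P) W)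
    (i : ι) : comp Q W (secHom _ _ W (Limits.Pi.map φ) c) i = secHom _ _ W (φ i) (comp P W c i) := by
  refine (secHom_comp _ _ W c).symm.trans (Eq.trans ?_ (secHom_comp _ _ W c))
  rw [Limits.Pi.map_π]

end Product

/-- A finite family of conditions which hold near a point holds simultaneously near it. -/
theorem exists_nhd_finite {κ : Type*} {S : Set κ} (hS : S.Finite) {x : X} {W : Opens X} (hx : x ∈ W)
    (p : κ → ∀ V : Opens X, Prop) (hp : ∀ k V V', V' ≤ V → p k V → p k V')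
    (h : ∀ k ∈ S, ∃ V : Opens X, x ∈ V ∧ p k V) :
    ∃ V : Opens X, V ≤ W ∧ x ∈ V ∧ ∀ k ∈ S, p k V := by
  induction S, hS using Set.Finite.induction_on with
  | empty => exact ⟨W, le_rfl, hx, fun k hk => hk.elim⟩
  | @insert a s _ _ ih =>
    obtain ⟨V, hVW, hxV, hV⟩ := ih fun k hk => h k (Set.mem_insert_of_mem _ hk)
    obtain ⟨V', hxV', hV'⟩ := h a (Set.mem_insert _ _)
    refine ⟨V ⊓ V', inf_le_left.trans hVW, ⟨hxV, hxV'⟩, fun k hk => ?_⟩
    rcases hk with rfl | hk
    · exact hp _ _ _ inf_le_right hV'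
    · exact hp _ _ _ inf_le_left (hV k hk)

theorem exists_local_of_exact {S : ShortComplex (CohTop.Ab X)} (hS : S.Exact) {W : Opens X}
    (s : Sec S.X₂ W) (h : secHom _ _ W S.g s = 0) {x : X} (hx : x ∈ W) :
    ∃ (V : Opens X) (hVW : V ≤ W), x ∈ V ∧
      ∃ t, secHom _ _ V S.f t = res S.X₂.obj hVW s := by
  haveI : Epi (kernel.lift S.g S.f S.zero) := S.exact_iff_epi_kernel_lift.1 hS
  have h0 : (secEquiv W S.X₂).symm s ≫ S.g = 0 := by
    refine (secEquiv_symm_comp W s S.g).trans ?_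
    exact (congrArg _ h).trans (map_zero _)
  let k : Sec (kernel S.g) W := secEquiv W _ (kernel.lift _ _ h0)
  have hk : secHom _ _ W (kernel.ι S.g) k = s :=
    (secEquiv_comp W _ (kernel.ι S.g)).symm.trans
      ((congrArg _ (kernel.lift_ι _ _ _)).trans (AddEquiv.apply_symm_apply _ _))
  haveI : Sheaf.IsLocallySurjective (kernel.lift S.g S.f S.zero) :=
    (Sheaf.isLocallySurjective_iff_epi' AddCommGrpCat.{u} _).mpr inferInstance
  obtain ⟨V, j, ⟨t, ht⟩, hxV⟩ := Presheaf.imageSieve_mem (Opens.grothendieckTopology X)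
    (kernel.lift S.g S.f S.zero).hom (U := op W) k x hx
  refine ⟨V, leOfHom j, hxV, t, ?_⟩
  refine Eq.trans ?_ ((congrArg (secHom _ _ V (kernel.ι S.g)) ht).trans
    ((secHom_res (kernel.ι S.g) (leOfHom j) k).trans (congrArg _ hk)))
  exact congrArg (fun φ => secHom _ _ V φ t) (kernel.lift_ι S.g S.f S.zero).symm

theorem eq_zero_of_germ {F : CohTop.Ab X} {W : Opens X} (a : Sec F W) {x : X} (hx : x ∈ W)
    (h : TopCat.Presheaf.germ (C := AddCommGrpCat.{u}) (X := X) F.obj W x hx a = 0) :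
    ∃ (V : Opens X) (hVW : V ≤ W), x ∈ V ∧ res F.obj hVW a = 0 := by
  obtain ⟨V, hxV, iU, iV, e⟩ := TopCat.Presheaf.germ_eq (C := AddCommGrpCat.{u}) (X := X) F.obj x
    hx hx a 0 (h.trans (map_zero _).symm)
  exact ⟨V, leOfHom iU, hxV, e.trans (map_zero _)⟩

theorem eq_zero_of_locally {F : CohTop.Ab X} {W : Opens X} (a : Sec F W)
    (h : ∀ x ∈ W, ∃ (V : Opens X) (hVW : V ≤ W), x ∈ V ∧ res F.obj hVW a = 0) : a = 0 := by
  choose V hVW hxV hV using h
  refine CohBase.sheaf_ext F (κ := W) (V := fun x => V x.1 x.2) (fun x => hVW x.1 x.2)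
    (fun x hx => Opens.mem_iSup.2 ⟨⟨x, hx⟩, hxV x hx⟩) fun x => ?_
  rw [hV, map_zero]

section Closed

/-- The inclusion of a subset. -/
abbrev incl (Z : Set X) : TopCat.of Z ⟶ X :=
  TopCat.ofHom ⟨((↑) : Z → X), continuous_subtype_val⟩

variable (F : CohTop.Ab X) (Z : Set X)

/-- A sheaf restricted to a subspace, seen on the whole space. -/
abbrev P : CohTop.Ab X := (CohTop.push (incl Z)).obj ((CohTop.pull (incl Z)).obj F)

/-- The restriction map. -/
def η : F ⟶ P F Z :=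
  (TopCat.Sheaf.pullbackPushforwardAdjunction AddCommGrpCat.{u} (incl Z)).unit.app F

variable {Z}

theorem incl_closedEmbedding (hZ : IsClosed Z) : Topology.IsClosedEmbedding (incl (X := X) Z) :=
  hZ.isClosedEmbedding_subtypeVal

theorem push_sec_eq_zero (G : CohTop.Ab (TopCat.of Z)) {W : Opens X}
    (h : Disjoint (W : Set X) Z) (s : Sec ((CohTop.push (incl Z)).obj G) W) : s = 0 :=
  CechOpenLib.subsingleton_sections_bot G (W := pre (incl Z) W)
    (eq_bot_iff.2 fun z hz => Set.disjoint_left.1 h hz z.2) s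

set_option backward.isDefEq.respectTransparency false in
set_option backward.isDefEq.respectTransparency.types false in
theorem isIso_stalk_η' (hZ : IsClosed Z) (z : TopCat.of Z) :
    IsIso ((ClosedEmb.stalkF ((incl (X := X) Z) z)).map (η F Z)) := by
  let i := incl (X := X) Z
  let A := TopCat.Sheaf.pullbackPushforwardAdjunction AddCommGrpCat.{u} i
  haveI := ClosedEmb.isIso_counitAb (incl_closedEmbedding hZ)
  haveI : IsIso (𝟙 ((CohTop.pull i).obj F)) := inferInstance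
  haveI : IsIso ((CohTop.pull i).map (A.unit.app F)) :=
    IsIso.of_isIso_fac_right (A.left_triangle_components F)
  haveI : IsIso ((CohTop.pull i ⋙ ClosedEmb.stalkF z).map (A.unit.app F)) :=
    Functor.map_isIso (ClosedEmb.stalkF z) ((CohTop.pull i).map (A.unit.app F))
  exact (NatIso.isIso_map_iff (ClosedEmb.pullStalkIso i z) (A.unit.app F)).1 inferInstance

theorem isIso_stalk_η (hZ : IsClosed Z) {x : X} (hx : x ∈ Z) :
    IsIso ((ClosedEmb.stalkF x).map (η F Z)) :=
  isIso_stalk_η' F hZ (⟨x, hx⟩ : TopCat.of Z)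

theorem η_eq_zero (hZ : IsClosed Z) {W : Opens X} (a : Sec F W)
    (h : secHom _ _ W (η F Z) a = 0) {x : X} (hx : x ∈ W) (hxZ : x ∈ Z) :
    ∃ (V : Opens X) (hVW : V ≤ W), x ∈ V ∧ res F.obj hVW a = 0 := by
  haveI := isIso_stalk_η F hZ hxZ
  refine eq_zero_of_germ a hx ((AddCommGrpCat.mono_iff_injective
    ((ClosedEmb.stalkF x).map (η F Z))).1 inferInstance ?_)
  refine (TopCat.Presheaf.stalkFunctor_map_germ_apply W x hx (η F Z).hom a).trans ?_
  exact ((congrArg _ h).trans (map_zero _)).trans (map_zero _).symm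

theorem η_surjective (hZ : IsClosed Z) {W : Opens X} (c : Sec (P F Z) W) {x : X} (hx : x ∈ W) :
    ∃ (V : Opens X) (hVW : V ≤ W), x ∈ V ∧ ∃ a, secHom _ _ V (η F Z) a = res (P F Z).obj hVW c := by
  by_cases hxZ : x ∈ Z
  · haveI := isIso_stalk_η F hZ hxZ
    obtain ⟨g, hg⟩ := (AddCommGrpCat.epi_iff_surjective
      ((ClosedEmb.stalkF x).map (η F Z))).1 inferInstance
      (TopCat.Presheaf.germ (C := AddCommGrpCat.{u}) (X := X) (P F Z).obj W x hx c)
    obtain ⟨U, hU, a, rfl⟩ := TopCat.Presheaf.exists_germ_eq _ g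
    have e := (TopCat.Presheaf.stalkFunctor_map_germ_apply U x hU (η F Z).hom a).symm.trans hg
    obtain ⟨V, hxV, iU, iW, hV⟩ := TopCat.Presheaf.germ_eq (C := AddCommGrpCat.{u}) (X := X)
      (P F Z).obj x hU hx _ c e
    exact ⟨V, leOfHom iW, hxV, res F.obj (leOfHom iU) a,
      (secHom_res (η F Z) (leOfHom iU) a).trans hV⟩
  · exact ⟨W ⊓ ⟨Zᶜ, hZ.isOpen_compl⟩, inf_le_left, ⟨hx, hxZ⟩, 0,
      (map_zero _).trans (push_sec_eq_zero _ (Set.disjoint_left.2 fun y (hy : y ∈ W ⊓ ⟨Zᶜ, hZ.isOpen_compl⟩) => hy.2) _).symm⟩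

theorem epi_η (hZ : IsClosed Z) : Epi (η F Z) :=
  epi_of_local _ fun W c x hx => η_surjective F hZ c hx

variable {F}

theorem η_map_zero {Z' : Set X} (hZ : IsClosed Z) (hZ' : IsClosed Z') (h : Z' ⊆ Z) :
    kernel.ι (η F Z) ≫ η F Z' = 0 := by
  refine hom_ext_sec fun W s => ?_
  refine (eq_zero_of_locally _ fun x hx => ?_).trans (by rw [map_zero]; rfl)
  have h0 : secHom _ _ W (η F Z) (secHom _ _ W (kernel.ι (η F Z)) s) = 0 := by
    rw [← secHom_comp, kernel.condition, map_zero]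
    rfl
  by_cases hxZ : x ∈ Z'
  · obtain ⟨V, hVW, hxV, hV⟩ := η_eq_zero F hZ _ h0 hx (h hxZ)
    refine ⟨V, hVW, hxV, ?_⟩
    rw [secHom_comp, ← secHom_res, hV, map_zero]
  · exact ⟨W ⊓ ⟨Z'ᶜ, hZ'.isOpen_compl⟩, inf_le_left, ⟨hx, hxZ⟩,
      push_sec_eq_zero _ (Set.disjoint_left.2 fun y (hy : y ∈ W ⊓ ⟨Z'ᶜ, hZ'.isOpen_compl⟩) => hy.2) _⟩

variable (F)

/-- The restriction map between restrictions to closed subsets. -/
def r {Z' : Set X} (hZ : IsClosed Z) (hZ' : IsClosed Z') (h : Z' ⊆ Z) : P F Z ⟶ P F Z' :=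
  haveI := epi_η F hZ
  Abelian.epiDesc (η F Z) (η F Z') (η_map_zero hZ hZ' h)

@[reassoc]
theorem η_r {Z' : Set X} (hZ : IsClosed Z) (hZ' : IsClosed Z') (h : Z' ⊆ Z) :
    η F Z ≫ r F hZ hZ' h = η F Z' := by
  haveI := epi_η F hZ
  exact Abelian.comp_epiDesc _ _ _

theorem r_self (hZ : IsClosed Z) : r F hZ hZ (subset_refl Z) = 𝟙 _ := by
  haveI := epi_η F hZ
  rw [← cancel_epi (η F Z), η_r, Category.comp_id]

theorem r_r {Z' Z'' : Set X} (hZ : IsClosed Z) (hZ' : IsClosed Z') (hZ'' : IsClosed Z'')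
    (h : Z' ⊆ Z) (h' : Z'' ⊆ Z') :
    r F hZ hZ' h ≫ r F hZ' hZ'' h' = r F hZ hZ'' (h'.trans h) := by
  haveI := epi_η F hZ
  rw [← cancel_epi (η F Z), η_r_assoc, η_r, η_r]

end Closed

end Groth.Agent.TopDescent
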