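import Mathlib.Topology.Neighborhoods
import Mathlib.Algebra.Category.Grp.Basic
import Mathlib.Topology.ContinuousOn
import Mathlib.GroupTheory.QuotientGroup.Basic
import Mathlib.Topology.Category.TopCat.Basic

/-!
# Etale spaces of abelian groups and their functorial discontinuous resolution

A `Lvl` on a space is an abelian sheaf given by its stalks and by the germs of families which are
sections near a point. The next level is the cokernel of the embedding in all families, as in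
Godement's resolution; everything is functorial in partially defined continuous maps.
-/

set_option linter.style.haveILetI false

universe u

open CategoryTheory Topology Filter

noncomputable section

namespace Groth.Agent.TopDescent

/-- An etale space of abelian groups. -/
structure Lvl (Y : Type u) [TopologicalSpace Y] where
  /-- The stalks. -/
  A : Y → AddCommGrpCat.{u}
  /-- The families which are sections near a point. -/
  N : ∀ y : Y, AddSubgroup (∀ z : Y, A z)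
  congr : ∀ (y : Y) (s t : ∀ z : Y, A z), (∀ᶠ z in 𝓝 y, s z = t z) → s ∈ N y → t ∈ N y
  loc : ∀ (y : Y) (s : ∀ z : Y, A z), s ∈ N y → ∀ᶠ z in 𝓝 y, s ∈ N z
  eventually_zero : ∀ (y : Y) (s : ∀ z : Y, A z), s ∈ N y → s y = 0 → ∀ᶠ z in 𝓝 y, s z = 0
  surj : ∀ (y : Y) (a : A y), ∃ s ∈ N y, s y = a

namespace Lvl

variable {Y Y' Y'' : Type u} [TopologicalSpace Y] [TopologicalSpace Y'] [TopologicalSpace Y'']

/-- All families. -/
abbrev Fam (L : Lvl Y) : Type u := ∀ z : Y, L.A z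

variable (L : Lvl Y)

/-- The class of a family at a point. -/
abbrev cls (y : Y) (s : L.Fam) : L.Fam ⧸ L.N y := QuotientAddGroup.mk s

theorem cls_eq_zero {y : Y} {s : L.Fam} : L.cls y s = 0 ↔ s ∈ L.N y :=
  QuotientAddGroup.eq_zero_iff _

theorem cls_eq_iff {y : Y} {s t : L.Fam} : L.cls y s = L.cls y t ↔ s - t ∈ L.N y := by
  rw [← cls_eq_zero, show L.cls y (s - t) = L.cls y s - L.cls y t from rfl, sub_eq_zero]

theorem cls_congr {y : Y} {s t : L.Fam} (h : ∀ᶠ z in 𝓝 y, s z = t z) : L.cls y s = L.cls y t :=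
  L.cls_eq_iff.2 (L.congr y 0 _ (h.mono fun z hz => (sub_eq_zero.2 hz).symm) (L.N y).zero_mem)

/-- The next level: families modulo sections. -/
def next : Lvl Y where
  A y := AddCommGrpCat.of (L.Fam ⧸ L.N y)
  N y :=
    { carrier := {t | ∃ s : L.Fam, ∀ᶠ z in 𝓝 y, t z = L.cls z s}
      zero_mem' := ⟨0, Eventually.of_forall fun z => rfl⟩
      add_mem' := fun {a b} ⟨s, hs⟩ ⟨s', hs'⟩ => ⟨s + s', (hs.and hs').mono fun z hz => by
        show a z + b z = _
        rw [hz.1, hz.2]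
        rfl⟩
      neg_mem' := fun {a} ⟨s, hs⟩ => ⟨-s, hs.mono fun z hz => by
        show -a z = _
        rw [hz]
        rfl⟩ }
  congr _ _ _ h := fun ⟨r, hr⟩ => ⟨r, (h.and hr).mono fun _ hz => hz.1.symm.trans hz.2⟩
  loc _ _ := fun ⟨r, hr⟩ => hr.eventually_nhds.mono fun _ hz => ⟨r, hz⟩
  eventually_zero y t := fun ⟨r, hr⟩ h0 => by
    have hy : r ∈ L.N y := L.cls_eq_zero.1 ((hr.self_of_nhds).symm.trans h0)
    exact (hr.and (L.loc y r hy)).mono fun z hz => hz.1.trans (L.cls_eq_zero.2 hz.2)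
  surj y a := by
    obtain ⟨r, rfl⟩ := QuotientAddGroup.mk_surjective a
    exact ⟨fun z => L.cls z r, ⟨r, Eventually.of_forall fun z => rfl⟩, rfl⟩

/-- The differential. -/
def d : L.Fam →+ L.next.Fam :=
  AddMonoidHom.mk' (fun s y => L.cls y s) fun _ _ => rfl

theorem d_eq_zero_iff (s : L.Fam) : L.d s = 0 ↔ ∀ y, s ∈ L.N y :=
  ⟨fun h y => L.cls_eq_zero.1 (congrFun h y), fun h => funext fun y => L.cls_eq_zero.2 (h y)⟩

theorem d_mem (s : L.Fam) (y : Y) : L.d s ∈ L.next.N y :=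
  ⟨s, Eventually.of_forall fun _ => rfl⟩

theorem d_d (s : L.Fam) : L.next.d (L.d s) = 0 :=
  (L.next.d_eq_zero_iff _).2 (L.d_mem s)

/-- The iterated levels. -/
def iter : ℕ → Lvl Y
  | 0 => L
  | q + 1 => (iter q).next

theorem eq_transport {B : Y → Type u} {y y' : Y} (e : y = y') (P : ∀ y, B y → Prop)
    (t : ∀ y, B y) (h : P y (t y)) : P y' (t y') := e ▸ h

/-- A map of etale spaces along a partially defined continuous map. -/
structure Hom (L : Lvl Y) (L' : Lvl Y') where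
  /-- The map of points. -/
  f : Y' → Y
  /-- Where it is defined. -/
  dom : Set Y'
  isOpen_dom : IsOpen dom
  cont : ∀ z ∈ dom, ContinuousAt f z
  /-- The maps of stalks. -/
  σ : ∀ z, L.A (f z) →+ L'.A z
  nat : ∀ z ∈ dom, ∀ s : L.Fam, s ∈ L.N (f z) → (fun w => σ w (s (f w))) ∈ L'.N z

variable {L} {L' : Lvl Y'} {L'' : Lvl Y''}

/-- The inverse image of families. -/
def Hom.pull (φ : Hom L L') : L.Fam →+ L'.Fam :=
  AddMonoidHom.mk' (fun s w => φ.σ w (s (φ.f w))) fun s t => funext fun w => map_add (φ.σ w) _ _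

theorem Hom.pull_apply (φ : Hom L L') (s : L.Fam) (w : Y') : φ.pull s w = φ.σ w (s (φ.f w)) := rfl

theorem Hom.le_comap (φ : Hom L L') {z : Y'} (hz : z ∈ φ.dom) :
    L.N (φ.f z) ≤ AddSubgroup.comap φ.pull (L'.N z) := fun s hs => φ.nat z hz s hs

open Classical in
/-- The induced map on the stalks of the next levels. -/
def Hom.nextσ (φ : Hom L L') (z : Y') : L.next.A (φ.f z) →+ L'.next.A z :=
  if h : z ∈ φ.dom then QuotientAddGroup.map (L.N (φ.f z)) (L'.N z) φ.pull (φ.le_comap h) else 0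

theorem Hom.nextσ_cls (φ : Hom L L') {z : Y'} (hz : z ∈ φ.dom) (r : L.Fam) :
    φ.nextσ z (L.cls (φ.f z) r) = L'.cls z (φ.pull r) := by
  unfold Hom.nextσ
  exact (congrArg (fun g : L.next.A (φ.f z) →+ L'.next.A z => g (L.cls (φ.f z) r))
    (dif_pos hz)).trans rfl

/-- The induced map on the next levels. -/
def Hom.next (φ : Hom L L') : Hom L.next L'.next where
  f := φ.f
  dom := φ.dom
  isOpen_dom := φ.isOpen_dom
  cont := φ.cont
  σ := φ.nextσ
  nat z hz t := fun ⟨r, hr⟩ => ⟨φ.pull r, by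
    filter_upwards [(φ.cont z hz).tendsto.eventually hr, φ.isOpen_dom.mem_nhds hz] with w hw hwd
    exact (congrArg _ hw).trans (φ.nextσ_cls hwd r)⟩

theorem Hom.next_pull (φ : Hom L L') (t : L.next.Fam) {z : Y'} (hz : z ∈ φ.dom) (r : L.Fam)
    (hr : t (φ.f z) = L.cls (φ.f z) r) : φ.next.pull t z = L'.cls z (φ.pull r) :=
  (congrArg (φ.nextσ z) hr).trans (φ.nextσ_cls hz r)

theorem Hom.next_pull_d (φ : Hom L L') (s : L.Fam) {z : Y'} (hz : z ∈ φ.dom) :
    φ.next.pull (L.d s) z = L'.d (φ.pull s) z :=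
  φ.next_pull _ hz s rfl

/-- The induced map on all levels. -/
def Hom.iter (φ : Hom L L') : ∀ q, Hom (L.iter q) (L'.iter q)
  | 0 => φ
  | q + 1 => (Hom.iter φ q).next

@[simp] theorem Hom.iter_dom (φ : Hom L L') : ∀ q, (φ.iter q).dom = φ.dom
  | 0 => rfl
  | q + 1 => Hom.iter_dom φ q

@[simp] theorem Hom.iter_f (φ : Hom L L') : ∀ q, (φ.iter q).f = φ.f
  | 0 => rfl
  | q + 1 => Hom.iter_f φ q

/-- The composition. -/
def Hom.comp (φ : Hom L L') (ψ : Hom L' L'') : Hom L L'' where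
  f := φ.f ∘ ψ.f
  dom := ψ.dom ∩ ψ.f ⁻¹' φ.dom
  isOpen_dom := isOpen_iff_mem_nhds.2 fun z hz =>
    Filter.inter_mem (ψ.isOpen_dom.mem_nhds hz.1)
      ((ψ.cont z hz.1).preimage_mem_nhds (φ.isOpen_dom.mem_nhds hz.2))
  cont z hz := (φ.cont _ hz.2).comp (ψ.cont z hz.1)
  σ z := (ψ.σ z).comp (φ.σ (ψ.f z))
  nat z hz s hs := ψ.nat z hz.1 _ (φ.nat _ hz.2 s hs)

theorem Hom.comp_pull (φ : Hom L L') (ψ : Hom L' L'') (s : L.Fam) :
    (φ.comp ψ).pull s = ψ.pull (φ.pull s) := rfl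

variable (L) in
/-- The identity. -/
def Hom.id : Hom L L where
  f := fun z => z
  dom := Set.univ
  isOpen_dom := isOpen_univ
  cont _ _ := continuousAt_id
  σ _ := AddMonoidHom.id _
  nat _ _ _ hs := hs

theorem Hom.id_pull (s : L.Fam) : (Hom.id L).pull s = s := rfl

/-- Two maps agree on a set. -/
structure Agree (φ ψ : Hom L L') (W : Set Y') : Prop where
  isOpen : IsOpen W
  subset_left : W ⊆ φ.dom
  subset_right : W ⊆ ψ.dom
  eq_f : ∀ z ∈ W, φ.f z = ψ.f z
  eq_pull : ∀ (s : L.Fam), ∀ z ∈ W, φ.pull s z = ψ.pull s z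

theorem Agree.symm {φ ψ : Hom L L'} {W : Set Y'} (h : Agree φ ψ W) : Agree ψ φ W :=
  ⟨h.isOpen, h.subset_right, h.subset_left, fun z hz => (h.eq_f z hz).symm,
    fun s z hz => (h.eq_pull s z hz).symm⟩

theorem Agree.trans {φ ψ χ : Hom L L'} {W : Set Y'} (h : Agree φ ψ W) (h' : Agree ψ χ W) :
    Agree φ χ W :=
  ⟨h.isOpen, h.subset_left, h'.subset_right, fun z hz => (h.eq_f z hz).trans (h'.eq_f z hz),
    fun s z hz => (h.eq_pull s z hz).trans (h'.eq_pull s z hz)⟩

theorem exists_rep (t : L.next.Fam) {y y' : Y} (e : y = y') :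
    ∃ r : L.Fam, t y = L.cls y r ∧ t y' = L.cls y' r := by
  obtain ⟨r, hr⟩ := QuotientAddGroup.mk_surjective (t y)
  exact ⟨r, hr.symm,
    eq_transport (B := fun y => L.next.A y) e (fun z v => v = L.cls z r) t hr.symm⟩

theorem Agree.next {φ ψ : Hom L L'} {W : Set Y'} (h : Agree φ ψ W) :
    Agree φ.next ψ.next W := by
  refine ⟨h.isOpen, h.subset_left, h.subset_right, h.eq_f, fun t z hz => ?_⟩
  obtain ⟨r, h₁, h₂⟩ := exists_rep t (h.eq_f z hz)
  rw [φ.next_pull t (h.subset_left hz) r h₁, ψ.next_pull t (h.subset_right hz) r h₂]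
  exact L'.cls_congr (Filter.eventually_of_mem (h.isOpen.mem_nhds hz) fun w hw => h.eq_pull r w hw)

theorem Agree.iter {φ ψ : Hom L L'} {W : Set Y'} (h : Agree φ ψ W) :
    ∀ q, Agree (φ.iter q) (ψ.iter q) W
  | 0 => h
  | q + 1 => (Agree.iter h q).next

theorem agree_next_comp (φ : Hom L L') (ψ : Hom L' L'') :
    Agree (φ.comp ψ).next (φ.next.comp ψ.next) (φ.comp ψ).dom := by
  refine ⟨(φ.comp ψ).isOpen_dom, subset_rfl, subset_rfl, fun _ _ => rfl, fun t z hz => ?_⟩
  obtain ⟨r, hr⟩ := QuotientAddGroup.mk_surjective (t (φ.f (ψ.f z)))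
  rw [(φ.comp ψ).next_pull t hz r hr.symm, Hom.comp_pull, Hom.comp_pull,
    ψ.next_pull (φ.next.pull t) hz.1 (φ.pull r) (φ.next_pull t hz.2 r hr.symm)]

theorem agree_next_id : Agree (Hom.id L).next (Hom.id L.next) Set.univ := by
  refine ⟨isOpen_univ, subset_rfl, subset_rfl, fun _ _ => rfl, fun t z hz => ?_⟩
  obtain ⟨r, hr⟩ := QuotientAddGroup.mk_surjective (t z)
  rw [(Hom.id L).next_pull t hz r hr.symm, Hom.id_pull, Hom.id_pull]
  exact hr

theorem agree_iter_comp (φ : Hom L L') (ψ : Hom L' L'') :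
    ∀ q, Agree ((φ.comp ψ).iter q) ((φ.iter q).comp (ψ.iter q)) (φ.comp ψ).dom
  | 0 => ⟨(φ.comp ψ).isOpen_dom, subset_rfl, subset_rfl, fun _ _ => rfl, fun _ _ _ => rfl⟩
  | q + 1 => by
    have h := agree_iter_comp φ ψ q
    refine h.next.trans ?_
    have h' := agree_next_comp (φ.iter q) (ψ.iter q)
    have hd : ((φ.iter q).comp (ψ.iter q)).dom = (φ.comp ψ).dom := by
      show (ψ.iter q).dom ∩ (ψ.iter q).f ⁻¹' (φ.iter q).dom = _
      rw [Hom.iter_dom, Hom.iter_dom, Hom.iter_f]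
      rfl
    rwa [hd] at h'

theorem agree_iter_id : ∀ q, Agree ((Hom.id L).iter q) (Hom.id (L.iter q)) Set.univ
  | 0 => ⟨isOpen_univ, subset_rfl, subset_rfl, fun _ _ => rfl, fun _ _ _ => rfl⟩
  | q + 1 => (agree_iter_id q).next.trans agree_next_id

end Lvl

end Groth.Agent.TopDescent
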