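import Groth.Agent.TopDescent.Lvl
import Groth.Agent.CohTopEasy.Basic
import Groth.Agent.SpSeqE1.Bicomplex

/-!
# The sheaf of an etale space and the complex computing its cohomology
-/

set_option linter.style.haveILetI false
set_option linter.unusedSectionVars false
set_option synthInstance.maxHeartbeats 400000

universe u

open CategoryTheory Limits Opposite TopologicalSpace Topology Filter Abelian

noncomputable section

namespace Groth.Agent.TopDescent

open CohBase

namespace Lvl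

variable {Y : TopCat.{u}} (L : Lvl (Y : Type u))

open Classical in
/-- Extension by zero outside an open. -/
def cut (W : Opens Y) : L.Fam →+ L.Fam :=
  AddMonoidHom.mk' (fun s z => if z ∈ W then s z else 0) fun a b => funext fun z => by
    by_cases h : z ∈ W <;> simp [h]

theorem cut_of_mem {W : Opens Y} {z : Y} (h : z ∈ W) (s : L.Fam) : L.cut W s z = s z := by
  simp [cut, h]

theorem cut_of_notMem {W : Opens Y} {z : Y} (h : z ∉ W) (s : L.Fam) : L.cut W s z = 0 := by
  simp [cut, h]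

theorem cut_eventually {W : Opens Y} {z : Y} (h : z ∈ W) (s : L.Fam) :
    ∀ᶠ w in 𝓝 z, L.cut W s w = s w :=
  Filter.eventually_of_mem (W.2.mem_nhds h) fun _ hw => L.cut_of_mem hw s

/-- The families over an open. -/
def godSub (W : Opens Y) : AddSubgroup L.Fam where
  carrier := {s | ∀ z ∉ W, s z = 0}
  zero_mem' := fun _ _ => rfl
  add_mem' := fun {a b} ha hb z hz => by
    show a z + b z = 0
    rw [ha z hz, hb z hz, add_zero]
  neg_mem' := fun {a} ha z hz => by
    show -a z = 0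
    rw [ha z hz, neg_zero]

/-- The sections over an open. -/
def secSub (W : Opens Y) : AddSubgroup L.Fam where
  carrier := {s | s ∈ L.godSub W ∧ ∀ z ∈ W, s ∈ L.N z}
  zero_mem' := ⟨(L.godSub W).zero_mem, fun z _ => (L.N z).zero_mem⟩
  add_mem' := fun {a b} ha hb => ⟨add_mem ha.1 hb.1, fun z hz => add_mem (ha.2 z hz) (hb.2 z hz)⟩
  neg_mem' := fun {a} ha => ⟨neg_mem ha.1, fun z hz => neg_mem (ha.2 z hz)⟩

theorem cut_mem_godSub (W : Opens Y) (s : L.Fam) : L.cut W s ∈ L.godSub W :=
  fun _ hz => L.cut_of_notMem hz s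

theorem cut_mem_secSub {W W' : Opens Y} (h : W' ≤ W) {s : L.Fam} (hs : s ∈ L.secSub W) :
    L.cut W' s ∈ L.secSub W' :=
  ⟨L.cut_mem_godSub W' s, fun z hz => L.congr z s _
    ((L.cut_eventually hz s).mono fun _ hw => hw.symm) (hs.2 z (h hz))⟩

theorem cut_self {W : Opens Y} {s : L.Fam} (hs : s ∈ L.godSub W) : L.cut W s = s :=
  funext fun z => by
    by_cases h : z ∈ W
    · exact L.cut_of_mem h s
    · rw [L.cut_of_notMem h, hs z h]

theorem cut_cut {W W' : Opens Y} (h : W' ≤ W) (s : L.Fam) : L.cut W' (L.cut W s) = L.cut W' s :=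
  funext fun z => by
    by_cases hz : z ∈ W'
    · rw [L.cut_of_mem hz, L.cut_of_mem (h hz), L.cut_of_mem hz]
    · rw [L.cut_of_notMem hz, L.cut_of_notMem hz]

/-- The presheaf of all families. -/
def godPre : TopCat.Presheaf AddCommGrpCat.{u} Y where
  obj W := AddCommGrpCat.of (L.godSub W.unop)
  map {V W} _ := AddCommGrpCat.ofHom
    (((L.cut W.unop).comp (L.godSub V.unop).subtype).codRestrict _ fun s => L.cut_mem_godSub _ _)
  map_id W := AddCommGrpCat.hom_ext (AddMonoidHom.ext fun (s : L.godSub W.unop) =>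
    Subtype.ext (L.cut_self s.2))
  map_comp {U V W} f g := AddCommGrpCat.hom_ext (AddMonoidHom.ext fun (s : L.godSub U.unop) =>
    Subtype.ext (L.cut_cut (leOfHom g.unop) s.1).symm)

/-- The presheaf of sections. -/
def secPre : TopCat.Presheaf AddCommGrpCat.{u} Y where
  obj W := AddCommGrpCat.of (L.secSub W.unop)
  map {V W} f := AddCommGrpCat.ofHom
    (((L.cut W.unop).comp (L.secSub V.unop).subtype).codRestrict _
      fun s => L.cut_mem_secSub (leOfHom f.unop) s.2)
  map_id W := AddCommGrpCat.hom_ext (AddMonoidHom.ext fun (s : L.secSub W.unop) =>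
    Subtype.ext (L.cut_self s.2.1))
  map_comp {U V W} f g := AddCommGrpCat.hom_ext (AddMonoidHom.ext fun (s : L.secSub U.unop) =>
    Subtype.ext (L.cut_cut (leOfHom g.unop) s.1).symm)

theorem exists_glue {κ : Type u} (V : κ → Opens Y) (s : κ → L.Fam)
    (h : ∀ a b z, z ∈ V a → z ∈ V b → s a z = s b z) :
    ∃ t ∈ L.godSub (iSup V), ∀ a z, z ∈ V a → t z = s a z := by
  classical
  refine ⟨fun z => if hz : ∃ a, z ∈ V a then s hz.choose z else 0, fun z hz => ?_, fun a z hz => ?_⟩
  · exact dif_neg fun ⟨a, ha⟩ => hz (Opens.mem_iSup.2 ⟨a, ha⟩)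
  · have h' : ∃ a, z ∈ V a := ⟨a, hz⟩
    show (if hz : ∃ a, z ∈ V a then s hz.choose z else 0) = _
    rw [dif_pos h']
    exact h _ a z h'.choose_spec hz

theorem godPre_isSheaf : L.godPre.IsSheaf := by
  rw [TopCat.Presheaf.isSheaf_iff_isSheafUniqueGluing]
  intro κ V sf hsf
  obtain ⟨t, ht, ht'⟩ := L.exists_glue V (fun a => (sf a : L.godSub (V a)).1) fun a b z ha hb =>
    (L.cut_of_mem (⟨ha, hb⟩ : z ∈ V a ⊓ V b) _).symm.trans
      ((congrFun (congrArg Subtype.val (hsf a b)) z).trans (L.cut_of_mem (⟨ha, hb⟩ : z ∈ V a ⊓ V b) _))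
  refine ⟨⟨t, ht⟩, fun a => Subtype.ext (funext fun z => ?_), fun t' ht'' => ?_⟩
  · show L.cut (V a) t z = _
    by_cases hz : z ∈ V a
    · rw [L.cut_of_mem hz, ht' a z hz]
    · rw [L.cut_of_notMem hz]
      exact ((sf a : L.godSub (V a)).2 z hz).symm
  · refine Subtype.ext (funext fun z => ?_)
    by_cases hz : z ∈ iSup V
    · obtain ⟨a, ha⟩ := Opens.mem_iSup.1 hz
      refine Eq.trans ?_ (ht' a z ha).symm
      exact (L.cut_of_mem ha _).symm.trans (congrFun (congrArg Subtype.val (ht'' a)) z)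
    · exact ((t' : L.godSub (iSup V)).2 z hz).trans (ht z hz).symm

theorem secPre_isSheaf : L.secPre.IsSheaf := by
  rw [TopCat.Presheaf.isSheaf_iff_isSheafUniqueGluing]
  intro κ V sf hsf
  obtain ⟨t, ht, ht'⟩ := L.exists_glue V (fun a => (sf a : L.secSub (V a)).1) fun a b z ha hb =>
    (L.cut_of_mem (⟨ha, hb⟩ : z ∈ V a ⊓ V b) _).symm.trans
      ((congrFun (congrArg Subtype.val (hsf a b)) z).trans (L.cut_of_mem (⟨ha, hb⟩ : z ∈ V a ⊓ V b) _))
  refine ⟨⟨t, ht, fun z hz => ?_⟩, fun a => Subtype.ext (funext fun z => ?_), fun t' ht'' => ?_⟩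
  · obtain ⟨a, ha⟩ := Opens.mem_iSup.1 hz
    exact L.congr z _ t (Filter.eventually_of_mem ((V a).2.mem_nhds ha) fun w hw => (ht' a w hw).symm)
      ((sf a : L.secSub (V a)).2.2 z ha)
  · show L.cut (V a) t z = _
    by_cases hz : z ∈ V a
    · rw [L.cut_of_mem hz, ht' a z hz]
    · rw [L.cut_of_notMem hz]
      exact ((sf a : L.secSub (V a)).2.1 z hz).symm
  · refine Subtype.ext (funext fun z => ?_)
    by_cases hz : z ∈ iSup V
    · obtain ⟨a, ha⟩ := Opens.mem_iSup.1 hz
      refine Eq.trans ?_ (ht' a z ha).symm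
      exact (L.cut_of_mem ha _).symm.trans (congrFun (congrArg Subtype.val (ht'' a)) z)
    · exact ((t' : L.secSub (iSup V)).2.1 z hz).trans (ht z hz).symm

/-- The sheaf of an etale space. -/
def shf : CohTop.Ab Y := ⟨L.secPre, L.secPre_isSheaf⟩

/-- The sheaf of all families. -/
def god : CohTop.Ab Y := ⟨L.godPre, L.godPre_isSheaf⟩

theorem isFlasque_god : TopCat.Sheaf.IsFlasque L.god := by
  refine LocZLib.isFlasque_of_surjective _ fun {W V} h s => ?_
  refine ⟨⟨(s : L.godSub W).1, fun z hz => (s : L.godSub W).2 z fun hw => hz (h hw)⟩, Subtype.ext ?_⟩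
  exact L.cut_self (s : L.godSub W).2

/-- Sections are families. -/
def toGod : L.shf ⟶ L.god :=
  ⟨{ app := fun W => AddCommGrpCat.ofHom (AddSubgroup.inclusion (fun _ hs => hs.1))
     naturality := fun _ _ _ => rfl }⟩

theorem cut_d_mem (W : Opens Y) (s : L.Fam) : L.next.cut W (L.d s) ∈ L.next.secSub W :=
  ⟨L.next.cut_mem_godSub W _, fun z hz => L.next.congr z (L.d s) _
    ((L.next.cut_eventually hz _).mono fun _ hw => hw.symm) (L.d_mem s z)⟩

theorem cut_d_cut {W W' : Opens Y} (h : W' ≤ W) (s : L.Fam) :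
    L.next.cut W' (L.d (L.cut W' s)) = L.next.cut W' (L.next.cut W (L.d s)) :=
  funext fun z => by
    by_cases hz : z ∈ W'
    · rw [L.next.cut_of_mem hz, L.next.cut_of_mem hz, L.next.cut_of_mem (h hz)]
      exact L.cls_congr (L.cut_eventually hz s)
    · rw [L.next.cut_of_notMem hz, L.next.cut_of_notMem hz]

/-- Families give sections of the next level. -/
def toNext : L.god ⟶ L.next.shf :=
  ⟨{ app := fun W => AddCommGrpCat.ofHom ((((L.next.cut W.unop).comp L.d).comp
        (L.godSub W.unop).subtype).codRestrict _ fun s => L.cut_d_mem W.unop s.1)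
     naturality := fun V W f => AddCommGrpCat.hom_ext (AddMonoidHom.ext fun (s : L.godSub V.unop) =>
       Subtype.ext (L.cut_d_cut (leOfHom f.unop) s.1)) }⟩

theorem toNext_apply (W : Opens Y) (s : L.godSub W) :
    (L.toNext.hom.app (op W) s : L.next.secSub W).1 = L.next.cut W (L.d s.1) := rfl

theorem toGod_toNext : L.toGod ≫ L.toNext = 0 := by
  ext W s
  refine Subtype.ext (funext fun z => ?_)
  show L.next.cut W.unop (L.d (s : L.secSub W.unop).1) z = 0
  by_cases hz : z ∈ W.unop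
  · rw [L.next.cut_of_mem hz]
    exact L.cls_eq_zero.2 ((s : L.secSub W.unop).2.2 z hz)
  · rw [L.next.cut_of_notMem hz]

/-- The exact sequence of one step. -/
abbrev step : ShortComplex (CohTop.Ab Y) := ShortComplex.mk L.toGod L.toNext L.toGod_toNext

theorem mono_toGod : Mono L.toGod := by
  refine ⟨fun {F} g g' h => ?_⟩
  ext W s
  have e := congrArg (fun φ : F ⟶ L.god => φ.hom.app W s) h
  exact Subtype.ext (congrArg (fun v : L.godSub W.unop => v.1) e)

theorem step_shortExact : L.step.ShortExact := by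
  haveI := L.mono_toGod
  haveI : Epi L.toNext := epi_of_local _ fun W t y hy => by
    obtain ⟨r, hr⟩ := (t : L.next.secSub W).2.2 y hy
    obtain ⟨U, hU, hUo, hyU⟩ := mem_nhds_iff.1 hr
    let V : Opens Y := W ⊓ ⟨U, hUo⟩
    refine ⟨V, inf_le_left, ⟨hy, hyU⟩, (⟨L.cut V r, L.cut_mem_godSub V r⟩ : L.godSub V),
      Subtype.ext (funext fun z => ?_)⟩
    show L.next.cut V (L.d (L.cut V r)) z = L.next.cut V (t : L.next.secSub W).1 z
    by_cases hz : z ∈ V
    · rw [L.next.cut_of_mem hz, L.next.cut_of_mem hz]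
      exact (L.cls_congr (L.cut_eventually hz r)).trans (hU hz.2).symm
    · rw [L.next.cut_of_notMem hz, L.next.cut_of_notMem hz]
  refine { exact := exact_of_local _ fun W s hs x hx => ⟨W, le_rfl, hx,
    (⟨(s : L.godSub W).1, (s : L.godSub W).2, fun z hz => L.cls_eq_zero.1 ?_⟩ : L.secSub W),
      Subtype.ext ?_⟩ }
  · have h := congrFun (congrArg (fun v : L.next.secSub W => v.1) hs) z
    exact ((L.next.cut_of_mem hz _).symm.trans h)
  · exact (L.cut_self (s : L.godSub W).2).symm

/-- The complex of families. -/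
def godCx : CochainComplex AddCommGrpCat.{u} ℕ :=
  CochainComplex.of (fun q => AddCommGrpCat.of (L.iter q).Fam)
    (fun q => AddCommGrpCat.ofHom (L.iter q).d)
    fun q => AddCommGrpCat.hom_ext (AddMonoidHom.ext fun s => (L.iter q).d_d s)

theorem godCx_d (q : ℕ) : L.godCx.d q (q + 1) = AddCommGrpCat.ofHom (L.iter q).d :=
  CochainComplex.of_d (fun q => AddCommGrpCat.of (L.iter q).Fam)
    (fun q => AddCommGrpCat.ofHom (L.iter q).d) q

theorem godCx_d_apply (q : ℕ) (s : (L.iter q).Fam) : L.godCx.d q (q + 1) s = (L.iter q).d s := by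
  rw [godCx_d]
  rfl

instance subsingleton_HU_god (n : ℕ) : Subsingleton (HU (⊤ : Opens Y) L.god (n + 1)) := by
  haveI := L.isFlasque_god
  exact LocZLib.subsingleton_HU_flasque ⊤ n L.god

/-- The connecting map. -/
def bdry (n : ℕ) : HU (⊤ : Opens Y) L.next.shf n →+ HU (⊤ : Opens Y) L.shf (n + 1) :=
  L.step_shortExact.extClass.postcomp (freeAb (⊤ : Opens Y)) rfl

theorem bdry_surjective (n : ℕ) : Function.Surjective (L.bdry n) := fun x => by
  obtain ⟨y, hy⟩ := Ext.covariant_sequence_exact₁ (freeAb (⊤ : Opens Y)) L.step_shortExact x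
    (Subsingleton.elim (α := HU (⊤ : Opens Y) L.god (n + 1)) _ _) rfl
  exact ⟨y, hy⟩

theorem bdry_injective (n : ℕ) : Function.Injective (L.bdry (n + 1)) := by
  refine (injective_iff_map_eq_zero _).2 fun x hx => ?_
  obtain ⟨y, hy⟩ := Ext.covariant_sequence_exact₃ (freeAb (⊤ : Opens Y)) L.step_shortExact x rfl hx
  rw [← hy, Subsingleton.elim (α := HU (⊤ : Opens Y) L.god (n + 1)) y 0, Ext.zero_comp]

theorem nonempty_HU_iter_iso : ∀ (j m n : ℕ), n = m + 1 + j →
    Nonempty (HU (⊤ : Opens Y) (L.iter j).shf (m + 1) ≃+ HU (⊤ : Opens Y) L.shf n)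
  | 0, m, n, h => by
    obtain rfl : n = m + 1 := h
    exact ⟨AddEquiv.refl _⟩
  | j + 1, m, n, h => by
    obtain ⟨e⟩ := nonempty_HU_iter_iso j (m + 1) n (by omega)
    exact ⟨(AddEquiv.ofBijective ((L.iter j).bdry (m + 1))
      ⟨(L.iter j).bdry_injective m, (L.iter j).bdry_surjective (m + 1)⟩).trans e⟩

/-- Global sections of the sheaf. -/
def glob : HU (⊤ : Opens Y) L.shf 0 ≃+ L.secSub ⊤ := H0Equiv (⊤ : Opens Y) L.shf

theorem bdry_glob_eq_zero_iff (t : L.next.secSub ⊤) :
    L.bdry 0 (L.next.glob.symm t) = 0 ↔ ∃ s : L.Fam, L.d s = t.1 := by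
  constructor
  · intro h
    obtain ⟨y, hy⟩ := Ext.covariant_sequence_exact₃ (freeAb (⊤ : Opens Y)) L.step_shortExact _ rfl h
    let s : L.godSub ⊤ := H0Equiv (⊤ : Opens Y) L.god y
    refine ⟨s.1, ?_⟩
    have e : (L.toNext.hom.app (op ⊤) s : L.next.secSub ⊤) = t := by
      refine (H0Equiv_hmap (⊤ : Opens Y) L.toNext y).symm.trans ?_
      rw [hmap_apply, hy]
      exact L.next.glob.apply_symm_apply t
    rw [← e, toNext_apply]
    exact (L.next.cut_self fun (z : Y) (hz : z ∉ (⊤ : Opens Y)) => absurd trivial hz).symm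
  · rintro ⟨s, hs⟩
    let y : HU (⊤ : Opens Y) L.god 0 :=
      (H0Equiv (⊤ : Opens Y) L.god).symm (⟨s, fun z hz => absurd trivial hz⟩ : L.godSub ⊤)
    have e : L.next.glob.symm t = y.comp (Ext.mk₀ L.toNext) (add_zero 0) := by
      refine L.next.glob.injective ((L.next.glob.apply_symm_apply t).trans ?_)
      refine Eq.trans ?_ (H0Equiv_hmap (⊤ : Opens Y) L.toNext y).symm
      refine Eq.trans ?_ (congrArg (L.toNext.hom.app (op ⊤))
        (AddEquiv.apply_symm_apply (H0Equiv (⊤ : Opens Y) L.god) _)).symm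
      refine Subtype.ext (Eq.trans ?_ (L.toNext_apply ⊤ ⟨s, fun z hz => absurd trivial hz⟩).symm)
      rw [← hs]
      exact (L.next.cut_self fun (z : Y) (hz : z ∉ (⊤ : Opens Y)) => absurd trivial hz).symm
    show (L.next.glob.symm t).comp L.step_shortExact.extClass (zero_add 1) = 0
    rw [e, Ext.comp_assoc _ _ _ (add_zero 0) (zero_add 1) (by omega)]
    exact (congrArg (fun z => y.comp z (zero_add 1)) L.step_shortExact.comp_extClass).trans (by simp)

theorem ker_d_eq (s : L.Fam) : L.d s = 0 ↔ s ∈ L.secSub ⊤ :=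
  (L.d_eq_zero_iff s).trans
    ⟨fun h => ⟨fun z hz => absurd trivial hz, fun z _ => h z⟩, fun h z => h.2 z trivial⟩

/-- The cycles of the complex of families. -/
def cycleEquiv (q : ℕ) : AddMonoidHom.ker (L.godCx.sc q).g.hom ≃+ (L.iter q).secSub ⊤ where
  toFun s := ⟨s.1, ((L.iter q).ker_d_eq _).1
    ((L.godCx_d_apply q s.1).symm.trans ((SpSeqE1.g_eq_zero_iff L.godCx q s.1).1 s.2))⟩
  invFun t := ⟨t.1, (SpSeqE1.g_eq_zero_iff L.godCx q t.1).2
    ((L.godCx_d_apply q t.1).trans (((L.iter q).ker_d_eq _).2 t.2))⟩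
  left_inv _ := rfl
  right_inv _ := rfl
  map_add' _ _ := rfl

/-- The complex of families computes cohomology. -/
theorem nonempty_godCx_iso (n : ℕ) :
    Nonempty (L.godCx.homology n ≅ AddCommGrpCat.of (HU (⊤ : Opens Y) L.shf n)) := by
  cases n with
  | zero =>
    have h : AddMonoidHom.range (L.godCx.sc 0).abToCycles = (L.cycleEquiv 0).toAddMonoidHom.ker := by
      ext s
      constructor
      · rintro ⟨w, rfl⟩
        obtain ⟨v, hv⟩ := (SpSeqE1.exists_d_prev_iff L.godCx 0 _).1 ⟨w, rfl⟩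
        rw [SpSeqE1.dFam_zero] at hv
        exact Subtype.ext hv.symm
      · intro hs
        have : s = 0 := (L.cycleEquiv 0).injective (hs.trans (map_zero _).symm)
        exact this ▸ zero_mem _
    exact ⟨(L.godCx.sc 0).abHomologyIso ≪≫ ((QuotientAddGroup.quotientAddEquivOfEq h).trans
      ((QuotientAddGroup.quotientKerEquivOfSurjective _ (L.cycleEquiv 0).surjective).trans
        L.glob.symm)).toAddCommGrpIso⟩
  | succ q =>
    obtain ⟨e⟩ := L.nonempty_HU_iter_iso q 0 (q + 1) (by omega)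
    let ψ : AddMonoidHom.ker (L.godCx.sc (q + 1)).g.hom →+ HU (⊤ : Opens Y) (L.iter q).shf 1 :=
      ((L.iter q).bdry 0).comp ((L.iter (q + 1)).glob.symm.toAddMonoidHom.comp
        (L.cycleEquiv (q + 1)).toAddMonoidHom)
    have hsurj : Function.Surjective ψ := fun x => by
      obtain ⟨y, hy⟩ := (L.iter q).bdry_surjective 0 x
      refine ⟨(L.cycleEquiv (q + 1)).symm ((L.iter q).next.glob y), ?_⟩
      show (L.iter q).bdry 0 ((L.iter (q + 1)).glob.symm _) = x
      refine Eq.trans ?_ hy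
      refine (congrArg (fun z => (L.iter q).bdry 0 ((L.iter (q + 1)).glob.symm z))
        ((L.cycleEquiv (q + 1)).apply_symm_apply _)).trans ?_
      exact congrArg _ ((L.iter q).next.glob.symm_apply_apply y)
    have h : AddMonoidHom.range (L.godCx.sc (q + 1)).abToCycles = ψ.ker := by
      ext s
      refine Iff.trans ?_ ((L.iter q).bdry_glob_eq_zero_iff (L.cycleEquiv (q + 1) s)).symm
      constructor
      · rintro ⟨w, rfl⟩
        obtain ⟨v, hv⟩ := (SpSeqE1.exists_d_prev_iff L.godCx (q + 1) _).1 ⟨w, rfl⟩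
        exact ⟨v q, (L.godCx_d_apply q (v q)).symm.trans hv⟩
      · rintro ⟨v, hv⟩
        obtain ⟨w, hw⟩ := (SpSeqE1.exists_d_prev_iff L.godCx (q + 1) s.1).2
          ⟨Pi.single (M := fun q => (L.godCx.X q : Type u)) q (show L.godCx.X q from v),
            (SpSeqE1.dFam_succ _ _ q).trans ((congrArg (L.godCx.d q (q + 1))
              (Pi.single_eq_same (M := fun q => (L.godCx.X q : Type u)) q _)).trans
                ((L.godCx_d_apply q v).trans hv))⟩
        exact ⟨w, Subtype.ext hw⟩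
    exact ⟨(L.godCx.sc (q + 1)).abHomologyIso ≪≫ ((QuotientAddGroup.quotientAddEquivOfEq h).trans
      ((QuotientAddGroup.quotientKerEquivOfSurjective ψ hsurj).trans e)).toAddCommGrpIso⟩

end Lvl

end Groth.Agent.TopDescent
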