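import Groth.Agent.TopDescent.HigherImage
import Groth.Agent.TopDescent.Cech
import Mathlib.Topology.LocalAtTarget

/-!
# Fibre powers of a proper separated map are proper separated
-/

set_option linter.style.haveILetI false
set_option linter.unusedSectionVars false
set_option synthInstance.maxHeartbeats 400000

universe u

open CategoryTheory Limits Opposite TopologicalSpace Topology Filter

noncomputable section

namespace Groth.Agent.TopDescent

variable {X S : TopCat.{u}} (f : X ⟶ S) (p : ℕ)

/-- The diagonal. -/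
abbrev diagSet : Set (Fin (p + 1) → S) := {v | ∀ i, v i = v 0}

/-- The coordinates of a point of a fibre power. -/
def pwToPi (z : pw f p) : (Pi.map fun (_ : Fin (p + 1)) (x : X) => f x) ⁻¹' diagSet (S := S) p :=
  ⟨fun i => pwπ f p i z, fun i => (pwπ_f f p i z).trans (pwπ_f f p 0 z).symm⟩

/-- The inverse of `pwToPi`. -/
def piToPw : TopCat.of ((Pi.map fun (_ : Fin (p + 1)) (x : X) => f x) ⁻¹' diagSet (S := S) p : Set _) ⟶
    pw f p :=
  WidePullback.lift
    (TopCat.ofHom ⟨fun v => f (v.1 0),
      f.hom.continuous.comp ((continuous_apply 0).comp continuous_subtype_val)⟩)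
    (fun i => TopCat.ofHom ⟨fun v => v.1 i, (continuous_apply i).comp continuous_subtype_val⟩)
    fun i => by
      ext v
      exact v.2 i

theorem piToPw_π (v : (Pi.map fun (_ : Fin (p + 1)) (x : X) => f x) ⁻¹' diagSet (S := S) p)
    (i : Fin (p + 1)) : pwπ f p i (piToPw f p v) = v.1 i :=
  congrArg (fun φ : TopCat.of ((Pi.map fun (_ : Fin (p + 1)) (x : X) => f x) ⁻¹' diagSet (S := S) p :
      Set _) ⟶ X => φ v) (WidePullback.lift_π (fun _ : Fin (p + 1) => f) _ _ _ i)

/-- A fibre power is a subspace of the power. -/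
def pwHomeo : pw f p ≃ₜ ((Pi.map fun (_ : Fin (p + 1)) (x : X) => f x) ⁻¹' diagSet (S := S) p : Set _) where
  toFun := pwToPi f p
  invFun v := piToPw f p v
  left_inv z := pw_ext f fun i => piToPw_π f p _ i
  right_inv v := Subtype.ext (funext fun i => piToPw_π f p v i)
  continuous_toFun :=
    (continuous_pi fun i => (pwπ f p i).hom.continuous).subtype_mk _
  continuous_invFun := (piToPw f p).hom.continuous

/-- The diagonal is a copy of the base. -/
def diagHomeo : diagSet (S := S) p ≃ₜ S where
  toFun v := v.1 0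
  invFun s := ⟨fun _ => s, fun _ => rfl⟩
  left_inv v := Subtype.ext (funext fun i => (v.2 i).symm)
  right_inv _ := rfl
  continuous_toFun := (continuous_apply 0).comp continuous_subtype_val
  continuous_invFun := (continuous_pi fun _ => continuous_id).subtype_mk _

theorem isProperMap_pwBase (hf : IsProperMap f) : IsProperMap (pwBase f p) := by
  have h := ((diagHomeo (S := S) p).isProperMap.comp
    ((IsProperMap.pi_map (fun _ : Fin (p + 1) => hf)).restrictPreimage (diagSet (S := S) p))).comp
      (pwHomeo f p).isProperMap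
  refine (funext fun z => ?_ : _ = (pwBase f p : pw f p → S)) ▸ h
  exact pwπ_f f p 0 z

theorem fibreGood_pwBase (hf : IsProperMap f)
    (hs : ∀ x x' : X, f x = f x' → x ≠ x' →
      ∃ U V : Set X, IsOpen U ∧ IsOpen V ∧ x ∈ U ∧ x' ∈ V ∧ Disjoint U V) :
    FibreGood (pwBase f p) :=
  fibreGood_of_isProperMap (pwBase f p) (isProperMap_pwBase f p hf) fun z z' e hne => by
    obtain ⟨i, hi⟩ : ∃ i, pwπ f p i z ≠ pwπ f p i z' := by
      by_contra h
      exact hne (pw_ext f fun i => not_not.1 fun hn => h ⟨i, hn⟩)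
    obtain ⟨U, V, hU, hV, hxU, hxV, hd⟩ := hs _ _
      ((pwπ_f f p i z).trans (e.trans (pwπ_f f p i z').symm)) hi
    exact ⟨pwπ f p i ⁻¹' U, pwπ f p i ⁻¹' V, hU.preimage (pwπ f p i).hom.continuous,
      hV.preimage (pwπ f p i).hom.continuous, hxU, hxV, hd.preimage _⟩

end Groth.Agent.TopDescent
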