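import Groth.Agent.TopDescent.FamPull
import Groth.Agent.TopDescent.PowProper
import Groth.Agent.SpSeqE1.BicxTot

/-!
# The descent bicomplex near a fibre

On the fibre over a point the rows are contracted by a point of the fibre; by proper base change the
total complex of families modulo those vanishing near the fibre is then a resolution of the stalk.
-/

set_option linter.style.haveILetI false
set_option linter.unusedSectionVars false
set_option synthInstance.maxHeartbeats 400000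

universe u

open CategoryTheory Limits Opposite TopologicalSpace Topology Filter

noncomputable section

namespace Groth.Agent.TopDescent

variable {X S : TopCat.{u}} (f : X ⟶ S) (F : CohTop.Ab S)

theorem godCx_d_dI {Y : TopCat.{u}} (L : Lvl (Y : Type u)) (q : ℕ) (s : (L.iter q).Fam) :
    L.godCx.d q (q + 1) s = L.dI q s := L.godCx_d_apply q s

/-- The horizontal differential. -/
def dB (p q : ℕ) : gFam F (pwBase f p) q →+ gFam F (pwBase f (p + 1)) q :=
  ∑ k : Fin (p + 2), (-1 : ℤ) ^ (k : ℕ) • famPull F (pwMap f k.succAbove) (pwMap_base f _) q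

theorem rowCx_d_dB (p q : ℕ) (a : gFam F (pwBase f p) q) :
    ((rowCx f F).d p (p + 1)).f q a = dB f F p q a := by
  funext z
  refine (rowCx_d_apply f F p q a z).trans ?_
  rw [dB, AddMonoidHom.finsetSum_apply, Finset.sum_apply]
  rfl

/-- The bicomplex of families on the fibre powers. -/
def powBicx : SpSeqE1.Bicx.{u} where
  col p := (pwLvl f F p).godCx
  δ p := (rowCx f F).d p (p + 1)
  δ_δ p := (rowCx f F).d_comp_d _ _ _

theorem powBicx_δ (p q : ℕ) (a : gFam F (pwBase f p) q) :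
    ((powBicx f F).δ p).f q a = dB f F p q a := rowCx_d_dB f F p q a

theorem powBicx_d (p q : ℕ) (a : gFam F (pwBase f p) q) :
    ((powBicx f F).col p).d q (q + 1) a = (pwLvl f F p).dI q a := godCx_d_dI _ q a

/-- The augmentation on families. -/
abbrev epsB (q : ℕ) : gFam F (𝟙 S) q →+ gFam F (pwBase f 0) q :=
  famPull F (pwBase f 0) (fun _ => rfl) q

theorem dB_epsB (q : ℕ) (l : gFam F (𝟙 S) q) : dB f F 0 q (epsB f F q l) = 0 := by
  refine (rowCx_d_dB f F 0 q _).symm.trans ?_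
  exact ConcreteCategory.congr_hom (congrArg (fun φ => HomologicalComplex.Hom.f φ q) (aug_d f F)) l

section Fibre

variable (s : S)

/-- The fibre of a fibre power. -/
abbrev zTop (p : ℕ) : TopCat.{u} := fibTop (pwBase f p) s

/-- Its map to the base. -/
abbrev zh (p : ℕ) : zTop f s p ⟶ S := fibIncl (pwBase f p) s ≫ pwBase f p

theorem zh_apply (p : ℕ) (z : zTop f s p) : zh f s p z = s := z.2

/-- The maps between the fibres. -/
def fibMap {n m : ℕ} (φ : Fin (n + 1) → Fin (m + 1)) : zTop f s m ⟶ zTop f s n :=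
  TopCat.ofHom ⟨fun z => ⟨pwMap f φ z.1, (pwMap_base f φ z.1).trans z.2⟩,
    ((pwMap f φ).hom.continuous.comp continuous_subtype_val).subtype_mk _⟩

theorem fibMap_e {n m : ℕ} (φ : Fin (n + 1) → Fin (m + 1)) (z : zTop f s m) :
    zh f s n (fibMap f s φ z) = zh f s m z := pwMap_base f φ z.1

/-- The restriction to the fibres. -/
abbrev rMap (p q : ℕ) : gFam F (pwBase f p) q →+ gFam F (zh f s p) q :=
  famPull F (fibIncl (pwBase f p) s) (fun _ => rfl) q

/-- The horizontal differential on the fibres. -/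
def dG (p q : ℕ) : gFam F (zh f s p) q →+ gFam F (zh f s (p + 1)) q :=
  ∑ k : Fin (p + 2), (-1 : ℤ) ^ (k : ℕ) • famPull F (fibMap f s k.succAbove) (fibMap_e f s _) q

theorem rMap_dB (p q : ℕ) (a : gFam F (pwBase f p) q) :
    rMap f F s (p + 1) q (dB f F p q a) = dG f F s p q (rMap f F s p q a) := by
  rw [dB, dG, AddMonoidHom.finsetSum_apply, AddMonoidHom.finsetSum_apply, map_sum]
  refine Finset.sum_congr rfl fun k _ => ?_
  rw [AddMonoidHom.smul_apply, AddMonoidHom.smul_apply, map_zsmul]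
  refine congrArg _ ((famPull_comp F (pwMap f k.succAbove) (pwMap_base f _)
    (fibIncl (pwBase f (p + 1)) s) (fun _ => rfl)
    (fibIncl (pwBase f (p + 1)) s ≫ pwMap f k.succAbove) (fun z => pwMap_base f _ z.1)
    (fun _ => rfl) q a).symm.trans ?_)
  exact famPull_comp F (fibIncl (pwBase f p) s) (fun _ => rfl) (fibMap f s k.succAbove)
    (fibMap_e f s _) _ _ (fun _ => rfl) q a

theorem rMap_surjective (p q : ℕ) : Function.Surjective (rMap f F s p q) :=
  famPull_surjective F _ _ Subtype.val_injective q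

theorem dG_dG (p q : ℕ) (a : gFam F (zh f s p) q) : dG f F s (p + 1) q (dG f F s p q a) = 0 := by
  obtain ⟨b, rfl⟩ := rMap_surjective f F s p q a
  rw [← rMap_dB, ← rMap_dB, ← rowCx_d_dB, ← rowCx_d_dB]
  refine (congrArg (rMap f F s (p + 1 + 1) q) ?_).trans (map_zero _)
  exact ConcreteCategory.congr_hom
    (congrArg (fun φ => HomologicalComplex.Hom.f φ q) ((rowCx f F).d_comp_d p (p + 1) (p + 1 + 1))) b

theorem dG_dI (p q : ℕ) (a : gFam F (zh f s p) q) :
    dG f F s p (q + 1) ((baseLvl F (zh f s p)).dI q a) =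
      (baseLvl F (zh f s (p + 1))).dI q (dG f F s p q a) := by
  rw [dG, dG, AddMonoidHom.finsetSum_apply, AddMonoidHom.finsetSum_apply, map_sum]
  refine Finset.sum_congr rfl fun k _ => ?_
  rw [AddMonoidHom.smul_apply, AddMonoidHom.smul_apply, map_zsmul, famPull_dI]

variable (x₀ : X) (hx₀ : f x₀ = s)

/-- Adjoining the chosen point as a first coordinate. -/
def insMor (p : ℕ) : zTop f s p ⟶ pw f (p + 1) :=
  WidePullback.lift (TopCat.ofHom ⟨fun _ => s, continuous_const⟩)
    (Fin.cases (TopCat.ofHom ⟨fun _ => x₀, continuous_const⟩)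
      fun i => fibIncl (pwBase f p) s ≫ pwπ f p i)
    fun i => by
      cases i using Fin.cases with
      | zero =>
        ext z
        exact hx₀
      | succ i =>
        ext z
        exact (pwπ_f f p i z.1).trans z.2

theorem insMor_π (p : ℕ) (z : zTop f s p) (i : Fin (p + 2)) :
    pwπ f (p + 1) i (insMor f s x₀ hx₀ p z) =
      Fin.cases (motive := fun _ => X) x₀ (fun i => pwπ f p i z.1) i := by
  refine (congrArg (fun φ : zTop f s p ⟶ X => φ z)
    (WidePullback.lift_π (fun _ : Fin (p + 1 + 1) => f) _ _ _ i)).trans ?_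
  cases i using Fin.cases <;> rfl

theorem insMor_base (p : ℕ) (z : zTop f s p) : pwBase f (p + 1) (insMor f s x₀ hx₀ p z) = s :=
  congrArg (fun φ : zTop f s p ⟶ S => φ z) (WidePullback.lift_base _ _ _ _)

/-- The same into the fibre. -/
def insZ (p : ℕ) : zTop f s p ⟶ zTop f s (p + 1) :=
  TopCat.ofHom ⟨fun z => ⟨insMor f s x₀ hx₀ p z, insMor_base f s x₀ hx₀ p z⟩,
    (insMor f s x₀ hx₀ p).hom.continuous.subtype_mk _⟩

theorem insZ_e (p : ℕ) (z : zTop f s p) :
    zh f s (p + 1) (insZ f s x₀ hx₀ p z) = zh f s p z :=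
  (insMor_base f s x₀ hx₀ p z).trans z.2.symm

/-- The contraction. -/
abbrev cMap (p q : ℕ) : gFam F (zh f s (p + 1)) q →+ gFam F (zh f s p) q :=
  famPull F (insZ f s x₀ hx₀ p) (insZ_e f s x₀ hx₀ p) q

theorem cMap_face_zero (p q : ℕ) (a : gFam F (zh f s p) q) :
    cMap f F s x₀ hx₀ p q
      (famPull F (fibMap f s (0 : Fin (p + 2)).succAbove) (fibMap_e f s _) q a) = a := by
  refine (famPull_comp F _ (fibMap_e f s _) _ (insZ_e f s x₀ hx₀ p) (𝟙 _) (fun _ => rfl)
    (fun z => Subtype.ext ?_) q a).symm.trans (famPull_id F _ _ (fun _ => rfl) q a)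
  refine pw_ext f fun i => ?_
  show pwπ f p i z.1 = pwπ f p i (pwMap f _ (insMor f s x₀ hx₀ p z))
  rw [pwMap_π, insMor_π, Fin.succAbove_zero, Fin.cases_succ]

theorem cMap_face_succ (p q : ℕ) (k : Fin (p + 2)) (a : gFam F (zh f s (p + 1)) q) :
    cMap f F s x₀ hx₀ (p + 1) q
      (famPull F (fibMap f s k.succ.succAbove) (fibMap_e f s _) q a) =
        famPull F (fibMap f s k.succAbove) (fibMap_e f s _) q (cMap f F s x₀ hx₀ p q a) := by
  refine (famPull_comp F _ (fibMap_e f s _) _ (insZ_e f s x₀ hx₀ (p + 1))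
    (fibMap f s k.succAbove ≫ insZ f s x₀ hx₀ p)
    (fun z => (insZ_e f s x₀ hx₀ p _).trans (fibMap_e f s _ z))
    (fun z => Subtype.ext ?_) q a).symm.trans
      (famPull_comp F _ (insZ_e f s x₀ hx₀ p) _ (fibMap_e f s _) _ _ (fun _ => rfl) q a)
  refine pw_ext f fun i => ?_
  show pwπ f (p + 1) i (insMor f s x₀ hx₀ p (fibMap f s k.succAbove z)) =
    pwπ f (p + 1) i (pwMap f k.succ.succAbove (insMor f s x₀ hx₀ (p + 1) z))
  rw [insMor_π, pwMap_π, insMor_π]
  cases i using Fin.cases with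
  | zero => rw [Fin.cases_zero, Fin.succ_succAbove_zero, Fin.cases_zero]
  | succ i =>
    rw [Fin.cases_succ, Fin.succ_succAbove_succ, Fin.cases_succ]
    exact pwMap_π f _ i z.1

include hx₀ in
theorem exact_dG (p q : ℕ) (a : gFam F (zh f s (p + 1)) q) (h : dG f F s (p + 1) q a = 0) :
    ∃ b, dG f F s p q b = a := by
  refine ⟨cMap f F s x₀ hx₀ p q a, ?_⟩
  have h0 := congrArg (cMap f F s x₀ hx₀ (p + 1) q) h
  rw [map_zero, dG, AddMonoidHom.finsetSum_apply, map_sum, Fin.sum_univ_succ,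
    AddMonoidHom.smul_apply, map_zsmul, cMap_face_zero, Fin.val_zero, pow_zero, one_smul] at h0
  have h1 : ∀ k : Fin (p + 2), cMap f F s x₀ hx₀ (p + 1) q
      (((-1 : ℤ) ^ (k.succ : ℕ) • famPull F (fibMap f s k.succ.succAbove) (fibMap_e f s _) q) a) =
      -((-1 : ℤ) ^ (k : ℕ) • famPull F (fibMap f s k.succAbove) (fibMap_e f s _) q
        (cMap f F s x₀ hx₀ p q a)) := fun k => by
    rw [AddMonoidHom.smul_apply, map_zsmul, cMap_face_succ, Fin.val_succ, pow_succ, mul_neg_one,
      neg_smul]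
  rw [Finset.sum_congr rfl fun k _ => h1 k, Finset.sum_neg_distrib] at h0
  rw [dG, AddMonoidHom.finsetSum_apply]
  exact (add_neg_eq_zero.1 h0).symm

/-- The point. -/
abbrev ptTop : TopCat.{u} := TopCat.of PUnit.{u + 1}

/-- The point of the base. -/
abbrev ptS : ptTop.{u} ⟶ S := TopCat.ofHom ⟨fun _ => s, continuous_const⟩

/-- The fibre to the point. -/
def toPt : zTop f s 0 ⟶ ptTop.{u} := TopCat.ofHom ⟨fun _ => PUnit.unit, continuous_const⟩

theorem toPt_e (z : zTop f s 0) : ptS s (toPt f s z) = zh f s 0 z := z.2.symm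

/-- The augmentation on the fibre. -/
abbrev epsG (q : ℕ) : gFam F (ptS s) q →+ gFam F (zh f s 0) q :=
  famPull F (toPt f s) (toPt_e f s) q

/-- Evaluation of families on the base at the point. -/
abbrev rPt (q : ℕ) : gFam F (𝟙 S) q →+ gFam F (ptS s) q :=
  famPull F (ptS s) (fun _ => rfl) q

theorem rMap_epsB (q : ℕ) (l : gFam F (𝟙 S) q) :
    rMap f F s 0 q (epsB f F q l) = epsG f F s q (rPt F s q l) :=
  (famPull_comp F (pwBase f 0) (fun _ => rfl) (fibIncl (pwBase f 0) s) (fun _ => rfl) (zh f s 0)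
    (fun _ => rfl) (fun _ => rfl) q l).symm.trans
      (famPull_comp F (ptS s) (fun _ => rfl) (toPt f s) (toPt_e f s) (zh f s 0) (fun _ => rfl) (fun z => z.2) q l)

theorem rPt_surjective (q : ℕ) : Function.Surjective (rPt F s q) :=
  famPull_surjective F _ _ (fun _ _ _ => Subsingleton.elim _ _) q

/-- The chosen point of the fibre. -/
def ptZ : ptTop.{u} ⟶ zTop f s 0 :=
  TopCat.ofHom ⟨fun _ => ⟨WidePullback.lift (X := ptTop.{u}) (ptS s)
      (fun _ : Fin (0 + 1) => TopCat.ofHom ⟨fun _ => x₀, continuous_const⟩)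
      (fun _ => by
        ext z
        exact hx₀) PUnit.unit,
    congrArg (fun φ : ptTop.{u} ⟶ S => φ PUnit.unit) (WidePullback.lift_base _ _ _ _)⟩,
    continuous_const⟩

theorem ptZ_π (i : Fin 1) (t : ptTop.{u}) : pwπ f 0 i (ptZ f s x₀ hx₀ t).1 = x₀ :=
  congrArg (fun φ : ptTop.{u} ⟶ X => φ PUnit.unit)
    (WidePullback.lift_π (fun _ : Fin (0 + 1) => f) _ _ _ i)

theorem ptZ_e (t : ptTop.{u}) : zh f s 0 (ptZ f s x₀ hx₀ t) = ptS s t :=
  (ptZ f s x₀ hx₀ t).2

include hx₀ in
theorem injective_epsG (q : ℕ) : Function.Injective (epsG f F s q) :=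
  Function.LeftInverse.injective (g := famPull F (ptZ f s x₀ hx₀) (ptZ_e f s x₀ hx₀) q) fun l =>
    (famPull_comp F _ (toPt_e f s) _ (ptZ_e f s x₀ hx₀) (𝟙 _) (fun _ => rfl)
      (fun _ => rfl) q l).symm.trans (famPull_id F _ _ (fun _ => rfl) q l)

include hx₀ in
theorem exact_epsG (q : ℕ) (a : gFam F (zh f s 0) q) (h : dG f F s 0 q a = 0) :
    ∃ l, epsG f F s q l = a := by
  refine ⟨famPull F (ptZ f s x₀ hx₀) (ptZ_e f s x₀ hx₀) q a, ?_⟩
  have h0 := congrArg (cMap f F s x₀ hx₀ 0 q) h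
  rw [map_zero, dG, AddMonoidHom.finsetSum_apply, map_sum, Fin.sum_univ_two,
    AddMonoidHom.smul_apply, AddMonoidHom.smul_apply, map_zsmul, map_zsmul, cMap_face_zero,
    Fin.val_zero, Fin.val_one, pow_zero, pow_one, one_smul, neg_one_zsmul, add_neg_eq_zero] at h0
  refine Eq.trans ?_ h0.symm
  refine (famPull_comp F _ (ptZ_e f s x₀ hx₀) _ (toPt_e f s)
    (toPt f s ≫ ptZ f s x₀ hx₀) (fun z => (ptZ_e f s x₀ hx₀ _).trans (toPt_e f s z))
    (fun _ => rfl) q a).symm.trans ?_
  refine famPull_comp F _ (fibMap_e f s _) _ (insZ_e f s x₀ hx₀ 0) _ _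
    (fun z => Subtype.ext (pw_ext f fun i => ?_)) q a
  show pwπ f 0 i (ptZ f s x₀ hx₀ (toPt f s z)).1 =
    pwπ f 0 i (pwMap f (1 : Fin 2).succAbove (insMor f s x₀ hx₀ 0 z))
  rw [ptZ_π, pwMap_π, insMor_π]
  obtain rfl : i = 0 := Fin.ext (by omega)
  rfl

theorem epsG_dI (q : ℕ) (l : gFam F (ptS s) q) :
    epsG f F s (q + 1) ((baseLvl F (ptS s)).dI q l) =
      (baseLvl F (zh f s 0)).dI q (epsG f F s q l) :=
  famPull_dI F _ _ q l

theorem dG_epsG (q : ℕ) (l : gFam F (ptS s) q) : dG f F s 0 q (epsG f F s q l) = 0 := by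
  obtain ⟨l, rfl⟩ := rPt_surjective F s q l
  rw [← rMap_epsB, ← rMap_dB, dB_epsB, map_zero]

/-- The bicomplex of the fibres. -/
def fibBicx : SpSeqE1.AugBicx.{u} where
  col p := (baseLvl F (zh f s p)).godCx
  δ p :=
    { f := fun q => AddCommGrpCat.ofHom (dG f F s p q)
      comm' := fun q q' e => by
        obtain rfl : q + 1 = q' := e
        refine AddCommGrpCat.hom_ext (AddMonoidHom.ext fun (a : gFam F (zh f s p) q) => ?_)
        exact (godCx_d_dI _ q _).trans ((dG_dI f F s p q a).symm.trans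
          (congrArg (dG f F s p (q + 1)) (godCx_d_dI _ q a).symm)) }
  δ_δ p := by
    ext q a
    exact dG_dG f F s p q a
  L := (baseLvl F (ptS s)).godCx
  ε :=
    { f := fun q => AddCommGrpCat.ofHom (epsG f F s q)
      comm' := fun q q' e => by
        obtain rfl : q + 1 = q' := e
        refine AddCommGrpCat.hom_ext (AddMonoidHom.ext fun (a : gFam F (ptS s) q) => ?_)
        exact (godCx_d_dI _ q _).trans ((epsG_dI f F s q a).symm.trans
          (congrArg (epsG f F s (q + 1)) (godCx_d_dI _ q a).symm)) }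
  ε_δ := by
    ext q a
    exact dG_epsG f F s q a
  mono_ε q := injective_epsG f F s x₀ hx₀ q
  exact_zero q a h := exact_epsG f F s x₀ hx₀ q a h
  exact_succ p q a h := exact_dG f F s x₀ hx₀ p q a h

theorem fibBicx_δ (p q : ℕ) (a : gFam F (zh f s p) q) :
    ((fibBicx f F s x₀ hx₀).δ p).f q a = dG f F s p q a := rfl

theorem fibBicx_d (p q : ℕ) (a : gFam F (zh f s p) q) :
    ((fibBicx f F s x₀ hx₀).col p).d q (q + 1) a = (baseLvl F (zh f s p)).dI q a :=
  godCx_d_dI _ q a

end Fibre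

end Groth.Agent.TopDescent
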