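import Groth.Agent.TopDescent.Compact

/-!
# Families near a compact subspace compute the cohomology of the restriction

For a map of etale spaces `φ : L → M` over a separated map `i : Z → X` from a compact space which
identifies `M` with the restriction of `L`, families of `L` modulo those vanishing near `i Z` and
families of `M` have the same cohomology; this is stated as the exactness of the cone.
-/

set_option linter.style.haveILetI false
set_option linter.unusedSectionVars false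
set_option synthInstance.maxHeartbeats 400000

universe u

open CategoryTheory Limits Opposite TopologicalSpace Topology Filter

noncomputable section

namespace Groth.Agent.TopDescent

/-- The differential, from one level to the next. -/
def Lvl.dI {Y : Type u} [TopologicalSpace Y] (L : Lvl Y) (q : ℕ) :
    (L.iter q).Fam →+ (L.iter (q + 1)).Fam := (L.iter q).d

theorem Lvl.dI_eq {Y : Type u} [TopologicalSpace Y] (L : Lvl Y) (q : ℕ) (s : (L.iter q).Fam) :
    L.dI q s = (L.iter q).d s := rfl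

theorem Lvl.dI_dI {Y : Type u} [TopologicalSpace Y] (L : Lvl Y) (q : ℕ) (s : (L.iter q).Fam) :
    L.dI (q + 1) (L.dI q s) = 0 := (L.iter q).d_d s

section Ind

variable {X : Type u} {A : X → AddCommGrpCat.{u}}

open Classical in
/-- Multiplication of families by an indicator. -/
def ind (B : Set X) : (∀ x, A x) →+ ∀ x, A x :=
  AddMonoidHom.mk' (fun s x => if x ∈ B then s x else 0) fun a b => funext fun x => by
    by_cases h : x ∈ B <;> simp [h]

theorem ind_of_mem {B : Set X} {x : X} (h : x ∈ B) (s : ∀ x, A x) : ind B s x = s x := by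
  simp [ind, h]

theorem ind_of_notMem {B : Set X} {x : X} (h : x ∉ B) (s : ∀ x, A x) : ind B s x = 0 := by
  simp [ind, h]

theorem ind_inter (B C : Set X) (s : ∀ x, A x) : ind B (ind C s) = ind (B ∩ C) s :=
  funext fun x => by
    by_cases h : x ∈ B <;> by_cases h' : x ∈ C <;> simp [ind, h, h']

theorem ind_union {B C : Set X} (hd : Disjoint B C) (s : ∀ x, A x) :
    ind (B ∪ C) s = ind B s + ind C s :=
  funext fun x => by
    by_cases h : x ∈ B
    · have h' : x ∉ C := fun hc => Set.disjoint_left.1 hd h hc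
      simp [ind, h, h']
    · by_cases h' : x ∈ C <;> simp [ind, h, h']

end Ind

variable {X Z : TopCat.{u}} {L : Lvl (X : Type u)} {M : Lvl (Z : Type u)} (φ : Lvl.Hom L M)

/-- The stalks of the shifted target. -/
def prevA (M : Lvl (Z : Type u)) : ℕ → ↑Z → AddCommGrpCat.{u}
  | 0 => fun _ => AddCommGrpCat.of PUnit.{u + 1}
  | n + 1 => (M.iter n).A

/-- The families of a term of the cone. -/
abbrev ConeFam (n : ℕ) : Type u := (L.iter n).Fam × ∀ z, prevA M n z

/-- The pairs of families vanishing near a point. -/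
def coneSub (n : ℕ) (z : Z) : AddSubgroup (ConeFam (L := L) (M := M) n) where
  carrier := {p | (∀ᶠ y in 𝓝 (φ.f z), p.1 y = 0) ∧ ∀ᶠ w in 𝓝 z, p.2 w = 0}
  zero_mem' := ⟨Eventually.of_forall fun _ => rfl, Eventually.of_forall fun _ => rfl⟩
  add_mem' := fun {a b} ha hb => ⟨(ha.1.and hb.1).mono fun y hy => by
      show a.1 y + b.1 y = 0
      rw [hy.1, hy.2, add_zero], (ha.2.and hb.2).mono fun w hw => by
      show a.2 w + b.2 w = 0
      rw [hw.1, hw.2, add_zero]⟩
  neg_mem' := fun {a} ha => ⟨ha.1.mono fun y hy => by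
      show -a.1 y = 0
      rw [hy, neg_zero], ha.2.mono fun w hw => by
      show -a.2 w = 0
      rw [hw, neg_zero]⟩

variable (hdom : φ.dom = Set.univ)

include hdom in
theorem coneSub_open (n : ℕ) (z : Z) (p : ConeFam (L := L) (M := M) n) (hp : p ∈ coneSub φ n z) :
    ∀ᶠ w in 𝓝 z, p ∈ coneSub φ n w :=
  (((φ.cont z (hdom ▸ Set.mem_univ z)).eventually hp.1.eventually_nhds).and
    hp.2.eventually_nhds).mono fun _ hw => hw

/-- The terms of the cone. -/
abbrev coneLvl (n : ℕ) : Lvl (Z : Type u) := quotLvl (coneSub φ n) (coneSub_open φ hdom n)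

/-- The second component. -/
def coneSnd (n : ℕ) : ConeFam (L := L) (M := M) (n + 1) →+ (M.iter n).Fam :=
  AddMonoidHom.snd (L.iter (n + 1)).Fam (∀ z, prevA M (n + 1) z)

/-- The differential of the cone on families. -/
def coneD : ∀ n, ConeFam (L := L) (M := M) n →+ ConeFam (L := L) (M := M) (n + 1)
  | 0 => AddMonoidHom.prod ((L.dI 0).comp (AddMonoidHom.fst _ _))
      ((φ.iter 0).pull.comp (AddMonoidHom.fst _ _))
  | n + 1 => AddMonoidHom.prod ((L.dI (n + 1)).comp (AddMonoidHom.fst _ _))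
      ((φ.iter (n + 1)).pull.comp (AddMonoidHom.fst _ _) - (M.dI n).comp (coneSnd n))

theorem coneD_zero_apply (p : ConeFam (L := L) (M := M) 0) :
    coneD φ 0 p = (L.dI 0 p.1, (φ.iter 0).pull p.1) := rfl

theorem coneD_succ_snd (n : ℕ) (p : ConeFam (L := L) (M := M) (n + 1)) :
    coneSnd (n + 1) (coneD φ (n + 1) p) = (φ.iter (n + 1)).pull p.1 - M.dI n (coneSnd n p) := rfl

include hdom in
theorem mem_iter_dom (q : ℕ) (z : Z) : z ∈ (φ.iter q).dom := by
  rw [Lvl.Hom.iter_dom, hdom]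
  exact Set.mem_univ z

include hdom in
theorem pull_d (q : ℕ) (s : (L.iter q).Fam) :
    (φ.iter (q + 1)).pull (L.dI q s) = M.dI q ((φ.iter q).pull s) :=
  funext fun z => (φ.iter q).next_pull_d s (mem_iter_dom φ hdom q z)

include hdom in
theorem pull_eventually_zero (q : ℕ) {z : Z} {s : (L.iter q).Fam}
    (h : ∀ᶠ y in 𝓝 (φ.f z), s y = 0) : ∀ᶠ w in 𝓝 z, (φ.iter q).pull s w = 0 := by
  filter_upwards [(φ.cont z (hdom ▸ Set.mem_univ z)).eventually h] with w hw
  have : s ((φ.iter q).f w) = 0 := by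
    rw [Lvl.Hom.iter_f]
    exact hw
  exact (congrArg ((φ.iter q).σ w) this).trans (map_zero _)

theorem d_eventually_zero (L : Lvl (X : Type u)) {y : X} {s : L.Fam}
    (h : ∀ᶠ w in 𝓝 y, s w = 0) : ∀ᶠ w in 𝓝 y, L.d s w = 0 :=
  h.eventually_nhds.mono fun w hw =>
    L.cls_eq_zero.2 (L.congr w 0 s (hw.mono fun _ e => e.symm) (L.N w).zero_mem)

theorem dI_eventually_zero (L : Lvl (X : Type u)) (q : ℕ) {y : X} {s : (L.iter q).Fam}
    (h : ∀ᶠ w in 𝓝 y, s w = 0) : ∀ᶠ w in 𝓝 y, L.dI q s w = 0 :=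
  d_eventually_zero (L.iter q) h

theorem mem_of_d_eventually_zero {Y : TopCat.{u}} (L : Lvl (Y : Type u)) {y : Y} {s : L.Fam}
    (h : ∀ᶠ w in 𝓝 y, L.d s w = 0) : s ∈ L.N y :=
  L.cls_eq_zero.1 h.self_of_nhds

include hdom in
theorem coneD_mem : ∀ n z, ∀ p ∈ coneSub φ n z, coneD φ n p ∈ coneSub φ (n + 1) z
  | 0, z, p, hp => ⟨dI_eventually_zero L 0 hp.1, pull_eventually_zero φ hdom 0 hp.1⟩
  | n + 1, z, p, hp => ⟨dI_eventually_zero L (n + 1) hp.1, by
      filter_upwards [pull_eventually_zero φ hdom (n + 1) hp.1,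
        dI_eventually_zero M n (s := coneSnd n p) hp.2] with w h1 h2
      show (φ.iter (n + 1)).pull p.1 w - M.dI n (coneSnd n p) w = 0
      rw [h1, h2, sub_zero]⟩

/-- The differential of the cone. -/
def coneMap (n : ℕ) : Lvl.Map (coneLvl φ hdom n) (coneLvl φ hdom (n + 1)) :=
  quotMap _ _ (coneD φ n) (coneD_mem φ hdom n)

include hdom in
theorem coneD_coneD : ∀ n p, coneD φ (n + 1) (coneD φ n p) = 0
  | 0, p => Prod.ext (L.dI_dI 0 p.1) (by
      show coneSnd 1 (coneD φ 1 (coneD φ 0 p)) = 0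
      rw [coneD_succ_snd, coneD_zero_apply]
      show (φ.iter 1).pull (L.dI 0 p.1) - M.dI 0 ((φ.iter 0).pull p.1) = 0
      rw [pull_d φ hdom, sub_self])
  | n + 1, p => Prod.ext (L.dI_dI (n + 1) p.1) (by
      show coneSnd (n + 1 + 1) (coneD φ (n + 1 + 1) (coneD φ (n + 1) p)) = 0
      rw [coneD_succ_snd]
      show (φ.iter (n + 1 + 1)).pull (L.dI (n + 1) p.1) -
        M.dI (n + 1) (coneSnd (n + 1) (coneD φ (n + 1) p)) = 0
      rw [coneD_succ_snd, pull_d φ hdom, map_sub, M.dI_dI, sub_zero, sub_self])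

/-- Indicator operations on the cone. -/
def coneCut (n : ℕ) : CutOp (fun z : Z => φ.f z) (coneSub φ n) where
  c B := AddMonoidHom.prodMap (ind B) (ind (φ.f ⁻¹' B))
  mem B z p hp := ⟨hp.1.mono fun y hy => by
      show ind B p.1 y = 0
      by_cases h : y ∈ B
      · rw [ind_of_mem h, hy]
      · rw [ind_of_notMem h], hp.2.mono fun w hw => by
      show ind (φ.f ⁻¹' B) p.2 w = 0
      by_cases h : w ∈ φ.f ⁻¹' B
      · rw [ind_of_mem h, hw]
      · rw [ind_of_notMem h]⟩
  inter B C p := Prod.ext (ind_inter B C p.1)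
    ((ind_inter _ _ p.2).trans (congrArg (fun S => ind S p.2) Set.preimage_inter.symm))
  union B C h p := Prod.ext (ind_union h p.1)
    ((congrArg (fun S => ind S p.2) Set.preimage_union).trans (ind_union (h.preimage φ.f) p.2))
  inner B z h p := by
    refine ⟨Filter.eventually_of_mem h fun y hy => ?_, Filter.eventually_of_mem
      ((φ.cont z (hdom ▸ Set.mem_univ z)).preimage_mem_nhds h) fun w hw => ?_⟩
    · show p.1 y - ind B p.1 y = 0
      rw [ind_of_mem hy, sub_self]
    · show p.2 w - ind (φ.f ⁻¹' B) p.2 w = 0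
      rw [ind_of_mem hw, sub_self]
  outer B z h p := by
    refine ⟨h.mono fun y hy => ind_of_notMem hy _, ?_⟩
    exact ((φ.cont z (hdom ▸ Set.mem_univ z)).eventually h).mono fun w hw =>
      ind_of_notMem (show w ∉ φ.f ⁻¹' B from hw) _

variable (hinj : ∀ z, Function.Injective (φ.σ z))
  (hlift : ∀ z s, s ∈ M.N z → ∃ t ∈ L.N (φ.f z), ∀ᶠ w in 𝓝 z, φ.pull t w = s w)

include hinj hdom in
theorem coneD_zero_injective (z : Z) (p : ConeFam (L := L) (M := M) 0)
    (h : coneD φ 0 p ∈ coneSub φ 1 z) : p ∈ coneSub φ 0 z := by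
  have hN : p.1 ∈ L.N (φ.f z) := mem_of_d_eventually_zero L h.1
  have h0 : φ.σ z (p.1 (φ.f z)) = 0 := h.2.self_of_nhds
  exact ⟨L.eventually_zero _ _ hN (hinj z (h0.trans (map_zero _).symm)),
    Eventually.of_forall fun _ => rfl⟩

include hlift hdom in
theorem coneD_exact : ∀ n z p, coneD φ (n + 1) p ∈ coneSub φ (n + 1 + 1) z →
    ∃ p', coneD φ n p' - p ∈ coneSub φ (n + 1) z := by
  intro n z p hp
  obtain ⟨u, hu⟩ := mem_of_d_eventually_zero (L.iter (n + 1)) hp.1
  have hu' : ∀ᶠ y in 𝓝 (φ.f z), (L.dI n u - p.1) y = 0 :=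
    hu.mono fun y hy => sub_eq_zero.2 hy.symm
  have hde : ∀ᶠ w in 𝓝 z, M.dI n ((φ.iter n).pull u - coneSnd n p) w = 0 := by
    filter_upwards [pull_eventually_zero φ hdom (n + 1) hu', hp.2] with w h1 h2
    have h1' : M.dI n ((φ.iter n).pull u) w - (φ.iter (n + 1)).pull p.1 w = 0 := by
      rw [← pull_d φ hdom, ← Pi.sub_apply, ← map_sub]
      exact h1
    have h2' : (φ.iter (n + 1)).pull p.1 w - M.dI n (coneSnd n p) w = 0 := h2
    rw [map_sub]
    show M.dI n ((φ.iter n).pull u) w - M.dI n (coneSnd n p) w = 0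
    rw [sub_eq_zero] at h1' h2' ⊢
    exact h1'.trans h2'
  have he := mem_of_d_eventually_zero (M.iter n) hde
  cases n with
  | zero =>
    obtain ⟨t₀, ht, ht'⟩ := hlift z _ he
    obtain ⟨t, rfl⟩ : ∃ t : (L.iter 0).Fam, t = t₀ := ⟨t₀, rfl⟩
    let p' : ConeFam (L := L) (M := M) 0 := (u - t, fun _ => PUnit.unit)
    refine ⟨p', ?_, ?_⟩
    · filter_upwards [hu', (L.loc _ t ht)] with y h1 h2
      show (L.dI 0 p'.1 - p.1) y = 0
      have h3 : L.dI 0 t y = 0 := L.cls_eq_zero.2 h2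
      show (L.dI 0 (u - t) - p.1) y = 0
      rw [map_sub, Pi.sub_apply, Pi.sub_apply, h3, sub_zero]
      exact h1
    · filter_upwards [ht'] with w hw
      show ((φ.iter 0).pull (u - t) - coneSnd 0 p) w = 0
      have hw' : (φ.iter 0).pull t w =
          (φ.iter 0).pull u w - coneSnd 0 p w := hw
      rw [map_sub, Pi.sub_apply, Pi.sub_apply, hw']
      exact (by abel)
  | succ m =>
    obtain ⟨v, hv⟩ := he
    let p' : ConeFam (L := L) (M := M) (m + 1) := (u, v)
    refine ⟨p', hu', ?_⟩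
    filter_upwards [hv] with w hw
    have hw' : (φ.iter (m + 1)).pull u w - coneSnd (m + 1) p w = M.dI m v w := hw
    show ((φ.iter (m + 1)).pull u - M.dI m v - coneSnd (m + 1) p) w = 0
    rw [Pi.sub_apply, Pi.sub_apply, ← hw']
    abel

/-- The properties of the subspace which make families near it compute its cohomology. -/
structure RestrGood : Prop where
  acyclic : ∀ n, (coneLvl φ hdom n).Acyclic
  exists_global : ∀ n (t : (coneLvl φ hdom n).Fam), (∀ z, t ∈ (coneLvl φ hdom n).N z) →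
    ∃ p, ∀ z, t z = qcls (coneSub φ n) (coneSub_open φ hdom n) z p

theorem SepMap.restrGood (h : SepMap (fun z : Z => φ.f z)) : RestrGood φ hdom :=
  ⟨fun n => (coneCut φ hdom n).acyclic (coneSub_open φ hdom n) h,
    fun n t ht => (coneCut φ hdom n).exists_global (coneSub_open φ hdom n) h t ht⟩

variable (hs : RestrGood φ hdom)

include hdom hinj hlift hs in
/-- Exactness of the cone, on families. -/
theorem exists_cone (n : ℕ) (p : ConeFam (L := L) (M := M) (n + 1))
    (hp : ∀ z, coneD φ (n + 1) p ∈ coneSub φ (n + 1 + 1) z) :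
    ∃ p', ∀ z, coneD φ n p' - p ∈ coneSub φ (n + 1) z := by
  let K := coneLvl φ hdom
  obtain ⟨t, ht, ht'⟩ := Lvl.exact_sections K (coneMap φ hdom)
    hs.acyclic
    (fun m z a => by
      obtain ⟨x, rfl⟩ := QuotientAddGroup.mk_surjective a
      exact (qcls_eq_zero _ _).2 ((coneD_coneD φ hdom m x).symm ▸ zero_mem _))
    (fun z => (injective_iff_map_eq_zero _).2 fun a ha => by
      obtain ⟨x, rfl⟩ := QuotientAddGroup.mk_surjective a
      exact (qcls_eq_zero _ _).2 (coneD_zero_injective φ hdom hinj z x ((qcls_eq_zero _ _).1 ha)))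
    (fun m z b hb => by
      obtain ⟨x, rfl⟩ := QuotientAddGroup.mk_surjective b
      obtain ⟨x', hx'⟩ := coneD_exact φ hdom hlift m z x ((qcls_eq_zero _ _).1 hb)
      exact ⟨qcls _ _ z x', (qcls_eq_iff _ _).2 hx'⟩)
    n (fun z => qcls _ _ z p) ⟨fun z hz => absurd trivial hz, fun z _ => qcls_mem _ _ p z⟩
    (funext fun z => (qcls_eq_zero _ _).2 (hp z))
  obtain ⟨p', hp'⟩ := hs.exists_global n t fun z => ht.2 z trivial
  exact ⟨p', fun z => (qcls_eq_iff _ _).1
    (((congrArg ((coneMap φ hdom n).σ z) (hp' z)).symm).trans (congrFun ht' z))⟩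

include hdom hinj in
/-- Families near the subspace which are cycles in degree zero and restrict to zero vanish. -/
theorem restr_zero (a : (L.iter 0).Fam) (ha : ∀ z, ∀ᶠ y in 𝓝 (φ.f z), L.dI 0 a y = 0)
    (hr : (φ.iter 0).pull a = 0) (z : Z) : ∀ᶠ y in 𝓝 (φ.f z), a y = 0 :=
  (coneD_zero_injective φ hdom hinj z (a, fun _ => PUnit.unit)
    ⟨ha z, Eventually.of_forall fun w => congrFun hr w⟩).1

include hdom hinj hlift hs in
/-- The cone in degree one. -/
theorem restr_one (a : (L.iter 1).Fam) (b : (M.iter 0).Fam)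
    (ha : ∀ z, ∀ᶠ y in 𝓝 (φ.f z), L.dI 1 a y = 0) (hr : (φ.iter 1).pull a = M.dI 0 b) :
    ∃ u : (L.iter 0).Fam,
      (∀ z, ∀ᶠ y in 𝓝 (φ.f z), L.dI 0 u y = a y) ∧ (φ.iter 0).pull u = b := by
  obtain ⟨p', hp'⟩ := exists_cone φ hdom hinj hlift hs 0 ((a, b) : ConeFam (L := L) (M := M) 1)
    fun z => ⟨ha z, Eventually.of_forall fun w =>
      (sub_eq_zero (a := (φ.iter 1).pull a w) (b := M.dI 0 b w)).2 (congrFun hr w)⟩
  exact ⟨p'.1, fun z => (hp' z).1.mono fun y hy =>
      (sub_eq_zero (a := L.dI 0 p'.1 y) (b := a y)).1 hy,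
    funext fun z => (sub_eq_zero (a := (φ.iter 0).pull p'.1 z) (b := b z)).1 (hp' z).2.self_of_nhds⟩

include hdom hinj hlift hs in
/-- The cone in higher degrees. -/
theorem restr_succ (q : ℕ) (a : (L.iter (q + 1 + 1)).Fam) (b : (M.iter (q + 1)).Fam)
    (ha : ∀ z, ∀ᶠ y in 𝓝 (φ.f z), L.dI (q + 1 + 1) a y = 0)
    (hr : (φ.iter (q + 1 + 1)).pull a = M.dI (q + 1) b) :
    ∃ (u : (L.iter (q + 1)).Fam) (v : (M.iter q).Fam),
      (∀ z, ∀ᶠ y in 𝓝 (φ.f z), L.dI (q + 1) u y = a y) ∧
        (φ.iter (q + 1)).pull u - M.dI q v = b := by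
  obtain ⟨p', hp'⟩ := exists_cone φ hdom hinj hlift hs (q + 1)
    ((a, b) : ConeFam (L := L) (M := M) (q + 1 + 1)) fun z =>
    ⟨ha z, Eventually.of_forall fun w =>
      (sub_eq_zero (a := (φ.iter (q + 1 + 1)).pull a w) (b := M.dI (q + 1) b w)).2 (congrFun hr w)⟩
  exact ⟨p'.1, coneSnd q p', fun z => (hp' z).1.mono fun y hy =>
      (sub_eq_zero (a := L.dI (q + 1) p'.1 y) (b := a y)).1 hy,
    funext fun z => (sub_eq_zero
      (a := ((φ.iter (q + 1)).pull p'.1 - M.dI q (coneSnd q p')) z) (b := b z)).1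
        (hp' z).2.self_of_nhds⟩

end Groth.Agent.TopDescent
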