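import Groth.Agent.TopDescent.PowFibre
import Groth.Agent.TopDescent.Near

/-!
# The stalks of the total complex of descent
-/

set_option linter.style.haveILetI false
set_option linter.unusedSectionVars false
set_option synthInstance.maxHeartbeats 400000
set_option backward.isDefEq.respectTransparency false

universe u

open CategoryTheory Limits Opposite TopologicalSpace Topology Filter

noncomputable section

namespace Groth.Agent.TopDescent

variable {X S : TopCat.{u}} (f : X ⟶ S) (F : CohTop.Ab S) (s : S)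

/-- Vanishing near the fibre. -/
def NZ (p q : ℕ) (a : gFam F (pwBase f p) q) : Prop :=
  ∀ z : zTop f s p, ∀ᶠ y in 𝓝 z.1, a y = 0

theorem NZ.zero (p q : ℕ) : NZ f F s p q 0 := fun _ => Eventually.of_forall fun _ => rfl

variable {f F s}

theorem NZ.add {p q : ℕ} {a b : gFam F (pwBase f p) q} (ha : NZ f F s p q a) (hb : NZ f F s p q b) :
    NZ f F s p q (a + b) := fun z => ((ha z).and (hb z)).mono fun y hy => by
  show a y + b y = 0
  rw [hy.1, hy.2, add_zero]

theorem NZ.neg {p q : ℕ} {a : gFam F (pwBase f p) q} (ha : NZ f F s p q a) :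
    NZ f F s p q (-a) := fun z => (ha z).mono fun y hy => by
  show -a y = 0
  rw [hy, neg_zero]

theorem NZ.sub {p q : ℕ} {a b : gFam F (pwBase f p) q} (ha : NZ f F s p q a) (hb : NZ f F s p q b) :
    NZ f F s p q (a - b) := sub_eq_add_neg a b ▸ ha.add hb.neg

theorem NZ.zsmul {p q : ℕ} {a : gFam F (pwBase f p) q} (c : ℤ) (ha : NZ f F s p q a) :
    NZ f F s p q (c • a) := fun z => (ha z).mono fun y hy => by
  show c • a y = 0
  rw [hy, smul_zero]

theorem NZ.dI {p q : ℕ} {a : gFam F (pwBase f p) q} (ha : NZ f F s p q a) :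
    NZ f F s p (q + 1) ((pwLvl f F p).dI q a) := fun z => dI_eventually_zero _ q (ha z)

theorem NZ.dB {p q : ℕ} {a : gFam F (pwBase f p) q} (ha : NZ f F s p q a) :
    NZ f F s (p + 1) q (Groth.Agent.TopDescent.dB f F p q a) := by
  intro z
  have h : ∀ k : Fin (p + 2), ∀ᶠ y in 𝓝 z.1,
      famPull F (pwMap f k.succAbove) (pwMap_base f _) q a y = 0 := fun k =>
    famPull_eventually_zero F _ _ q (ha (fibMap f s k.succAbove z))
  filter_upwards [Filter.eventually_all.2 h] with y hy
  rw [Groth.Agent.TopDescent.dB, AddMonoidHom.finsetSum_apply, Finset.sum_apply]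
  refine Finset.sum_eq_zero fun k _ => ?_
  show ((-1 : ℤ) ^ (k : ℕ)) • famPull F (pwMap f k.succAbove) (pwMap_base f _) q a y = 0
  rw [hy k, smul_zero]

theorem rMap_NZ {p q : ℕ} {a : gFam F (pwBase f p) q} (ha : NZ f F s p q a) :
    rMap f F s p q a = 0 :=
  funext fun z => (famPull_eventually_zero F _ _ q (ha z)).self_of_nhds

variable (f F s)

/-- Elements of the bicomplex vanishing near the fibres. -/
def nzAll : AddSubgroup (powBicx f F).All where
  carrier := {x | ∀ p q, NZ f F s p q (x p q)}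
  zero_mem' := fun p q => NZ.zero f F s p q
  add_mem' := fun ha hb p q => (ha p q).add (hb p q)
  neg_mem' := fun ha p q => (ha p q).neg

theorem powBicx_dv_succ (x : (powBicx f F).All) (p q : ℕ) :
    ((powBicx f F).dv x p (q + 1) : gFam F (pwBase f p) (q + 1)) =
      ((-1) ^ p : ℤ) • (pwLvl f F p).dI q (x p q) :=
  ((powBicx f F).dv_apply x p (q + 1)).trans (congrArg (((-1) ^ p : ℤ) • ·)
    ((SpSeqE1.dFam_succ _ _ q).trans (powBicx_d f F p q _)))

theorem D_nzAll {x : (powBicx f F).All} (hx : x ∈ nzAll f F s) :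
    (powBicx f F).D x ∈ nzAll f F s := by
  intro p q
  rw [SpSeqE1.Bicx.D_apply]
  refine NZ.add ?_ ?_
  · cases p with
    | zero => exact NZ.zero f F s 0 q
    | succ p =>
      rw [SpSeqE1.Bicx.dh_succ, powBicx_δ]
      exact (hx p q).dB
  · cases q with
    | zero =>
      rw [SpSeqE1.Bicx.dv_apply, SpSeqE1.dFam_zero, smul_zero]
      exact NZ.zero f F s p 0
    | succ q =>
      rw [powBicx_dv_succ]
      exact (hx p q).dI.zsmul _

variable (x₀ : X) (hx₀ : f x₀ = s)

/-- The restriction to the fibres, on all elements. -/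
def rAll : (powBicx f F).All →+ (fibBicx f F s x₀ hx₀).All :=
  AddMonoidHom.mk' (fun x p q => rMap f F s p q (x p q))
    fun a b => funext fun p => funext fun q => map_add (rMap f F s p q) _ _

theorem rAll_apply (x : (powBicx f F).All) (p q : ℕ) :
    (rAll f F s x₀ hx₀ x p q : gFam F (zh f s p) q) = rMap f F s p q (x p q) := rfl

theorem fibBicx_dv_succ (x : (fibBicx f F s x₀ hx₀).All) (p q : ℕ) :
    ((fibBicx f F s x₀ hx₀).dv x p (q + 1) : gFam F (zh f s p) (q + 1)) =
      ((-1) ^ p : ℤ) • (baseLvl F (zh f s p)).dI q (x p q) :=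
  ((fibBicx f F s x₀ hx₀).dv_apply x p (q + 1)).trans (congrArg (((-1) ^ p : ℤ) • ·)
    ((SpSeqE1.dFam_succ _ _ q).trans (fibBicx_d f F s x₀ hx₀ p q _)))

theorem rAll_D (x : (powBicx f F).All) :
    rAll f F s x₀ hx₀ ((powBicx f F).D x) = (fibBicx f F s x₀ hx₀).D (rAll f F s x₀ hx₀ x) := by
  funext p q
  rw [rAll_apply, SpSeqE1.Bicx.D_apply, SpSeqE1.Bicx.D_apply]
  refine (map_add (rMap f F s p q) _ _).trans (congrArg₂ (· + ·) ?_ ?_)
  · cases p with
    | zero => exact map_zero _
    | succ p =>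
      rw [SpSeqE1.Bicx.dh_succ, SpSeqE1.Bicx.dh_succ, powBicx_δ]
      exact rMap_dB f F s p q _
  · cases q with
    | zero =>
      rw [SpSeqE1.Bicx.dv_apply, SpSeqE1.Bicx.dv_apply, SpSeqE1.dFam_zero, SpSeqE1.dFam_zero,
        smul_zero, smul_zero]
      exact map_zero _
    | succ q =>
      rw [powBicx_dv_succ, fibBicx_dv_succ]
      refine (map_zsmul _ _ _).trans (congrArg (((-1) ^ p : ℤ) • ·) ?_)
      exact famPull_dI F _ _ q _

theorem rAll_nzAll {x : (powBicx f F).All} (hx : x ∈ nzAll f F s) :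
    rAll f F s x₀ hx₀ x = 0 :=
  funext fun p => funext fun q => rMap_NZ (hx p q)

theorem rAll_mem_tot {n : ℤ} {x : (powBicx f F).All} (hx : x ∈ (powBicx f F).tot ⊤ n) :
    rAll f F s x₀ hx₀ x ∈ (fibBicx f F s x₀ hx₀).tot ⊤ n := fun p q h => by
  rw [rAll_apply, hx p q h]
  exact map_zero _

theorem single_mem_tot (B : SpSeqE1.Bicx.{u}) (p q : ℕ) (u : (B.col p).X q) :
    (Pi.single p (Pi.single q u) : B.All) ∈ B.tot ⊤ ((p + q : ℕ) : ℤ) := fun p' q' h => by
  by_cases hp : p' = p
  · subst hp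
    show Pi.single (M := fun p => SpSeqE1.Fam (B.col p)) p' (Pi.single q u) p' q' = 0
    rw [Pi.single_eq_same, Pi.single_eq_of_ne fun e => h ⟨by subst e; push_cast; ring, le_top⟩]
  · show Pi.single (M := fun p => SpSeqE1.Fam (B.col p)) p (Pi.single q u) p' q' = 0
    rw [Pi.single_eq_of_ne hp]
    rfl

theorem single_self (B : SpSeqE1.Bicx.{u}) (p q : ℕ) (u : (B.col p).X q) :
    (Pi.single p (Pi.single q u) : B.All) p q = u := by
  rw [Pi.single_eq_same, Pi.single_eq_same]

theorem D_single_below (B : SpSeqE1.Bicx.{u}) {p' p : ℕ} (h : p' < p) (q q' : ℕ) (u : (B.col p).X q) :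
    B.D (Pi.single p (Pi.single q u)) p' q' = 0 := by
  rw [SpSeqE1.Bicx.D_apply, SpSeqE1.Bicx.dv_apply, Pi.single_eq_of_ne h.ne, map_zero, Pi.zero_apply,
    smul_zero, add_zero]
  cases p' with
  | zero => rfl
  | succ p' =>
    rw [SpSeqE1.Bicx.dh_succ, Pi.single_eq_of_ne (by lia : p' ≠ p), Pi.zero_apply, map_zero]

theorem D_single_self (B : SpSeqE1.Bicx.{u}) (p q : ℕ) (u : (B.col p).X q) :
    B.D (Pi.single p (Pi.single q u)) p (q + 1) = ((-1) ^ p : ℤ) • (B.col p).d q (q + 1) u := by
  rw [SpSeqE1.Bicx.D_apply, SpSeqE1.Bicx.dv_apply, SpSeqE1.dFam_succ, single_self]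
  cases p with
  | zero => rw [SpSeqE1.Bicx.dh_zero, zero_add]
  | succ p =>
    rw [SpSeqE1.Bicx.dh_succ, Pi.single_eq_of_ne (by lia : p ≠ p + 1), Pi.zero_apply, map_zero,
      zero_add]

theorem sign_smul_smul {A : Type u} [AddCommGroup A] (p : ℕ) (a : A) :
    ((-1) ^ p : ℤ) • ((-1) ^ p : ℤ) • a = a := by
  rw [smul_smul, ← mul_pow, neg_mul_neg, one_mul, one_pow, one_smul]

theorem sub_sub_self_add {A : Type u} [AddCommGroup A] (x y : A) : x - y - x + y = 0 := by abel

variable (hg : ∀ p, FibreGood (pwBase f p))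

theorem dI_NZ_of_D {a : (powBicx f F).All} {k q : ℕ} (hlt : ∀ p q, p < k → NZ f F s p q (a p q))
    (hD : (powBicx f F).D a ∈ nzAll f F s) : NZ f F s k (q + 1) ((pwLvl f F k).dI q (a k q)) := by
  have h := hD k (q + 1)
  rw [SpSeqE1.Bicx.D_apply, powBicx_dv_succ] at h
  have hh : NZ f F s k (q + 1) ((powBicx f F).dh a k (q + 1)) := by
    cases k with
    | zero => exact NZ.zero f F s 0 _
    | succ k =>
      rw [SpSeqE1.Bicx.dh_succ, powBicx_δ]
      exact (hlt k (q + 1) (by lia)).dB
  have h2 : NZ f F s k (q + 1) (((-1) ^ k : ℤ) • (pwLvl f F k).dI q (a k q)) := by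
    have := h.sub hh
    rwa [add_sub_cancel_left] at this
  have h3 := h2.zsmul ((-1) ^ k : ℤ)
  rwa [sign_smul_smul] at h3

include hg hx₀ in
/-- Lifting boundaries from the fibres, column by column. -/
theorem lift_cone (n : ℕ) : ∀ (j k : ℕ), k + j = n + 2 →
    ∀ a ∈ (powBicx f F).tot ⊤ ((n + 1 : ℕ) : ℤ), ∀ b ∈ (fibBicx f F s x₀ hx₀).tot ⊤ (n : ℤ),
      (powBicx f F).D a ∈ nzAll f F s →
      rAll f F s x₀ hx₀ a = (fibBicx f F s x₀ hx₀).D b →
      (∀ p q, p < k → NZ f F s p q (a p q) ∧ b p q = 0) →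
      ∃ u ∈ (powBicx f F).tot ⊤ (n : ℤ), a - (powBicx f F).D u ∈ nzAll f F s
  | 0, k, hk, a, ha, b, _, _, _, hlow => ⟨0, zero_mem _, by
      rw [map_zero, sub_zero]
      intro p q
      by_cases hp : p < k
      · exact (hlow p q hp).1
      · rw [ha p q fun e => by have := e.1; push_cast at this; lia]
        exact NZ.zero f F s p q⟩
  | j + 1, k, hk, a, ha, b, hb, hDa, hr, hlow => by
    let B := powBicx f F
    let G := (fibBicx f F s x₀ hx₀).toBicx
    have hr' : ∀ q, rMap f F s k q (a k q) =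
        ((-1) ^ k : ℤ) • SpSeqE1.dFam (G.col k) (b k) q := fun q => by
      refine (congrFun (congrFun hr k) q).trans ?_
      rw [SpSeqE1.Bicx.D_apply, SpSeqE1.Bicx.dv_apply]
      refine add_eq_right.2 ?_
      cases k with
      | zero => rfl
      | succ k => rw [SpSeqE1.Bicx.dh_succ, (hlow k q (by lia)).2, map_zero]
    let φ := restrHom F (pwBase f k) (zh f s k) (fibIncl (pwBase f k) s) fun _ => rfl
    have hinj := restrHom_injective F (pwBase f k) (zh f s k) (fibIncl (pwBase f k) s) fun _ => rfl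
    have hlift := restrHom_lift F (pwBase f k) (zh f s k) (fibIncl (pwBase f k) s) fun _ => rfl
    by_cases hkn : k ≤ n
    · obtain ⟨q, hq⟩ : ∃ q, k + q = n := ⟨n - k, by lia⟩
      have hda : NZ f F s k (q + 1 + 1) ((pwLvl f F k).dI (q + 1) (a k (q + 1))) :=
        dI_NZ_of_D f F s (fun p q hp => (hlow p q hp).1) hDa
      have hra : rMap f F s k (q + 1) (a k (q + 1)) =
          (baseLvl F (zh f s k)).dI q (((-1) ^ k : ℤ) • b k q) := by
        rw [hr', SpSeqE1.dFam_succ, map_zsmul]
        exact congrArg (((-1) ^ k : ℤ) • ·) (fibBicx_d f F s x₀ hx₀ k q _)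
      obtain ⟨u', v', hu', hv'⟩ : ∃ (u' : gFam F (pwBase f k) q)
          (v' : SpSeqE1.Fam (G.col k)),
          NZ f F s k (q + 1) (id (α := gFam F (pwBase f k) (q + 1)) (a k (q + 1)) -
              (pwLvl f F k).dI q u') ∧
            (∀ r, r + 1 ≠ q → v' r = 0) ∧
            ((-1) ^ k : ℤ) • b k q = id (α := (G.col k).X q) (rMap f F s k q u') -
              SpSeqE1.dFam (G.col k) v' q := by
        cases q with
        | zero =>
          obtain ⟨u', hu, he⟩ := restr_one φ rfl hinj hlift (((hg k).sep s).restrGood _ _) (a k 1) _ hda hra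
          refine ⟨u', 0, fun z => (hu z).mono fun y hy => sub_eq_zero.2 hy.symm,
            fun _ _ => rfl, ?_⟩
          rw [SpSeqE1.dFam_zero, sub_zero]
          exact he.symm
        | succ q =>
          obtain ⟨u', v, hu, he⟩ := restr_succ φ rfl hinj hlift (((hg k).sep s).restrGood _ _) q (a k (q + 1 + 1)) _
            hda hra
          refine ⟨u', Pi.single q v, fun z => (hu z).mono fun y hy => sub_eq_zero.2 hy.symm,
            fun r hr => Pi.single_eq_of_ne (fun e => hr (by lia)) _, ?_⟩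
          rw [SpSeqE1.dFam_succ, Pi.single_eq_same]
          refine he.symm.trans (congrArg (rMap f F s k (q + 1) u' - ·) ?_)
          exact (fibBicx_d f F s x₀ hx₀ k q v).symm
      obtain ⟨hvs, hv'⟩ := hv'
      let u : B.All := Pi.single k (Pi.single q (((-1) ^ k : ℤ) • u'))
      let v : G.All := Pi.single k (-v')
      have hu : u ∈ B.tot ⊤ (n : ℤ) := by
        have := single_mem_tot B k q (((-1) ^ k : ℤ) • u')
        rwa [hq] at this
      have hv : v ∈ G.tot ⊤ ((n : ℤ) - 1) := fun p r h => by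
        show Pi.single (M := fun p => SpSeqE1.Fam (G.col p)) k (-v') p r = 0
        by_cases hp : p = k
        · subst hp
          rw [Pi.single_eq_same, Pi.neg_apply,
            hvs r fun e => h ⟨by push_cast [← e] at hq; lia, le_top⟩, neg_zero]
        · rw [Pi.single_eq_of_ne hp]
          rfl
      have hu1 : B.D u ∈ B.tot ⊤ ((n + 1 : ℕ) : ℤ) := by push_cast; exact B.D_mem hu
      obtain ⟨w, hw, hw'⟩ := lift_cone n j (k + 1) (by lia) (a - B.D u) (sub_mem ha hu1)
        (b - rAll f F s x₀ hx₀ u - G.D v)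
        (sub_mem (sub_mem hb (rAll_mem_tot f F s x₀ hx₀ hu)) (by
          have := G.D_mem hv
          rwa [sub_add_cancel] at this))
        (by rw [map_sub, B.D_D, sub_zero]; exact hDa)
        (by rw [map_sub, rAll_D, map_sub, map_sub, G.D_D, sub_zero, hr])
        (fun p r hp => by
          rcases Nat.lt_succ_iff_lt_or_eq.1 hp with hp | rfl
          · refine ⟨?_, ?_⟩
            · rw [Pi.sub_apply, Pi.sub_apply, D_single_below B hp, sub_zero]
              exact (hlow p r hp).1
            · rw [Pi.sub_apply, Pi.sub_apply, Pi.sub_apply, Pi.sub_apply, (hlow p r hp).2,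
                rAll_apply, show u p = 0 from Pi.single_eq_of_ne hp.ne _, Pi.zero_apply, map_zero]
              have hv0 : G.D v p r = 0 := by
                rw [SpSeqE1.Bicx.D_apply, SpSeqE1.Bicx.dv_apply,
                  show v p = 0 from Pi.single_eq_of_ne hp.ne _, map_zero, Pi.zero_apply,
                  smul_zero, add_zero]
                cases p with
                | zero => rfl
                | succ p =>
                  rw [SpSeqE1.Bicx.dh_succ, show v p = 0 from Pi.single_eq_of_ne (by lia) _,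
                    Pi.zero_apply, map_zero]
              rw [hv0]
              exact (sub_zero _).trans (sub_zero _)
          · refine ⟨?_, ?_⟩
            · by_cases hrq : r = q + 1
              · subst hrq
                rw [Pi.sub_apply, Pi.sub_apply, D_single_self B p q, powBicx_d, map_zsmul,
                  sign_smul_smul]
                exact hu'
              · rw [(sub_mem ha hu1 : a - B.D u ∈ _) p r fun e => hrq (by
                  have := e.1; push_cast at this; lia)]
                exact NZ.zero f F s p r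
            · by_cases hrq : r = q
              · subst hrq
                rw [Pi.sub_apply, Pi.sub_apply, Pi.sub_apply, Pi.sub_apply, rAll_apply,
                  show u p r = ((-1) ^ p : ℤ) • u' from single_self B p r _, map_zsmul]
                have hv0 : G.D v p r =
                    -(((-1) ^ p : ℤ) • SpSeqE1.dFam (G.col p) v' r) := by
                  rw [SpSeqE1.Bicx.D_apply, SpSeqE1.Bicx.dv_apply,
                    show v p = -v' from Pi.single_eq_same _ _, map_neg, Pi.neg_apply, smul_neg]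
                  refine add_eq_right.2 ?_
                  cases p with
                  | zero => rfl
                  | succ p =>
                    rw [SpSeqE1.Bicx.dh_succ, show v p = 0 from Pi.single_eq_of_ne (by lia) _,
                      Pi.zero_apply, map_zero]
                rw [hv0, sub_neg_eq_add]
                have hb' : b p r = ((-1) ^ p : ℤ) •
                    (id (α := (G.col p).X r) (rMap f F s p r u') - SpSeqE1.dFam (G.col p) v' r) := by
                  rw [← hv', sign_smul_smul]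
                rw [hb', smul_sub]
                exact sub_sub_self_add _ _
              · exact (sub_mem (sub_mem hb (rAll_mem_tot f F s x₀ hx₀ hu)) (by
                  have := G.D_mem hv
                  rwa [sub_add_cancel] at this) : b - rAll f F s x₀ hx₀ u - G.D v ∈ _) p r
                    fun e => hrq (by have := e.1; push_cast at this; lia))
      refine ⟨u + w, add_mem hu hw, ?_⟩
      rw [map_add, ← sub_sub]
      exact hw'
    · obtain rfl : k = n + 1 := by lia
      refine lift_cone n j (n + 1 + 1) (by lia) a ha b hb hDa hr fun p r hp => ?_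
      rcases Nat.lt_succ_iff_lt_or_eq.1 hp with hp | rfl
      · exact hlow p r hp
      · refine ⟨?_, hb (n + 1) r fun e => by have := e.1; push_cast at this; lia⟩
        by_cases hr0 : r = 0
        · subst hr0
          refine fun z => restr_zero φ rfl hinj (a (n + 1) 0)
            (dI_NZ_of_D f F s (fun p q hp => (hlow p q hp).1) hDa) ?_ z
          refine (hr' 0).trans ?_
          rw [SpSeqE1.dFam_zero, smul_zero]
        · rw [ha (n + 1) r fun e => hr0 (by have := e.1; push_cast at this; lia)]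
          exact NZ.zero f F s _ r

theorem mem_N_of_dI_eventually_zero {Y : TopCat.{u}} (L : Lvl (Y : Type u)) (q : ℕ) {y : Y}
    {t : (L.iter q).Fam} (h : ∀ᶠ w in 𝓝 y, L.dI q t w = 0) : t ∈ (L.iter q).N y :=
  mem_of_d_eventually_zero (L.iter q) h

/-- The augmentation into the total complex. -/
def epsTot (n : ℕ) : gFam F (𝟙 S) n →+ (powBicx f F).tot ⊤ (n : ℤ) :=
  ((powBicx f F).atZero n).comp (epsB f F n)

theorem D_epsTot (n : ℕ) (l : gFam F (𝟙 S) n) :
    (powBicx f F).D (epsTot f F n l).1 = (epsTot f F (n + 1) ((botLvl F).dI n l)).1 := by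
  refine ((powBicx f F).D_atZero n _ ((powBicx_δ f F 0 n _).trans (dB_epsB f F n l))).trans ?_
  refine congrArg (fun a => ((powBicx f F).atZero (n + 1) a).1) ((powBicx_d f F 0 n _).trans ?_)
  exact (famPull_dI F _ _ n l).symm

theorem epsTot_nzAll {n : ℕ} {l : gFam F (𝟙 S) n} (h : ∀ᶠ t in 𝓝 s, l t = 0) :
    (epsTot f F n l).1 ∈ nzAll f F s := by
  intro p q
  cases p with
  | zero =>
    by_cases hq : q = n
    · subst hq
      rw [show (epsTot f F q l).1 0 q = epsB f F q l from (powBicx f F).atZero_self q _]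
      intro z
      exact famPull_eventually_zero F _ _ q (z := z.1) (by rw [(z.2 : pwBase f 0 z.1 = s)]; exact h)
    · rw [show (epsTot f F n l).1 0 q = 0 from (powBicx f F).atZero_ne n _ hq]
      exact NZ.zero f F s 0 q
  | succ p =>
    rw [show (epsTot f F n l).1 (p + 1) q = 0 from (powBicx f F).atZero_succ n _ p q]
    exact NZ.zero f F s _ q

include hx₀ in
/-- Injectivity of the augmentation near the fibre. -/
theorem stalk_injective {l : gFam F (𝟙 S) 0} (hl : l ∈ (botLvl F).N s)
    (h : (epsTot f F 0 l).1 ∈ nzAll f F s) : ∀ᶠ t in 𝓝 s, l t = 0 := by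
  have h0 : NZ f F s 0 0 (epsB f F 0 l) := by
    have := h 0 0
    rwa [show (epsTot f F 0 l).1 0 0 = epsB f F 0 l from (powBicx f F).atZero_self 0 _] at this
  have h1 : (epsB f F 0 l : (pwLvl f F 0).Fam) (ptZ f s x₀ hx₀ PUnit.unit).1 = 0 :=
    (h0 (ptZ f s x₀ hx₀ PUnit.unit)).self_of_nhds
  rw [famPull_zero_apply] at h1
  refine (botLvl F).eventually_zero s l hl ?_
  have h2 := (castHom_bijective F (rfl : pwBase f 0 (ptZ f s x₀ hx₀ PUnit.unit).1 = _)).1
    (h1.trans (map_zero _).symm)
  rwa [(ptZ f s x₀ hx₀ PUnit.unit).2] at h2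

include hx₀ hg in
/-- Exactness in degree zero near the fibre. -/
theorem stalk_zero (x : (powBicx f F).All) (hx : x ∈ (powBicx f F).tot ⊤ ((0 : ℕ) : ℤ))
    (hD : (powBicx f F).D x ∈ nzAll f F s) :
    ∃ e : gFam F (𝟙 S) 0, e ∈ (botLvl F).N s ∧ x - (epsTot f F 0 e).1 ∈ nzAll f F s := by
  let G := fibBicx f F s x₀ hx₀
  let z := rAll f F s x₀ hx₀ x
  have hz : z ∈ G.tot ⊤ ((0 : ℕ) : ℤ) := rAll_mem_tot f F s x₀ hx₀ hx
  have hDz : G.D z = 0 := (rAll_D f F s x₀ hx₀ x).symm.trans (rAll_nzAll f F s x₀ hx₀ hD)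
  obtain ⟨l, hl⟩ := G.exists_augHom_eq 0 z hz (fun p q => G.vanish_above hz (p + 1) q (by lia))
    (by rw [hDz]; rfl)
  obtain ⟨t, ht, hts⟩ := (botLvl F).surj s ((l : (baseLvl F (ptS s)).Fam) PUnit.unit)
  have hrl : rPt F s 0 (t : gFam F (𝟙 S) 0) = l := funext fun pt => by
    refine (famPull_zero_apply F _ _ _ pt).trans ?_
    exact hts
  have hdt : ∀ᶠ w in 𝓝 s, (botLvl F).dI 0 (t : gFam F (𝟙 S) 0) w = 0 :=
    ((botLvl F).loc s t ht).mono fun w hw => (botLvl F).cls_eq_zero.2 hw
  refine ⟨t, ht, ?_⟩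
  let a := x - (epsTot f F 0 (t : gFam F (𝟙 S) 0)).1
  have ha : a ∈ (powBicx f F).tot ⊤ ((0 : ℕ) : ℤ) := sub_mem hx (epsTot f F 0 _).2
  have hDa : (powBicx f F).D a ∈ nzAll f F s := by
    rw [map_sub, D_epsTot]
    exact sub_mem hD (epsTot_nzAll f F s hdt)
  intro p q
  by_cases hpq : p = 0 ∧ q = 0
  · obtain ⟨rfl, rfl⟩ := hpq
    refine fun w => restr_zero (restrHom F (pwBase f 0) (zh f s 0) (fibIncl (pwBase f 0) s)
      fun _ => rfl) rfl (restrHom_injective F _ _ _ fun _ => rfl) (a 0 0)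
      (dI_NZ_of_D f F s (fun p q hp => absurd hp (Nat.not_lt_zero p)) hDa) ?_ w
    show rMap f F s 0 0 (a 0 0) = 0
    rw [show a 0 0 = id (α := gFam F (pwBase f 0) 0) (x 0 0) - epsB f F 0 t from
        congrArg (x 0 0 - ·) ((powBicx f F).atZero_self 0 _),
      map_sub, rMap_epsB, hrl, sub_eq_zero]
    exact (congrFun (congrFun hl 0) 0).symm.trans (G.augHom_zero_self 0 l)
  · have h0 : a p q = 0 := ha p q fun e => hpq (by have := e.1; push_cast at this; omega)
    show NZ f F s p q (a p q)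
    rw [h0]
    exact NZ.zero f F s p q

include hx₀ hg in
/-- Exactness in positive degrees near the fibre. -/
theorem stalk_succ (n : ℕ) (x : (powBicx f F).All)
    (hx : x ∈ (powBicx f F).tot ⊤ ((n + 1 : ℕ) : ℤ)) (hD : (powBicx f F).D x ∈ nzAll f F s) :
    ∃ w ∈ (powBicx f F).tot ⊤ (n : ℤ), x - (powBicx f F).D w ∈ nzAll f F s := by
  let G := fibBicx f F s x₀ hx₀
  let z := rAll f F s x₀ hx₀ x
  have hz : z ∈ G.tot ⊤ ((n + 1 : ℕ) : ℤ) := rAll_mem_tot f F s x₀ hx₀ hx
  have hDz : G.D z = 0 := (rAll_D f F s x₀ hx₀ x).symm.trans (rAll_nzAll f F s x₀ hx₀ hD)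
  obtain ⟨w, hw, hw'⟩ := G.reduce _ (n + 1) z hz (fun p q hp => G.vanish_above hz p q hp)
    (fun p q => by rw [hDz]; rfl)
  have hw1 : w ∈ G.tot ⊤ (n : ℤ) := by simpa using hw
  have hmem : z - G.D w ∈ G.tot ⊤ ((n + 1 : ℕ) : ℤ) :=
    sub_mem hz (by push_cast; exact G.D_mem hw1)
  obtain ⟨l, hl⟩ := G.exists_augHom_eq (n + 1) _ hmem hw' (by
    rw [map_sub, G.D_D, hDz, sub_zero]
    rfl)
  have hdl : G.L.d (n + 1) (n + 1 + 1) l = 0 := by
    refine G.augHom_injective (n + 1 + 1) (Subtype.ext ?_)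
    rw [← SpSeqE1.AugBicx.D_augHom, hl, map_sub, G.D_D, hDz, sub_zero, map_zero]
    rfl
  have hlN : (l : gFam F (ptS s) (n + 1)) ∈ ((baseLvl F (ptS s)).iter (n + 1)).N PUnit.unit :=
    ((baseLvl F (ptS s)).iter (n + 1)).cls_eq_zero.1
      (congrFun ((godCx_d_dI _ (n + 1) l).symm.trans hdl) PUnit.unit)
  obtain ⟨m, hm⟩ := hlN
  have hlm : G.L.d n (n + 1) m = l := by
    refine (godCx_d_dI _ n m).trans (funext fun pt => ?_)
    exact (hm.self_of_nhds).symm
  obtain ⟨b, hb, hzb⟩ : ∃ b ∈ G.tot ⊤ (n : ℤ), G.D b = z := by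
    refine ⟨(G.augHom n m).1 + w, add_mem (G.augHom n m).2 hw1, ?_⟩
    rw [map_add, SpSeqE1.AugBicx.D_augHom, hlm, hl, sub_add_cancel]
  obtain ⟨u, hu, hu'⟩ := lift_cone f F s x₀ hx₀ hg n (n + 2) 0 (by lia) x hx b hb hD hzb.symm
    fun p q hp => absurd hp (Nat.not_lt_zero p)
  exact ⟨u, hu, hu'⟩

end Groth.Agent.TopDescent
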